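import Mathlib
import Cfsg.Agent.Lib.Blocks.Main
import Cfsg.Agent.Lib.Blocks.Third
import Cfsg.Agent.Lib.Blocks.Sections
import Cfsg.Agent.Lib.Blk89.PrinBlock
import Cfsg.Agent.Lib.BlockH.Basic
import Cfsg.Agent.Lib.Char.ClassProd
import Cfsg.Agent.Lib.Char.Degree
import Cfsg.Agent.Lib.Char.Linear
import Cfsg.Agent.Lib.Coh2.ClassCongr

/-!
# Character values and blocks in the presence of a TI Sylow subgroup

Integrality of character values at real elements of order dividing `6`, the Frobenius congruences,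
and the vanishing of characters outside the principal block on singular elements when the local
subgroups have a normal self-centralizing Sylow subgroup.
-/

set_option autoImplicit false
set_option linter.unusedSectionVars false
set_option linter.style.haveILetI false

namespace Cfsg.Agent.Lib.Nine.Basic

open Cfsg
open Cfsg.Agent.Lib.Blocks.Local Cfsg.Agent.Lib.Blocks.Main Cfsg.Agent.Lib.Blocks.Third
open scoped ComplexConjugate

universe u

variable {G : Type u} [Group G]

lemma add_inv_int_of_pow_six {z : ℂ} (hz : z ^ 6 = 1) : ∃ n : ℤ, z + z⁻¹ = n := by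
  have h0 : z ≠ 0 := by
    rintro rfl
    norm_num at hz
  have hf : (z - 1) * (z + 1) * (z ^ 2 + z + 1) * (z ^ 2 - z + 1) = 0 := by
    linear_combination hz
  have hinv : z * z⁻¹ = 1 := mul_inv_cancel₀ h0
  rcases mul_eq_zero.mp hf with hf | hf
  · rcases mul_eq_zero.mp hf with hf | hf
    · rcases mul_eq_zero.mp hf with hf | hf
      · have h1 : z = 1 := sub_eq_zero.mp hf
        exact ⟨2, by rw [h1]; norm_num⟩
      · have h1 : z = -1 := eq_neg_of_add_eq_zero_left hf
        exact ⟨-2, by rw [h1]; norm_num⟩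
    · refine ⟨-1, ?_⟩
      push_cast
      linear_combination z⁻¹ * hf - (z + 1) * hinv
  · refine ⟨1, ?_⟩
    push_cast
    linear_combination z⁻¹ * hf - (z - 1) * hinv

/-- A character value at a real element of order dividing `6` is an integer. -/
theorem exists_int_of_pow_six [Finite G] {χ : G → ℂ} (hχ : IsCharacter G χ) {w : G} (hw : w ^ 6 = 1)
    (hinv : χ w⁻¹ = χ w) : ∃ n : ℤ, χ w = n := by
  classical
  obtain ⟨n, ρ, rfl⟩ := hχ
  obtain ⟨b, c, h1, h2, -, h3⟩ := Cfsg.Agent.Lib.Char.Ortho.exists_eigenbasis_of_rep ρ w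
  have e1 : ρ.character w = ∑ i, c i := Cfsg.Agent.Lib.Char.Ortho.trace_eq_sum_of_eigenbasis (ρ w) b c h1
  have e2 : ρ.character w⁻¹ = ∑ i, (c i)⁻¹ :=
    Cfsg.Agent.Lib.Char.Ortho.trace_eq_sum_of_eigenbasis (ρ w⁻¹) b _ h3
  have h6 : ∀ i, c i ^ 6 = 1 := by
    intro i
    obtain ⟨k, hk⟩ := orderOf_dvd_of_pow_eq_one hw
    rw [hk, pow_mul, h2 i, one_pow]
  choose m hm using fun i => add_inv_int_of_pow_six (h6 i)
  have hsum : (2 : ℂ) * ρ.character w = ((∑ i, m i : ℤ) : ℂ) := by
    have : (2 : ℂ) * ρ.character w = ρ.character w + ρ.character w⁻¹ := by rw [hinv]; ring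
    rw [this, e1, e2, ← Finset.sum_add_distrib]
    push_cast
    exact Finset.sum_congr rfl fun i _ => hm i
  exact Cfsg.Agent.Lib.Coh2.ClassCongr.exists_int_of_isIntegral_of_mul
    (Cfsg.Agent.Lib.Char.Eigen.character_isIntegral ρ w) (a := 2) (by norm_num)
    (by push_cast; exact_mod_cast hsum)

/-- Frobenius congruence for integer values. -/
theorem int_pow_dvd [Finite G] {q : ℕ} (hq : q.Prime) {χ : G → ℂ} (hχ : IsCharacter G χ) (g : G)
    {a b : ℤ} (ha : χ g = a) (hb : χ (g ^ q) = b) : (q : ℤ) ∣ a ^ q - b := by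
  obtain ⟨M, hM⟩ := Cfsg.Agent.Lib.BlockH.Basic.exists_isPModular hq
  obtain ⟨a', b', ha', hb', hab⟩ := Cfsg.Agent.Lib.Blocks.Sections.char_pow_congr hM hχ g 1
  rw [pow_one] at hab hb'
  have e1 : a' = (a : AlgInt) := Subtype.ext (by rw [ha', ha]; simp)
  have e2 : b' = (b : AlgInt) := Subtype.ext (by rw [hb', hb]; simp)
  rw [e1, e2, ← map_pow] at hab
  have h3 : ((a : AlgInt) ^ q - (b : AlgInt)) ∈ M := Ideal.Quotient.eq.mp hab
  have h4 : (((a ^ q - b : ℤ)) : AlgInt) ∈ M := by
    push_cast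
    exact h3
  exact (intCast_mem_iff hM _).mp h4

theorem two_dvd_sub {a b : ℤ} (h : (2 : ℤ) ∣ a ^ 2 - b) : (2 : ℤ) ∣ a - b := by
  have h1 : (2 : ℤ) ∣ a ^ 2 - a := by
    have := Int.even_mul_pred_self a
    obtain ⟨k, hk⟩ := this
    exact ⟨k, by linear_combination hk⟩
  have := dvd_sub h h1
  have e : a ^ 2 - b - (a ^ 2 - a) = a - b := by ring
  rwa [e] at this

theorem three_dvd_sub {a b : ℤ} (h : (3 : ℤ) ∣ a ^ 3 - b) : (3 : ℤ) ∣ a - b := by
  have h1 : (3 : ℤ) ∣ a ^ 3 - a := by
    have h2 : a % 3 = 0 ∨ a % 3 = 1 ∨ a % 3 = 2 := by omega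
    have : (a ^ 3 - a) % 3 = 0 := by
      rcases h2 with h2 | h2 | h2 <;> simp [Int.sub_emod, pow_succ, Int.mul_emod, h2]
    exact Int.dvd_of_emod_eq_zero this
  have := dvd_sub h h1
  have e : a ^ 3 - b - (a ^ 3 - a) = a - b := by ring
  rwa [e] at this

/-- `χ(g)² ≡ χ(g²)` modulo `2` for integer values. -/
theorem int_two_congr [Finite G] {χ : G → ℂ} (hχ : IsCharacter G χ) (g : G) {a b : ℤ} (ha : χ g = a)
    (hb : χ (g ^ 2) = b) : (2 : ℤ) ∣ a - b :=
  two_dvd_sub (by simpa using int_pow_dvd Nat.prime_two hχ g ha hb)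

/-- `χ(g)³ ≡ χ(g³)` modulo `3` for integer values. -/
theorem int_three_congr [Finite G] {χ : G → ℂ} (hχ : IsCharacter G χ) (g : G) {a b : ℤ} (ha : χ g = a)
    (hb : χ (g ^ 3) = b) : (3 : ℤ) ∣ a - b :=
  three_dvd_sub (by simpa using int_pow_dvd Nat.prime_three hχ g ha hb)

section Blocks

variable [Fintype G] {M : Ideal AlgInt} {p : ℕ} [hp : Fact p.Prime]

/-- **The vanishing lemma.** A character outside the principal block vanishes on `t c`, for `t`
in an abelian `p`-subgroup `T` with `C(T) ≤ T`, `C(t) ≤ N(T)`, and `c ∈ C(t)` regular. -/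
theorem vanish_of_not_principal (hM : IsPModular p M) (T : Subgroup G) (hTp : IsPGroup p T)
    (hN : ∀ t ∈ T, t ≠ 1 → Subgroup.centralizer ({t} : Set G) ≤ Subgroup.normalizer (T : Set G))
    (hC : Subgroup.centralizer (T : Set G) ≤ T) (hab : ∀ a ∈ T, ∀ b ∈ T, a * b = b * a)
    {χ : IrrCharacter G} (hχ : χ ∉ principalBlock M G) {t : G} (ht : t ∈ T) (ht1 : t ≠ 1)
    (c : Subgroup.centralizer ({t} : Set G)) (hc : ¬ p ∣ orderOf c) :
    (χ : G → ℂ) (t * c) = 0 := by
  classical
  haveI := isPrime_of_pModular hM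
  revert c hc
  set H := Subgroup.centralizer ({t} : Set G) with hH
  intro c hc
  letI : Fintype H := Fintype.ofFinite _
  haveI := Cfsg.Agent.Lib.Char.Ortho.finite_irrCharacter (G := H)
  letI : Fintype (IrrCharacter H) := Fintype.ofFinite _
  haveI := Cfsg.Agent.Lib.Char.Ortho.finite_irrCharacter (G := G)
  letI : Fintype (IrrCharacter G) := Fintype.ofFinite _
  -- `H` has just one block
  have hTH : T ≤ H := by
    intro a ha
    rw [hH, Subgroup.mem_centralizer_singleton_iff]
    exact hab a ha t ht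
  set Q : Subgroup H := T.subgroupOf H with hQ
  have hQn : Q.Normal := by
    constructor
    intro a ha g
    rw [hQ, Subgroup.mem_subgroupOf] at ha ⊢
    have h1 := hN t ht ht1 g.2
    rw [Subgroup.mem_normalizer_iff] at h1
    push_cast
    exact (h1 _).mp ha
  have hQp : IsPGroup p Q := by
    rw [hQ]
    exact hTp.comap_of_injective H.subtype Subtype.val_injective
  have hQC : Subgroup.centralizer (Q : Set H) ≤ Q := by
    intro a ha
    rw [hQ, Subgroup.mem_subgroupOf]
    apply hC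
    rw [Subgroup.mem_centralizer_iff] at ha ⊢
    intro b hb
    have hbQ : (⟨b, hTH hb⟩ : H) ∈ (Q : Set H) := by
      rw [SetLike.mem_coe, hQ, Subgroup.mem_subgroupOf]
      exact hb
    have := ha _ hbQ
    exact congrArg Subtype.val this
  have hall : ∀ ψ : IrrCharacter H, ψ ∈ principalBlock M H := by
    intro ψ
    have := Cfsg.Agent.Lib.Blk89.PrinBlock.sameBlock_of_centralizer_le hM Q hQn hQp hQC (oneI H) ψ
    exact this
  -- second main theorem
  have hto : ∃ k : ℕ, orderOf t = p ^ k := by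
    obtain ⟨k, hk⟩ := (IsPGroup.iff_orderOf.mp hTp) ⟨t, ht⟩
    exact ⟨k, by rw [← hk, Subgroup.orderOf_mk]⟩
  have hb₀ : IsPBlock M (principalBlock M H) := ⟨oneI H, rfl⟩
  have hB : IsPBlock M (blockOf M (χ : G → ℂ)) := ⟨χ, rfl⟩
  have hmem : χ ∈ blockOf M (χ : G → ℂ) := Cfsg.Agent.Lib.Blocks.Central.mem_blockOf_self χ
  have hnot : ¬ IsInducedBlock M H (principalBlock M H) (blockOf M (χ : G → ℂ)) := by
    intro hind
    apply hχ
    have h1 := (third_main hM H ⟨_, hind⟩).mpr rfl
    intro g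
    have h3 := h1.2.2 (oneI H) (hall _) (oneI G) (Cfsg.Agent.Lib.Blocks.Central.mem_blockOf_self (oneI G)) g
    have h4 := hind.2.2 (oneI H) (hall _) χ hmem g
    have h5 := memLocalIdeal_sub h4 h3
    have e : (inducedCentralChar H ((oneI H : IrrCharacter H) : H → ℂ) g - centralChar (χ : G → ℂ) g) -
        (inducedCentralChar H ((oneI H : IrrCharacter H) : H → ℂ) g -
          centralChar ((oneI G : IrrCharacter G) : G → ℂ) g) =
        centralChar (fun _ : G => (1 : ℂ)) g - centralChar (χ : G → ℂ) g := by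
      have : ((oneI G : IrrCharacter G) : G → ℂ) = fun _ : G => (1 : ℂ) := rfl
      rw [this]
      ring
    rwa [e] at h5
  have h2 := second_main hM hto hB hmem hb₀ hnot c hc
  rw [blockPart_apply] at h2
  have hxc : ∀ c : H, t * (c : G) = (c : G) * t := by
    intro c
    have := c.2
    simp only [hH, Subgroup.mem_centralizer_iff, Set.mem_singleton_iff, forall_eq] at this
    exact this
  have hcl : IsClassFunction H (fun c : H => (χ : G → ℂ) (t * (c : G))) := by
    intro g h
    have hχcl := Cfsg.Agent.Lib.Char.Basic.isClassFunction_of_isIrrCharacter χ.2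
    have := hχcl (t * (g : G)) (h : G)
    change (χ : G → ℂ) (t * ((h : G) * g * (h : G)⁻¹)) = (χ : G → ℂ) (t * g)
    rw [← this]
    have h1 := hxc h
    have e : t * ((h : G) * g * (h : G)⁻¹) = (h : G) * (t * g) * (h : G)⁻¹ := by
      calc t * ((h : G) * g * (h : G)⁻¹) = (t * (h : G)) * g * (h : G)⁻¹ := by group
        _ = ((h : G) * t) * g * (h : G)⁻¹ := by rw [h1]
        _ = _ := by group
    rw [e]
  have hexp := congrFun (Cfsg.Agent.Lib.Char.Complete.classFunction_eq_sum hcl) c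
  simp only [Finset.sum_apply, Pi.smul_apply, smul_eq_mul] at hexp
  rw [hexp, ← h2]
  refine Finset.sum_congr rfl fun ψ _ => ?_
  rw [if_pos (hall ψ)]

/-- A member of the principal block does not vanish at an element with class size prime to `p`. -/
theorem ne_zero_of_principal (hM : IsPModular p M) {χ : IrrCharacter G} (hχ : χ ∈ principalBlock M G) {g : G}
    (hg : ¬ p ∣ (Subgroup.centralizer ({g} : Set G)).index) : (χ : G → ℂ) g ≠ 0 := by
  intro h0
  have h1 := hχ g
  have e : centralChar (fun _ : G => (1 : ℂ)) g - centralChar (χ : G → ℂ) g =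
      ((Subgroup.centralizer ({g} : Set G)).index : ℂ) := by
    simp [centralChar, h0]
  rw [e] at h1
  exact hg ((natCast_memLocalIdeal_iff hM _).mp h1)

/-- The degree divides the class size times an integer value. -/
theorem deg_dvd_of_int {χ : IrrCharacter G} {g : G} {a : ℤ} {d : ℤ} (hd : (χ : G → ℂ) 1 = d)
    (ha : (χ : G → ℂ) g = a) (hd0 : d ≠ 0) :
    d ∣ (Subgroup.centralizer ({g} : Set G)).index * a := by
  have h1 := Cfsg.Agent.Lib.Blocks.Central.isIntegral_centralChar χ g
  have hd0' : (d : ℂ) ≠ 0 := by exact_mod_cast hd0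
  obtain ⟨n, hn⟩ := Cfsg.Agent.Lib.Coh2.ClassCongr.exists_int_of_isIntegral_of_mul h1 (a := d)
    (b := (Subgroup.centralizer ({g} : Set G)).index * a) hd0 (by
      rw [centralChar, hd, ha]
      push_cast
      field_simp)
  refine ⟨n, ?_⟩
  have : (((Subgroup.centralizer ({g} : Set G)).index * a : ℤ) : ℂ) = ((d * n : ℤ) : ℂ) := by
    push_cast
    rw [← hn, centralChar, hd, ha]
    field_simp
  exact_mod_cast this

/-- The sum of a character over a subgroup is a multiple of its order. -/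
theorem exists_nat_sum_subgroup (H : Subgroup G) [Fintype H] {χ : G → ℂ} (hχ : IsCharacter G χ) :
    ∃ n : ℕ, ∑ h : H, χ h = (Nat.card H : ℂ) * n := by
  classical
  have h1 := Cfsg.Agent.Lib.Char.Basic.isCharacter_restrict H hχ
  have h2 : IsCharacter H (fun _ : H => (1 : ℂ)) :=
    Cfsg.Agent.Lib.Char.Basic.isCharacter_of_isIrrCharacter Cfsg.Agent.Lib.Char.Burnside.isIrrCharacter_one
  obtain ⟨n, hn⟩ := Cfsg.Agent.Lib.Char.Ortho.exists_nat_classInner h1 h2
  refine ⟨n, ?_⟩
  rw [← hn, classInner]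
  have h0 : (Nat.card H : ℂ) ≠ 0 := Nat.cast_ne_zero.mpr Nat.card_pos.ne'
  simp only [map_one, mul_one]
  field_simp

end Blocks

end Cfsg.Agent.Lib.Nine.Basic
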