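import Mathlib

/-!
# Coordinates on an elementary abelian group of order `9`
-/

set_option autoImplicit false
set_option linter.unusedSectionVars false
set_option linter.style.haveILetI false

namespace Cfsg.Agent.Lib.Nine.Coord

universe u

variable {G : Type u} [Group G]

/-- The coordinate map. -/
def τ (u v : G) (p : ZMod 3 × ZMod 3) : G := u ^ p.1.val * v ^ p.2.val

theorem pow_add_val {t : G} (h : t ^ 3 = 1) (a b : ZMod 3) : t ^ (a + b).val = t ^ a.val * t ^ b.val := by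
  rw [ZMod.val_add, ← pow_eq_pow_mod _ h, pow_add]

theorem pow_neg_val {t : G} (h : t ^ 3 = 1) (a : ZMod 3) : t ^ (-a).val = (t ^ a.val)⁻¹ := by
  rw [eq_inv_iff_mul_eq_one, ← pow_add_val h, neg_add_cancel]
  simp

theorem inv_pow_val {t : G} (h : t ^ 3 = 1) (a : ZMod 3) : (t⁻¹) ^ a.val = t ^ (-a).val := by
  rw [pow_neg_val h, inv_pow]

theorem pow_val_eq_one {t : G} (h : t ^ 3 = 1) (h1 : t ≠ 1) {a : ZMod 3} (ha : t ^ a.val = 1) : a = 0 := by
  have h2 : orderOf t = 3 := orderOf_eq_prime h h1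
  have h3 := orderOf_dvd_of_pow_eq_one ha
  rw [h2] at h3
  have h4 : a.val < 3 := ZMod.val_lt a
  have h5 : a.val = 0 := by omega
  exact (ZMod.val_eq_zero a).mp h5

theorem sq_eq_one_of_cube {t : G} (h : t ^ 3 = 1) (h2 : t ^ 2 = 1) : t = 1 := by
  have : t = t ^ 3 * (t ^ 2)⁻¹ := by group
  rw [this, h, h2]
  group

theorem τ_zero (u v : G) : τ u v 0 = 1 := by
  simp [τ]

section

variable {u v : G} (hu : u ^ 3 = 1) (hv : v ^ 3 = 1) (huv : Commute u v)

include hu hv huv

theorem τ_add (p q : ZMod 3 × ZMod 3) : τ u v (p + q) = τ u v p * τ u v q := by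
  simp only [τ, Prod.fst_add, Prod.snd_add, pow_add_val hu, pow_add_val hv]
  have : Commute (v ^ p.2.val) (u ^ q.1.val) := (huv.symm.pow_pow _ _)
  calc u ^ p.1.val * u ^ q.1.val * (v ^ p.2.val * v ^ q.2.val)
      = u ^ p.1.val * (u ^ q.1.val * v ^ p.2.val) * v ^ q.2.val := by group
    _ = u ^ p.1.val * (v ^ p.2.val * u ^ q.1.val) * v ^ q.2.val := by rw [this.eq]
    _ = _ := by group

/-- If an element fixes `u` and inverts `v`, then the coordinate map is injective. -/
theorem τ_inj {c : G} (hu1 : u ≠ 1) (hv1 : v ≠ 1) (hcu : c * u * c⁻¹ = u) (hcv : c * v * c⁻¹ = v⁻¹) :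
    Function.Injective (τ u v) := by
  have key : ∀ p, τ u v p = 1 → p = 0 := by
    rintro ⟨a, b⟩ h
    have h1 : u ^ a.val * v ^ b.val = 1 := h
    have h2 : u ^ a.val * (v⁻¹) ^ b.val = 1 := by
      have h3 : c * (u ^ a.val * v ^ b.val) * c⁻¹ = 1 := by rw [h1]; group
      have h4 : c * (u ^ a.val * v ^ b.val) * c⁻¹ = (c * u * c⁻¹) ^ a.val * (c * v * c⁻¹) ^ b.val := by
        rw [conj_pow, conj_pow]
        group
      rw [h4, hcu, hcv] at h3
      exact h3
    have h5 : (v ^ b.val) ^ 2 = 1 := by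
      have h6 : v ^ b.val = (v⁻¹) ^ b.val := by
        have : u ^ a.val * v ^ b.val = u ^ a.val * (v⁻¹) ^ b.val := by rw [h1, h2]
        exact mul_left_cancel this
      rw [pow_two]
      nth_rewrite 2 [h6]
      rw [inv_pow, mul_inv_cancel]
    have h7 : (v ^ b.val) ^ 3 = 1 := by
      rw [← pow_mul, mul_comm, pow_mul, hv, one_pow]
    have h8 : v ^ b.val = 1 := sq_eq_one_of_cube h7 h5
    have hb : b = 0 := pow_val_eq_one hv hv1 h8
    rw [h8, mul_one] at h1
    have ha : a = 0 := pow_val_eq_one hu hu1 h1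
    rw [ha, hb]
    rfl
  intro p q hpq
  have h1 : τ u v (p - q) = 1 := by
    have h2 : τ u v (p - q) * τ u v q = τ u v q := by
      rw [← τ_add hu hv huv, sub_add_cancel, hpq]
    exact mul_eq_right.mp h2
  exact sub_eq_zero.mp (key _ h1)

/-- Surjectivity onto a subgroup of order `9`. -/
theorem τ_surj {T : Subgroup G} [Finite T] (hcard : Nat.card T = 9) (hu' : u ∈ T) (hv' : v ∈ T)
    (hinj : Function.Injective (τ u v)) {y : G} (hy : y ∈ T) : ∃ p, τ u v p = y := by
  classical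
  let g : ZMod 3 × ZMod 3 → T := fun p => ⟨τ u v p, T.mul_mem (T.pow_mem hu' _) (T.pow_mem hv' _)⟩
  have hg : Function.Injective g := fun p q h => hinj (congrArg Subtype.val h)
  have hc : Nat.card (ZMod 3 × ZMod 3) = Nat.card T := by
    rw [hcard, Nat.card_eq_fintype_card]
    rfl
  have hb : Function.Surjective g := (Function.Injective.bijective_of_nat_card_le hg (le_of_eq hc.symm)).2
  obtain ⟨p, hp⟩ := hb ⟨y, hy⟩
  exact ⟨p, congrArg Subtype.val hp⟩

end

/-- Two elements which act by exponents `±1` on `v` have a commutator fixing `v`. -/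
theorem comm_act {r s v : G} {a b : ℤ} (ha : a = 1 ∨ a = -1) (hb : b = 1 ∨ b = -1) (h1 : r * v * r⁻¹ = v ^ a)
    (h2 : s * v * s⁻¹ = v ^ b) : (r * s * r⁻¹ * s⁻¹) * v * (r * s * r⁻¹ * s⁻¹)⁻¹ = v := by
  have haa : a * a = 1 := by rcases ha with h | h <;> rw [h] <;> norm_num
  have hbb : b * b = 1 := by rcases hb with h | h <;> rw [h] <;> norm_num
  have e1 : r⁻¹ * v * r = v ^ a := by
    have h3 : r⁻¹ * (r * v * r⁻¹) * r = v := by group
    rw [h1] at h3
    have h4 : (r⁻¹ * v * r) ^ a = r⁻¹ * v ^ a * r := by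
      have := conj_zpow (a := r⁻¹) (b := v) (i := a)
      simpa using this
    rw [← h4] at h3
    calc r⁻¹ * v * r = ((r⁻¹ * v * r) ^ a) ^ a := by
          rw [← zpow_mul, haa, zpow_one]
      _ = v ^ a := by rw [h3]
  have e2 : s⁻¹ * v * s = v ^ b := by
    have h3 : s⁻¹ * (s * v * s⁻¹) * s = v := by group
    rw [h2] at h3
    have h4 : (s⁻¹ * v * s) ^ b = s⁻¹ * v ^ b * s := by
      have := conj_zpow (a := s⁻¹) (b := v) (i := b)
      simpa using this
    rw [← h4] at h3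
    calc s⁻¹ * v * s = ((s⁻¹ * v * s) ^ b) ^ b := by
          rw [← zpow_mul, hbb, zpow_one]
      _ = v ^ b := by rw [h3]
  have c1 : ∀ k : ℤ, r⁻¹ * v ^ k * r = v ^ (a * k) := by
    intro k
    have := conj_zpow (a := r⁻¹) (b := v) (i := k)
    simp only [inv_inv] at this
    rw [← this, e1, ← zpow_mul]
  have c2 : ∀ k : ℤ, s * v ^ k * s⁻¹ = v ^ (b * k) := by
    intro k
    rw [← conj_zpow, h2, ← zpow_mul]
  have c3 : ∀ k : ℤ, r * v ^ k * r⁻¹ = v ^ (a * k) := by
    intro k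
    rw [← conj_zpow, h1, ← zpow_mul]
  calc (r * s * r⁻¹ * s⁻¹) * v * (r * s * r⁻¹ * s⁻¹)⁻¹
      = r * (s * (r⁻¹ * (s⁻¹ * v * s) * r) * s⁻¹) * r⁻¹ := by group
    _ = v ^ (a * (b * (a * b))) := by rw [e2, c1, c2, c3]
    _ = v := by
      have : a * (b * (a * b)) = (a * a) * (b * b) := by ring
      rw [this, haa, hbb]
      simp

end Cfsg.Agent.Lib.Nine.Coord
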