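import Mathlib.Tactic

/-!
# A linear system over the natural numbers

Counting problem for the lattice with Gram matrix `4 1 2 2 / 1 4 2 2 / 2 2 4 1 / 2 2 1 4`.
-/

set_option autoImplicit false

namespace Cfsg.Agent.Lib.Nine.D8Solve

theorem solve (n0 n1 n2 n3 n4 n5 n6 n7 n8 n9 n10 n11 n12 n13 n14 n15 n16 n17 n18 n19 n20 n21 n22 n23 n24 n25 n26 : ℕ)
    (h0 : (n0 + n1 + n4 + n5 + n13 + n14 + n15 + n16 + n17 + n18 + n19 + n20 + n21 + n22 + n23 + n24 + n25 + n26 = 4))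
    (h1 : (n2 + n3 + n4 + n6 + n10 + n11 + n12 + n13 + n14 + n15 + n16 + n17 + n18 + n22 + n23 + n24 + n25 + n26 = 4))
    (h2 : (n0 + n2 + n4 + n7 + n9 + n10 + n11 + n12 + n13 + n14 + n17 + n18 + n19 + n20 + n21 + n22 + n23 + n26 = 4))
    (h3 : (n1 + n3 + n4 + n8 + n9 + n10 + n11 + n12 + n13 + n15 + n16 + n18 + n19 + n20 + n21 + n23 + n24 + n26 = 4))
    (h4 : (n4 + n22 + n23 + n24 + n25 + n26 = n13 + n14 + n15 + n16 + n17 + n18 + 1))
    (h5 : (n4 + n9 + n10 + n13 + n18 + n19 = n11 + n12 + n20 + n21 + n23 + n26 + 1))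
    (h6 : (n0 + n4 + n17 + n18 + n21 + n26 = n13 + n14 + n19 + n20 + n22 + n23 + 2))
    (h7 : (n1 + n4 + n16 + n18 + n20 + n23 = n13 + n15 + n19 + n21 + n24 + n26 + 2))
    (h8 : (n2 + n4 + n12 + n13 + n14 + n26 = n10 + n11 + n17 + n18 + n22 + n23 + 2))
    (h9 : (n3 + n4 + n11 + n13 + n15 + n23 = n10 + n12 + n16 + n18 + n24 + n26 + 2))
    : n0 = 1 ∧ n1 = 1 ∧ n2 = 1 ∧ n3 = 1 ∧ n4 = 1 ∧ n5 = 1 ∧ n6 = 1 ∧ n7 = 1 ∧ n8 = 1 ∧ n9 = 0 ∧ n10 = 0 ∧ n11 = 0 ∧ n12 = 0 ∧ n13 = 0 ∧ n14 = 0 ∧ n15 = 0 ∧ n16 = 0 ∧ n17 = 0 ∧ n18 = 0 ∧ n19 = 0 ∧ n20 = 0 ∧ n21 = 0 ∧ n22 = 0 ∧ n23 = 0 ∧ n24 = 0 ∧ n25 = 0 ∧ n26 = 0 := by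
  have e9 : n9 = 0 := by
    by_contra hne
    have : 1 ≤ n9 := Nat.one_le_iff_ne_zero.mpr hne
    linarith
  have e10 : n10 = 0 := by
    by_contra hne
    have : 1 ≤ n10 := Nat.one_le_iff_ne_zero.mpr hne
    linarith
  have e11 : n11 = 0 := by
    by_contra hne
    have : 1 ≤ n11 := Nat.one_le_iff_ne_zero.mpr hne
    linarith
  have e12 : n12 = 0 := by
    by_contra hne
    have : 1 ≤ n12 := Nat.one_le_iff_ne_zero.mpr hne
    linarith
  have e13 : n13 = 0 := by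
    by_contra hne
    have : 1 ≤ n13 := Nat.one_le_iff_ne_zero.mpr hne
    linarith
  have e14 : n14 = 0 := by
    by_contra hne
    have : 1 ≤ n14 := Nat.one_le_iff_ne_zero.mpr hne
    linarith
  have e15 : n15 = 0 := by
    by_contra hne
    have : 1 ≤ n15 := Nat.one_le_iff_ne_zero.mpr hne
    linarith
  have e16 : n16 = 0 := by
    by_contra hne
    have : 1 ≤ n16 := Nat.one_le_iff_ne_zero.mpr hne
    linarith
  have e17 : n17 = 0 := by
    by_contra hne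
    have : 1 ≤ n17 := Nat.one_le_iff_ne_zero.mpr hne
    linarith
  have e18 : n18 = 0 := by
    by_contra hne
    have : 1 ≤ n18 := Nat.one_le_iff_ne_zero.mpr hne
    linarith
  have e19 : n19 = 0 := by
    by_contra hne
    have : 1 ≤ n19 := Nat.one_le_iff_ne_zero.mpr hne
    linarith
  have e20 : n20 = 0 := by
    by_contra hne
    have : 1 ≤ n20 := Nat.one_le_iff_ne_zero.mpr hne
    linarith
  have e21 : n21 = 0 := by
    by_contra hne
    have : 1 ≤ n21 := Nat.one_le_iff_ne_zero.mpr hne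
    linarith
  have e22 : n22 = 0 := by
    by_contra hne
    have : 1 ≤ n22 := Nat.one_le_iff_ne_zero.mpr hne
    linarith
  have e23 : n23 = 0 := by
    by_contra hne
    have : 1 ≤ n23 := Nat.one_le_iff_ne_zero.mpr hne
    linarith
  have e24 : n24 = 0 := by
    by_contra hne
    have : 1 ≤ n24 := Nat.one_le_iff_ne_zero.mpr hne
    linarith
  have e25 : n25 = 0 := by
    by_contra hne
    have : 1 ≤ n25 := Nat.one_le_iff_ne_zero.mpr hne
    linarith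
  have e26 : n26 = 0 := by
    by_contra hne
    have : 1 ≤ n26 := Nat.one_le_iff_ne_zero.mpr hne
    linarith
  subst e9 e10 e11 e12 e13 e14 e15 e16 e17 e18 e19 e20 e21 e22 e23 e24 e25 e26
  omega

end Cfsg.Agent.Lib.Nine.D8Solve
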