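import Mathlib
import Cfsg.Agent.Lib.Nine.D8Solve

/-!
# The lattice classification behind the `3² : D₈` coherence

An abstract statement about four integer functions on a finite type, with the orthogonality
relations of four columns of a character table.
-/

set_option autoImplicit false
set_option maxRecDepth 100000
set_option linter.unusedSectionVars false
set_option linter.unusedSimpArgs false

namespace Cfsg.Agent.Lib.Nine.D8Coh

def c1 : Fin 28 → ℤ := ![-1, -1, 0, 0, -1, 1, 0, 0, 0, 0, 0, 0, 0, 1, 1, 1, 1, 1, 1, 1, 1, 1, 1, 1, 1, 1, 1, 0]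
def c2 : Fin 28 → ℤ := ![0, 0, -1, -1, -1, 0, 1, 0, 0, 0, 1, 1, 1, -1, -1, -1, -1, -1, -1, 0, 0, 0, 1, 1, 1, 1, 1, 0]
def c3 : Fin 28 → ℤ := ![-1, 0, -1, 0, -1, 0, 0, 1, 0, 1, -1, -1, 1, -1, -1, 0, 0, 1, 1, -1, -1, 1, -1, -1, 0, 0, 1, 0]
def c4 : Fin 28 → ℤ := ![0, -1, 0, -1, -1, 0, 0, 0, 1, 1, -1, 1, -1, -1, 0, -1, 1, 0, 1, -1, 1, -1, 0, 1, -1, 0, -1, 0]


def sgn : Bool → ℤ
  | true => 1
  | false => -1

def tbl : Fin 3 → ℤ := ![-1, 0, 1]

theorem exists_cls_fin : ∀ a b c d : Fin 3,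
    ((tbl a = 0 ∧ tbl b = 0 ∧ tbl c = 0 ∧ tbl d = 0) ∨
      (tbl a + tbl b - 2 * tbl c - 2 * tbl d ≠ 0 ∧ tbl c + tbl d - 2 * tbl a - 2 * tbl b ≠ 0 ∧
        ((tbl a + tbl b - 2 * tbl c - 2 * tbl d) % 3 ≠ 0 ∨
          tbl a + tbl b + tbl c + tbl d ≠ 0))) →
    ∃ (j : Fin 28) (s : Bool), tbl a = sgn s * c1 j ∧ tbl b = sgn s * c2 j ∧ tbl c = sgn s * c3 j ∧
      tbl d = sgn s * c4 j := by
  decide +kernel

theorem tbl_surj {a : ℤ} (h : a = -1 ∨ a = 0 ∨ a = 1) : ∃ i : Fin 3, tbl i = a := by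
  rcases h with rfl | rfl | rfl
  · exact ⟨0, rfl⟩
  · exact ⟨1, rfl⟩
  · exact ⟨2, rfl⟩

theorem exists_cls {a b c d : ℤ} (ha : a = -1 ∨ a = 0 ∨ a = 1) (hb : b = -1 ∨ b = 0 ∨ b = 1)
    (hc : c = -1 ∨ c = 0 ∨ c = 1) (hd : d = -1 ∨ d = 0 ∨ d = 1)
    (hf : (a = 0 ∧ b = 0 ∧ c = 0 ∧ d = 0) ∨
      (a + b - 2 * c - 2 * d ≠ 0 ∧ c + d - 2 * a - 2 * b ≠ 0 ∧
        ((a + b - 2 * c - 2 * d) % 3 ≠ 0 ∨ a + b + c + d ≠ 0))) :
    ∃ (j : Fin 28) (s : ℤ), (s = 1 ∨ s = -1) ∧ a = s * c1 j ∧ b = s * c2 j ∧ c = s * c3 j ∧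
      d = s * c4 j := by
  obtain ⟨a', rfl⟩ := tbl_surj ha
  obtain ⟨b', rfl⟩ := tbl_surj hb
  obtain ⟨c', rfl⟩ := tbl_surj hc
  obtain ⟨d', rfl⟩ := tbl_surj hd
  obtain ⟨j, s, h⟩ := exists_cls_fin a' b' c' d' hf
  refine ⟨j, sgn s, ?_, h⟩
  cases s
  · right; rfl
  · left; rfl

variable {ι : Type*} [Fintype ι] [DecidableEq ι]

theorem entry_bound (a b : ι → ℤ) (h1 : ∑ i, a i ^ 2 = 4) (h2 : ∑ i, a i * b i = 1) (i : ι) :
    a i = -1 ∨ a i = 0 ∨ a i = 1 := by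
  by_contra hne
  push Not at hne
  obtain ⟨h3, h4, h5⟩ := hne
  have hsq : 4 ≤ a i ^ 2 := by
    have : a i ≤ -2 ∨ 2 ≤ a i := by omega
    rcases this with h | h <;> nlinarith
  have hj : ∀ j, j ≠ i → a j = 0 := by
    intro j hj
    have h6 : a i ^ 2 + a j ^ 2 ≤ ∑ k, a k ^ 2 := by
      have := Finset.sum_le_sum_of_subset_of_nonneg (f := fun k => a k ^ 2)
        (Finset.subset_univ {i, j}) (fun k _ _ => sq_nonneg _)
      rwa [Finset.sum_pair hj.symm] at this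
    have h7 : a j ^ 2 ≤ 0 := by linarith
    have h8 : a j ^ 2 = 0 := le_antisymm h7 (sq_nonneg _)
    exact pow_eq_zero_iff (by norm_num) |>.mp h8
  have h6 : a i * b i = 1 := by
    rw [← h2]
    symm
    apply Finset.sum_eq_single i
    · intro j _ hji
      rw [hj j hji, zero_mul]
    · simp
  rcases Int.eq_one_or_neg_one_of_mul_eq_one h6 with h | h
  · exact h5 h
  · exact h3 h

theorem sum_cls (cl : ι → Fin 28) (f : Fin 28 → ℤ) :
    ∑ i, f (cl i) = ∑ j, ((Finset.univ.filter (fun i => cl i = j)).card : ℤ) * f j := by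
  rw [← Finset.sum_fiberwise (s := Finset.univ) (g := cl)]
  refine Finset.sum_congr rfl fun j _ => ?_
  rw [Finset.sum_congr rfl (g := fun _ => f j) (fun i hi => by rw [(Finset.mem_filter.mp hi).2]),
    Finset.sum_const, nsmul_eq_mul]

/-- The classification of the vectors. -/
theorem classify_k (k1 k2 k3 k4 : ι → ℤ)
    (g11 : ∑ i, k1 i ^ 2 = 4) (g22 : ∑ i, k2 i ^ 2 = 4) (g33 : ∑ i, k3 i ^ 2 = 4)
    (g44 : ∑ i, k4 i ^ 2 = 4) (g12 : ∑ i, k1 i * k2 i = 1) (g34 : ∑ i, k3 i * k4 i = 1)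
    (g13 : ∑ i, k1 i * k3 i = 2) (g14 : ∑ i, k1 i * k4 i = 2) (g23 : ∑ i, k2 i * k3 i = 2)
    (g24 : ∑ i, k2 i * k4 i = 2)
    (hf : ∀ i, (k1 i = 0 ∧ k2 i = 0 ∧ k3 i = 0 ∧ k4 i = 0) ∨
      (k1 i + k2 i - 2 * k3 i - 2 * k4 i ≠ 0 ∧ k3 i + k4 i - 2 * k1 i - 2 * k2 i ≠ 0 ∧
        ((k1 i + k2 i - 2 * k3 i - 2 * k4 i) % 3 ≠ 0 ∨ k1 i + k2 i + k3 i + k4 i ≠ 0))) :
    ∃ (x : Fin 9 → ι) (s : Fin 9 → ℤ), Function.Injective x ∧ (∀ l, s l = 1 ∨ s l = -1) ∧
      (∀ l, k1 (x l) = s l * c1 (Fin.castLE (by norm_num) l) ∧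
        k2 (x l) = s l * c2 (Fin.castLE (by norm_num) l) ∧
        k3 (x l) = s l * c3 (Fin.castLE (by norm_num) l) ∧
        k4 (x l) = s l * c4 (Fin.castLE (by norm_num) l)) ∧
      ∀ i, i ∉ Set.range x → k1 i = 0 ∧ k2 i = 0 ∧ k3 i = 0 ∧ k4 i = 0 := by
  classical
  have b1 := entry_bound k1 k2 g11 g12
  have b2 := entry_bound k2 k1 g22 (by simpa [mul_comm] using g12)
  have b3 := entry_bound k3 k4 g33 g34
  have b4 := entry_bound k4 k3 g44 (by simpa [mul_comm] using g34)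
  choose cl s hs h1 h2 h3 h4 using fun i => exists_cls (b1 i) (b2 i) (b3 i) (b4 i) (hf i)
  have hss : ∀ i, s i * s i = 1 := by
    intro i
    rcases hs i with h | h <;> rw [h] <;> norm_num
  set n : Fin 28 → ℕ := fun j => (Finset.univ.filter (fun i => cl i = j)).card with hn
  have key : ∀ (a b : ι → ℤ) (ca cb : Fin 28 → ℤ), (∀ i, a i = s i * ca (cl i)) →
      (∀ i, b i = s i * cb (cl i)) →
      ∑ i, a i * b i = ∑ j, (n j : ℤ) * (ca j * cb j) := by
    intro a b ca cb ha hb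
    rw [← sum_cls cl (fun j => ca j * cb j)]
    refine Finset.sum_congr rfl fun i _ => ?_
    rw [ha i, hb i]
    linear_combination (ca (cl i) * cb (cl i)) * hss i
  have e11 := key k1 k1 c1 c1 h1 h1
  have e22 := key k2 k2 c2 c2 h2 h2
  have e33 := key k3 k3 c3 c3 h3 h3
  have e44 := key k4 k4 c4 c4 h4 h4
  have e12 := key k1 k2 c1 c2 h1 h2
  have e34 := key k3 k4 c3 c4 h3 h4
  have e13 := key k1 k3 c1 c3 h1 h3
  have e14 := key k1 k4 c1 c4 h1 h4
  have e23 := key k2 k3 c2 c3 h2 h3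
  have e24 := key k2 k4 c2 c4 h2 h4
  simp only [pow_two] at g11 g22 g33 g44
  rw [g11] at e11
  rw [g22] at e22
  rw [g33] at e33
  rw [g44] at e44
  rw [g12] at e12
  rw [g34] at e34
  rw [g13] at e13
  rw [g14] at e14
  rw [g23] at e23
  rw [g24] at e24
  simp [Fin.sum_univ_succ, c1, c2, c3, c4] at e11 e22 e33 e44 e12 e34 e13 e14 e23 e24
  obtain ⟨z0, z1, z2, z3, z4, z5, z6, z7, z8, z9, z10, z11, z12, z13, z14, z15, z16, z17, z18, z19,
      z20, z21, z22, z23, z24, z25, z26⟩ := Cfsg.Agent.Lib.Nine.D8Solve.solve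
    (n 0) (n 1) (n 2) (n 3) (n 4) (n 5) (n 6) (n 7) (n 8) (n 9) (n 10) (n 11) (n 12) (n 13) (n 14)
    (n 15) (n 16) (n 17) (n 18) (n 19) (n 20) (n 21) (n 22) (n 23) (n 24) (n 25) (n 26)
    (by zify; linear_combination (-1 : ℤ) * e11) (by zify; linear_combination (-1 : ℤ) * e22)
    (by zify; linear_combination (-1 : ℤ) * e33) (by zify; linear_combination (-1 : ℤ) * e44)
    (by zify; linear_combination (-1 : ℤ) * e12) (by zify; linear_combination (-1 : ℤ) * e34)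
    (by zify; linear_combination (-1 : ℤ) * e13) (by zify; linear_combination (-1 : ℤ) * e14)
    (by zify; linear_combination (-1 : ℤ) * e23) (by zify; linear_combination (-1 : ℤ) * e24)
  have hle : 9 ≤ 28 := by norm_num
  have hn1 : ∀ l : Fin 9, n (Fin.castLE hle l) = 1 := by
    intro l
    fin_cases l
    · exact z0
    · exact z1
    · exact z2
    · exact z3
    · exact z4
    · exact z5
    · exact z6
    · exact z7
    · exact z8
  have hn0 : ∀ j : Fin 28, 9 ≤ j.val → j.val < 27 → n j = 0 := by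
    intro j h h'
    obtain ⟨j, hj⟩ := j
    simp only at h h'
    interval_cases j
    · exact z9
    · exact z10
    · exact z11
    · exact z12
    · exact z13
    · exact z14
    · exact z15
    · exact z16
    · exact z17
    · exact z18
    · exact z19
    · exact z20
    · exact z21
    · exact z22
    · exact z23
    · exact z24
    · exact z25
    · exact z26
  have hx : ∀ l : Fin 9, ∃ i, Finset.univ.filter (fun i => cl i = Fin.castLE hle l) = {i} :=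
    fun l => Finset.card_eq_one.mp (hn1 l)
  choose x hx using hx
  have hcl : ∀ l, cl (x l) = Fin.castLE hle l := by
    intro l
    have h5 : x l ∈ Finset.univ.filter (fun i => cl i = Fin.castLE hle l) := by
      rw [hx l]
      exact Finset.mem_singleton_self _
    exact (Finset.mem_filter.mp h5).2
  have huniq : ∀ l i, cl i = Fin.castLE hle l → i = x l := by
    intro l i h5
    have h6 : i ∈ Finset.univ.filter (fun i => cl i = Fin.castLE hle l) :=
      Finset.mem_filter.mpr ⟨Finset.mem_univ _, h5⟩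
    rw [hx l] at h6
    exact Finset.mem_singleton.mp h6
  refine ⟨x, fun l => s (x l), ?_, fun l => hs _, ?_, ?_⟩
  · intro l l' h5
    have h6 := hcl l
    rw [h5, hcl l'] at h6
    exact Fin.castLE_injective hle h6.symm
  · intro l
    refine ⟨?_, ?_, ?_, ?_⟩
    · rw [h1, hcl]
    · rw [h2, hcl]
    · rw [h3, hcl]
    · rw [h4, hcl]
  · intro i hi
    by_cases h5 : (cl i).val < 9
    · exfalso
      apply hi
      exact ⟨⟨(cl i).val, h5⟩, (huniq _ i (Fin.ext rfl)).symm⟩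
    · by_cases h6 : (cl i).val < 27
      · exfalso
        have h7 := hn0 (cl i) (by omega) h6
        have h8 : i ∈ Finset.univ.filter (fun i' => cl i' = cl i) :=
          Finset.mem_filter.mpr ⟨Finset.mem_univ _, rfl⟩
        rw [Finset.card_eq_zero.mp h7] at h8
        exact absurd h8 (Finset.notMem_empty _)
      · have h7 : cl i = 27 := by
          apply Fin.ext
          have := (cl i).isLt
          change (cl i).val = 27
          omega
        rw [h1, h2, h3, h4, h7]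
        simp [c1, c2, c3, c4]

def φA : Fin 9 → ℤ := ![1, 1, 1, 1, 2, 1, 1, -2, -2]
def φC : Fin 9 → ℤ := ![1, 1, 1, 1, 2, -2, -2, 1, 1]
def φA' : Fin 9 → ℤ := ![1, 1, -1, -1, 0, -1, 1, 0, 0]
def φC' : Fin 9 → ℤ := ![1, -1, 1, -1, 0, 0, 0, -1, 1]

theorem phi_A : ∀ l : Fin 9, c1 (Fin.castLE (by norm_num) l) + c2 (Fin.castLE (by norm_num) l) -
    2 * c3 (Fin.castLE (by norm_num) l) - 2 * c4 (Fin.castLE (by norm_num) l) = φA l := by decide
theorem phi_C : ∀ l : Fin 9, c3 (Fin.castLE (by norm_num) l) + c4 (Fin.castLE (by norm_num) l) -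
    2 * c1 (Fin.castLE (by norm_num) l) - 2 * c2 (Fin.castLE (by norm_num) l) = φC l := by decide
theorem phi_A' : ∀ l : Fin 9, c2 (Fin.castLE (by norm_num) l) - c1 (Fin.castLE (by norm_num) l) = φA' l := by
  decide
theorem phi_C' : ∀ l : Fin 9, c4 (Fin.castLE (by norm_num) l) - c3 (Fin.castLE (by norm_num) l) = φC' l := by
  decide

theorem bilin (p y p' q' : ι → ℤ)
    (spp : ∑ i, p i * p i = 18) (syy : ∑ i, y i * y i = 18) (sp'p' : ∑ i, p' i * p' i = 6)
    (sq'q' : ∑ i, q' i * q' i = 6) (spy : ∑ i, p i * y i = 0) (spp' : ∑ i, p i * p' i = 0)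
    (spq' : ∑ i, p i * q' i = 0) (syp' : ∑ i, y i * p' i = 0) (syq' : ∑ i, y i * q' i = 0)
    (sp'q' : ∑ i, p' i * q' i = 0) (a b c d a' b' c' d' : ℤ) :
    ∑ i, (a * p i + b * y i + c * p' i + d * q' i) * (a' * p i + b' * y i + c' * p' i + d' * q' i) =
      18 * a * a' + 18 * b * b' + 6 * c * c' + 6 * d * d' := by
  have e : ∀ i, (a * p i + b * y i + c * p' i + d * q' i) * (a' * p i + b' * y i + c' * p' i + d' * q' i) =
      a * a' * (p i * p i) + b * b' * (y i * y i) + c * c' * (p' i * p' i) + d * d' * (q' i * q' i) +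
      (a * b' + b * a') * (p i * y i) + (a * c' + c * a') * (p i * p' i) + (a * d' + d * a') * (p i * q' i) +
      (b * c' + c * b') * (y i * p' i) + (b * d' + d * b') * (y i * q' i) + (c * d' + d * c') * (p' i * q' i) := by
    intro i; ring
  simp only [e, Finset.sum_add_distrib, ← Finset.mul_sum, spp, syy, sp'p', sq'q', spy, spp', spq', syp',
    syq', sp'q']
  ring

/-- **The classification.** -/
theorem coh (p y p' q' : ι → ℤ)
    (c2' : ∀ i, (2 : ℤ) ∣ p i - p' i) (c2'' : ∀ i, (2 : ℤ) ∣ y i - q' i) (c3' : ∀ i, (3 : ℤ) ∣ p i - y i)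
    (spp : ∑ i, p i * p i = 18) (syy : ∑ i, y i * y i = 18) (sp'p' : ∑ i, p' i * p' i = 6)
    (sq'q' : ∑ i, q' i * q' i = 6) (spy : ∑ i, p i * y i = 0) (spp' : ∑ i, p i * p' i = 0)
    (spq' : ∑ i, p i * q' i = 0) (syp' : ∑ i, y i * p' i = 0) (syq' : ∑ i, y i * q' i = 0)
    (sp'q' : ∑ i, p' i * q' i = 0)
    (hf : ∀ i, (p i = 0 ∧ y i = 0 ∧ p' i = 0 ∧ q' i = 0) ∨
      (p i ≠ 0 ∧ y i ≠ 0 ∧ (p i % 3 ≠ 0 ∨ p i + y i ≠ 0))) :
    ∃ (x : Fin 9 → ι) (s : Fin 9 → ℤ), Function.Injective x ∧ (∀ l, s l = 1 ∨ s l = -1) ∧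
      (∀ l, p (x l) = s l * φA l ∧ y (x l) = s l * φC l ∧ p' (x l) = s l * φA' l ∧
        q' (x l) = s l * φC' l) ∧
      ∀ i, i ∉ Set.range x → p i = 0 ∧ y i = 0 ∧ p' i = 0 ∧ q' i = 0 := by
  have ex1 : ∀ i, ∃ k : ℤ, -1 * p i + -2 * y i + -3 * p' i + 0 * q' i = 6 * k := by
    intro i
    have h1 := c2' i
    have h2 := c3' i
    exact (by omega : (6 : ℤ) ∣ -1 * p i + -2 * y i + -3 * p' i + 0 * q' i)
  have ex2 : ∀ i, ∃ k : ℤ, -1 * p i + -2 * y i + 3 * p' i + 0 * q' i = 6 * k := by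
    intro i
    have h1 := c2' i
    have h2 := c3' i
    exact (by omega : (6 : ℤ) ∣ -1 * p i + -2 * y i + 3 * p' i + 0 * q' i)
  have ex3 : ∀ i, ∃ k : ℤ, -2 * p i + -1 * y i + 0 * p' i + -3 * q' i = 6 * k := by
    intro i
    have h1 := c2'' i
    have h2 := c3' i
    exact (by omega : (6 : ℤ) ∣ -2 * p i + -1 * y i + 0 * p' i + -3 * q' i)
  have ex4 : ∀ i, ∃ k : ℤ, -2 * p i + -1 * y i + 0 * p' i + 3 * q' i = 6 * k := by
    intro i
    have h1 := c2'' i
    have h2 := c3' i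
    exact (by omega : (6 : ℤ) ∣ -2 * p i + -1 * y i + 0 * p' i + 3 * q' i)
  choose k1 h1 using ex1
  choose k2 h2 using ex2
  choose k3 h3 using ex3
  choose k4 h4 using ex4
  have B := bilin p y p' q' spp syy sp'p' sq'q' spy spp' spq' syp' syq' sp'q'
  have gram : ∀ (ka kb : ι → ℤ) (a b c d a' b' c' d' g : ℤ),
      (∀ i, a * p i + b * y i + c * p' i + d * q' i = 6 * ka i) →
      (∀ i, a' * p i + b' * y i + c' * p' i + d' * q' i = 6 * kb i) →
      18 * a * a' + 18 * b * b' + 6 * c * c' + 6 * d * d' = 36 * g → ∑ i, ka i * kb i = g := by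
    intro ka kb a b c d a' b' c' d' g ha hb hg
    have h5 := B a b c d a' b' c' d'
    simp only [ha, hb] at h5
    have h6 : ∑ i, 6 * ka i * (6 * kb i) = 36 * ∑ i, ka i * kb i := by
      rw [Finset.mul_sum]
      exact Finset.sum_congr rfl fun i _ => by ring
    rw [h6, hg] at h5
    linarith
  have g11 := gram k1 k1 _ _ _ _ _ _ _ _ 4 h1 h1 (by norm_num)
  have g22 := gram k2 k2 _ _ _ _ _ _ _ _ 4 h2 h2 (by norm_num)
  have g33 := gram k3 k3 _ _ _ _ _ _ _ _ 4 h3 h3 (by norm_num)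
  have g44 := gram k4 k4 _ _ _ _ _ _ _ _ 4 h4 h4 (by norm_num)
  have g12 := gram k1 k2 _ _ _ _ _ _ _ _ 1 h1 h2 (by norm_num)
  have g34 := gram k3 k4 _ _ _ _ _ _ _ _ 1 h3 h4 (by norm_num)
  have g13 := gram k1 k3 _ _ _ _ _ _ _ _ 2 h1 h3 (by norm_num)
  have g14 := gram k1 k4 _ _ _ _ _ _ _ _ 2 h1 h4 (by norm_num)
  have g23 := gram k2 k3 _ _ _ _ _ _ _ _ 2 h2 h3 (by norm_num)
  have g24 := gram k2 k4 _ _ _ _ _ _ _ _ 2 h2 h4 (by norm_num)
  have hp : ∀ i, p i = k1 i + k2 i - 2 * k3 i - 2 * k4 i := by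
    intro i; have := h1 i; have := h2 i; have := h3 i; have := h4 i; omega
  have hy : ∀ i, y i = k3 i + k4 i - 2 * k1 i - 2 * k2 i := by
    intro i; have := h1 i; have := h2 i; have := h3 i; have := h4 i; omega
  have hp' : ∀ i, p' i = k2 i - k1 i := by
    intro i; have := h1 i; have := h2 i; omega
  have hq' : ∀ i, q' i = k4 i - k3 i := by
    intro i; have := h3 i; have := h4 i; omega
  obtain ⟨x, s, hinj, hs, hv, hz⟩ := classify_k k1 k2 k3 k4 (by simpa only [pow_two] using g11)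
    (by simpa only [pow_two] using g22) (by simpa only [pow_two] using g33)
    (by simpa only [pow_two] using g44) g12 g34 g13 g14 g23 g24 (by
      intro i
      rcases hf i with ⟨a, b, c, d⟩ | ⟨a, b, c⟩
      · left
        have := h1 i; have := h2 i; have := h3 i; have := h4 i
        omega
      · right
        rw [← hp, ← hy]
        refine ⟨a, b, ?_⟩
        rcases c with c | c
        · exact Or.inl c
        · right
          intro h
          apply c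
          rw [hp, hy]
          omega)
  refine ⟨x, s, hinj, hs, ?_, ?_⟩
  · intro l
    obtain ⟨a, b, c, d⟩ := hv l
    refine ⟨?_, ?_, ?_, ?_⟩
    · rw [hp, a, b, c, d, ← phi_A l]; ring
    · rw [hy, a, b, c, d, ← phi_C l]; ring
    · rw [hp', a, b, ← phi_A' l]; ring
    · rw [hq', c, d, ← phi_C' l]; ring
  · intro i hi
    obtain ⟨a, b, c, d⟩ := hz i hi
    refine ⟨?_, ?_, ?_, ?_⟩
    · rw [hp, a, b, c, d]; norm_num
    · rw [hy, a, b, c, d]; norm_num
    · rw [hp', a, b]; norm_num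
    · rw [hq', c, d]; norm_num

end Cfsg.Agent.Lib.Nine.D8Coh
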