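import Mathlib
import Cfsg.Agent.Lib.Nine.D8Coh

/-!
# The algebra of the class constants for `3² : D₈`
-/

set_option autoImplicit false
set_option linter.unusedSectionVars false
set_option linter.unusedSimpArgs false

namespace Cfsg.Agent.Lib.Nine.D8Alg

open Cfsg.Agent.Lib.Nine.D8Coh

variable {K : Type*} [Field K] [CharZero K]

/-- The rank two form on a plane. -/
def Pf (d0 d1 Ψ a b a' b' : K) : K :=
  d0 * a * a' + d1 * b * b' - (d0 * a + d1 * b) * (d0 * a' + d1 * b') / (d0 + d1 + Ψ)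

/-- The three identities on a plane. -/
theorem plane {d0 d1 Ψ u0 u1 v0 v1 g11 g12 g22 : K} (hD : d0 + d1 + Ψ ≠ 0)
    (h11 : Pf d0 d1 Ψ u0 u1 u0 u1 = g11) (h12 : Pf d0 d1 Ψ u0 u1 v0 v1 = g12)
    (h22 : Pf d0 d1 Ψ v0 v1 v0 v1 = g22) :
    d0 * Ψ * (g22 * u0 ^ 2 - 2 * g12 * u0 * v0 + g11 * v0 ^ 2) = (d0 + Ψ) * (g11 * g22 - g12 ^ 2) ∧
    d1 * Ψ * (g22 * u1 ^ 2 - 2 * g12 * u1 * v1 + g11 * v1 ^ 2) = (d1 + Ψ) * (g11 * g22 - g12 ^ 2) ∧
    Ψ * (g22 * u0 * u1 - g12 * (u0 * v1 + u1 * v0) + g11 * v0 * v1) = g11 * g22 - g12 ^ 2 := by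
  subst h11 h12 h22
  simp only [Pf]
  refine ⟨?_, ?_, ?_⟩ <;> · field_simp; ring

/-- A numerical consequence. -/
theorem coef_eq {A B C D c1 c2 c3 c4 μ : K} (h1 : c1 * A = μ) (h2 : c2 * B = μ) (h3 : c3 * C = μ)
    (h4 : c4 * D = μ) (hX : A * B = C * D) (hμ : μ ≠ 0) : c1 * c2 = c3 * c4 := by
  have hab : A * B ≠ 0 := by
    intro h
    have : μ * μ = 0 := by
      calc μ * μ = (c1 * A) * (c2 * B) := by rw [h1, h2]
        _ = c1 * c2 * (A * B) := by ring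
        _ = 0 := by rw [h, mul_zero]
    exact hμ (mul_self_eq_zero.mp this)
  apply mul_right_cancel₀ hab
  calc c1 * c2 * (A * B) = (c1 * A) * (c2 * B) := by ring
    _ = (c3 * C) * (c4 * D) := by rw [h1, h2, h3, h4]
    _ = c3 * c4 * (A * B) := by rw [hX]; ring

/-- The case without fusion of the central involutions. -/
theorem case1 {A B C Ψ μ u0 ua ub uc v0 va vb vc : K} (hΨ : Ψ ≠ 0) (hμ : μ ≠ 0) (hA : A ≠ 0) (hB : B ≠ 0)
    (hC : C ≠ 0) (hD1 : 1 + A + Ψ ≠ 0) (hD2 : B + C + Ψ ≠ 0) (hD3 : 1 + B + Ψ ≠ 0) (hD4 : A + C + Ψ ≠ 0)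
    (p1a : Pf 1 A Ψ u0 ua u0 ua = μ / 2) (p1b : Pf 1 A Ψ u0 ua v0 va = 0) (p1c : Pf 1 A Ψ v0 va v0 va = μ)
    (p2a : Pf B C Ψ ub uc ub uc = μ / 2) (p2b : Pf B C Ψ ub uc vb vc = 0) (p2c : Pf B C Ψ vb vc vb vc = μ)
    (p3a : Pf 1 B Ψ u0 ub u0 ub = μ) (p3b : Pf 1 B Ψ u0 ub v0 vb = 0) (p3c : Pf 1 B Ψ v0 vb v0 vb = μ / 2)
    (p4a : Pf A C Ψ ua uc ua uc = μ) (p4b : Pf A C Ψ ua uc va vc = 0) (p4c : Pf A C Ψ va vc va vc = μ / 2) :
    C = 1 := by
  obtain ⟨a1, a2, a3⟩ := plane hD1 p1a p1b p1c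
  obtain ⟨b1, b2, b3⟩ := plane hD2 p2a p2b p2c
  obtain ⟨c1, c2, c3⟩ := plane hD3 p3a p3b p3c
  obtain ⟨d1, d2, d3⟩ := plane hD4 p4a p4b p4c
  have sq0 : v0 ^ 2 = u0 ^ 2 := by
    have h : μ * Ψ * (u0 ^ 2 - v0 ^ 2) = 0 := by
      linear_combination (2 : K) * a1 - (2 : K) * c1
    have := mul_ne_zero hμ hΨ
    have h2 := (mul_eq_zero.mp h).resolve_left this
    linear_combination -h2
  have sqa : va ^ 2 = ua ^ 2 := by
    have h : μ * (A * Ψ) * (ua ^ 2 - va ^ 2) = 0 := by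
      linear_combination (2 : K) * a2 - (2 : K) * d1
    have := mul_ne_zero hμ (mul_ne_zero hA hΨ)
    have h2 := (mul_eq_zero.mp h).resolve_left this
    linear_combination -h2
  have sqb : vb ^ 2 = ub ^ 2 := by
    have h : μ * (B * Ψ) * (ub ^ 2 - vb ^ 2) = 0 := by
      linear_combination (2 : K) * b1 - (2 : K) * c2
    have := mul_ne_zero hμ (mul_ne_zero hB hΨ)
    have h2 := (mul_eq_zero.mp h).resolve_left this
    linear_combination -h2
  have sqc : vc ^ 2 = uc ^ 2 := by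
    have h : μ * (C * Ψ) * (uc ^ 2 - vc ^ 2) = 0 := by
      linear_combination (2 : K) * b2 - (2 : K) * d2
    have := mul_ne_zero hμ (mul_ne_zero hC hΨ)
    have h2 := (mul_eq_zero.mp h).resolve_left this
    linear_combination -h2
  have hm2 : μ / 2 ≠ 0 := div_ne_zero hμ two_ne_zero
  have canc : ∀ x : K, μ * x = 0 → x = 0 := fun x hx => (mul_eq_zero.mp hx).resolve_left hμ
  have E1 : Ψ * (2 * u0 * ua + v0 * va) = μ := by
    have := canc (Ψ * (2 * u0 * ua + v0 * va) - μ) (by linear_combination (2 : K) * a3)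
    linear_combination this
  have E2 : Ψ * (2 * ub * uc + vb * vc) = μ := by
    have := canc (Ψ * (2 * ub * uc + vb * vc) - μ) (by linear_combination (2 : K) * b3)
    linear_combination this
  have E3 : Ψ * (u0 * ub + 2 * v0 * vb) = μ := by
    have := canc (Ψ * (u0 * ub + 2 * v0 * vb) - μ) (by linear_combination (2 : K) * c3)
    linear_combination this
  have E4 : Ψ * (ua * uc + 2 * va * vc) = μ := by
    have := canc (Ψ * (ua * uc + 2 * va * vc) - μ) (by linear_combination (2 : K) * d3)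
    linear_combination this
  have F0 : 3 * Ψ * u0 ^ 2 = (1 + Ψ) * μ := by
    have := canc (3 * Ψ * u0 ^ 2 - (1 + Ψ) * μ) (by linear_combination (2 : K) * c1 - (2 : K) * μ * Ψ * sq0)
    linear_combination this
  have Fc : 3 * (C * Ψ) * uc ^ 2 = (C + Ψ) * μ := by
    have := canc (3 * (C * Ψ) * uc ^ 2 - (C + Ψ) * μ) (by linear_combination (2 : K) * b2 - μ * (C * Ψ) * sqc)
    linear_combination this
  have sgn : ∀ {x y : K}, y ^ 2 = x ^ 2 → ∃ ε : K, (ε = 1 ∨ ε = -1) ∧ y = ε * x := by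
    intro x y h
    rcases eq_or_eq_neg_of_sq_eq_sq _ _ h with h | h
    · exact ⟨1, Or.inl rfl, by rw [h, one_mul]⟩
    · exact ⟨-1, Or.inr rfl, by rw [h]; ring⟩
  obtain ⟨ε0, hε0, rfl⟩ := sgn sq0
  obtain ⟨εa, hεa, rfl⟩ := sgn sqa
  obtain ⟨εb, hεb, rfl⟩ := sgn sqb
  obtain ⟨εc, hεc, rfl⟩ := sgn sqc
  have E1' : (2 + ε0 * εa) * (Ψ * u0 * ua) = μ := by linear_combination E1
  have E2' : (2 + εb * εc) * (Ψ * ub * uc) = μ := by linear_combination E2
  have E3' : (1 + 2 * (ε0 * εb)) * (Ψ * u0 * ub) = μ := by linear_combination E3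
  have E4' : (1 + 2 * (εa * εc)) * (Ψ * ua * uc) = μ := by linear_combination E4
  have key := coef_eq E1' E2' E3' E4' (by ring) hμ
  have hub : Ψ * ub ≠ 0 := by
    intro h
    apply hμ
    rw [← E2']
    linear_combination (2 + εb * εc) * uc * h
  have hh : (2 + εb * εc) * uc = (1 + 2 * (ε0 * εb)) * u0 := by
    apply mul_left_cancel₀ hub
    linear_combination E2' - E3'
  have hsq : uc ^ 2 = u0 ^ 2 := by
    have h2 : ((2 + εb * εc) * uc) ^ 2 = ((1 + 2 * (ε0 * εb)) * u0) ^ 2 := by rw [hh]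
    rcases hε0 with rfl | rfl <;> rcases hεa with rfl | rfl <;> rcases hεb with rfl | rfl <;>
      rcases hεc with rfl | rfl <;> norm_num at key <;>
      first
        | linear_combination (1 / 9 : K) * h2
        | linear_combination h2
  have h5 : μ * Ψ * (C - 1) = 0 := by
    linear_combination Fc - C * F0 - (3 : K) * C * Ψ * hsq
  have h6 := (mul_eq_zero.mp h5).resolve_left (mul_ne_zero hμ hΨ)
  linear_combination h6

/-- The case of fusion of the central involution with a noncentral one. -/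
theorem case2 {A B C Ψ μ u0 ua ub uc v0 va vb vc : K} (hΨ : Ψ ≠ 0) (hμ : μ ≠ 0) (hA : A ≠ 0) (hB : B ≠ 0)
    (hC : C ≠ 0) (hD1 : 1 + A + Ψ ≠ 0) (hD2 : B + C + Ψ ≠ 0) (hD3 : 1 + B + Ψ ≠ 0) (hD4 : A + C + Ψ ≠ 0)
    (p1a : Pf 1 A Ψ u0 ua u0 ua = 8 * μ) (p1b : Pf 1 A Ψ u0 ua v0 va = 0) (p1c : Pf 1 A Ψ v0 va v0 va = μ)
    (p2a : Pf B C Ψ ub uc ub uc = 2 * μ) (p2b : Pf B C Ψ ub uc vb vc = 0) (p2c : Pf B C Ψ vb vc vb vc = μ)
    (p3a : Pf 1 B Ψ u0 ub u0 ub = 11 / 2 * μ) (p3b : Pf 1 B Ψ u0 ub v0 vb = 3 / 2 * μ)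
    (p3c : Pf 1 B Ψ v0 vb v0 vb = μ / 2)
    (p4a : Pf A C Ψ ua uc ua uc = 11 / 2 * μ) (p4b : Pf A C Ψ ua uc va vc = -(3 / 2) * μ)
    (p4c : Pf A C Ψ va vc va vc = μ / 2) :
    C = 1 ∨ 17 * C * (1 + Ψ) = 81 * (C + Ψ) ∨ 17 * C * (1 + Ψ) = 1617 * (C + Ψ) := by
  obtain ⟨a1, a2, a3⟩ := plane hD1 p1a p1b p1c
  obtain ⟨b1, b2, b3⟩ := plane hD2 p2a p2b p2c
  obtain ⟨c1, c2, c3⟩ := plane hD3 p3a p3b p3c
  obtain ⟨d1, d2, d3⟩ := plane hD4 p4a p4b p4c
  have canc : ∀ x : K, μ * x = 0 → x = 0 := fun x hx => (mul_eq_zero.mp hx).resolve_left hμ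
  have A1 : Ψ * (u0 ^ 2 + 8 * v0 ^ 2) = 8 * (1 + Ψ) * μ := by
    have := canc (Ψ * (u0 ^ 2 + 8 * v0 ^ 2) - 8 * (1 + Ψ) * μ) (by linear_combination a1)
    linear_combination this
  have A2 : A * Ψ * (ua ^ 2 + 8 * va ^ 2) = 8 * (A + Ψ) * μ := by
    have := canc (A * Ψ * (ua ^ 2 + 8 * va ^ 2) - 8 * (A + Ψ) * μ) (by linear_combination a2)
    linear_combination this
  have A3 : Ψ * (u0 * ua + 8 * v0 * va) = 8 * μ := by
    have := canc (Ψ * (u0 * ua + 8 * v0 * va) - 8 * μ) (by linear_combination a3)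
    linear_combination this
  have B1 : B * Ψ * (ub ^ 2 + 2 * vb ^ 2) = 2 * (B + Ψ) * μ := by
    have := canc (B * Ψ * (ub ^ 2 + 2 * vb ^ 2) - 2 * (B + Ψ) * μ) (by linear_combination b1)
    linear_combination this
  have B2 : C * Ψ * (uc ^ 2 + 2 * vc ^ 2) = 2 * (C + Ψ) * μ := by
    have := canc (C * Ψ * (uc ^ 2 + 2 * vc ^ 2) - 2 * (C + Ψ) * μ) (by linear_combination b2)
    linear_combination this
  have B3 : Ψ * (ub * uc + 2 * vb * vc) = 2 * μ := by
    have := canc (Ψ * (ub * uc + 2 * vb * vc) - 2 * μ) (by linear_combination b3)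
    linear_combination this
  have C1 : Ψ * (u0 ^ 2 - 6 * u0 * v0 + 11 * v0 ^ 2) = (1 + Ψ) * μ := by
    have := canc (Ψ * (u0 ^ 2 - 6 * u0 * v0 + 11 * v0 ^ 2) - (1 + Ψ) * μ) (by linear_combination (2 : K) * c1)
    linear_combination this
  have C2 : B * Ψ * (ub ^ 2 - 6 * ub * vb + 11 * vb ^ 2) = (B + Ψ) * μ := by
    have := canc (B * Ψ * (ub ^ 2 - 6 * ub * vb + 11 * vb ^ 2) - (B + Ψ) * μ) (by linear_combination (2 : K) * c2)
    linear_combination this
  have C3 : Ψ * (u0 * ub - 3 * (u0 * vb + ub * v0) + 11 * v0 * vb) = μ := by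
    have := canc (Ψ * (u0 * ub - 3 * (u0 * vb + ub * v0) + 11 * v0 * vb) - μ) (by linear_combination (2 : K) * c3)
    linear_combination this
  have D1 : A * Ψ * (ua ^ 2 + 6 * ua * va + 11 * va ^ 2) = (A + Ψ) * μ := by
    have := canc (A * Ψ * (ua ^ 2 + 6 * ua * va + 11 * va ^ 2) - (A + Ψ) * μ) (by linear_combination (2 : K) * d1)
    linear_combination this
  have D2 : C * Ψ * (uc ^ 2 + 6 * uc * vc + 11 * vc ^ 2) = (C + Ψ) * μ := by
    have := canc (C * Ψ * (uc ^ 2 + 6 * uc * vc + 11 * vc ^ 2) - (C + Ψ) * μ) (by linear_combination (2 : K) * d2)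
    linear_combination this
  have D3 : Ψ * (ua * uc + 3 * (ua * vc + uc * va) + 11 * va * vc) = μ := by
    have := canc (Ψ * (ua * uc + 3 * (ua * vc + uc * va) + 11 * va * vc) - μ) (by linear_combination (2 : K) * d3)
    linear_combination this
  have R0 : (7 * u0 - 20 * v0) * (u0 - 4 * v0) = 0 := by
    have h : Ψ * ((7 * u0 - 20 * v0) * (u0 - 4 * v0)) = 0 := by linear_combination 8 * C1 - A1
    exact (mul_eq_zero.mp h).resolve_left hΨ
  have Ra : (7 * ua + 20 * va) * (ua + 4 * va) = 0 := by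
    have h : (A * Ψ) * ((7 * ua + 20 * va) * (ua + 4 * va)) = 0 := by linear_combination 8 * D1 - A2
    exact (mul_eq_zero.mp h).resolve_left (mul_ne_zero hA hΨ)
  have Rb : (ub - 2 * vb) * (ub - 10 * vb) = 0 := by
    have h : (B * Ψ) * ((ub - 2 * vb) * (ub - 10 * vb)) = 0 := by linear_combination 2 * C2 - B1
    exact (mul_eq_zero.mp h).resolve_left (mul_ne_zero hB hΨ)
  have Rc : (uc + 2 * vc) * (uc + 10 * vc) = 0 := by
    have h : (C * Ψ) * ((uc + 2 * vc) * (uc + 10 * vc)) = 0 := by linear_combination 2 * D2 - B2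
    exact (mul_eq_zero.mp h).resolve_left (mul_ne_zero hC hΨ)
  -- the sixteen branches
  have L0 : u0 = 4 * v0 ∨ u0 = 20 / 7 * v0 := by
    rcases mul_eq_zero.mp R0 with h | h
    · right; linear_combination (1 / 7 : K) * h
    · left; linear_combination h
  have La : ua = -4 * va ∨ ua = -(20 / 7) * va := by
    rcases mul_eq_zero.mp Ra with h | h
    · right; linear_combination (1 / 7 : K) * h
    · left; linear_combination h
  have Lb : ub = 2 * vb ∨ ub = 10 * vb := by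
    rcases mul_eq_zero.mp Rb with h | h
    · left; linear_combination h
    · right; linear_combination h
  have Lc : uc = -2 * vc ∨ uc = -10 * vc := by
    rcases mul_eq_zero.mp Rc with h | h
    · left; linear_combination h
    · right; linear_combination h
  -- normalised forms of the off-diagonal relations
  have G : ∀ {r0 ra rb rc : K}, u0 = r0 * v0 → ua = ra * va → ub = rb * vb → uc = rc * vc →
      (r0 * ra + 8) * (rb * rc + 2) = 16 * (((r0 - 3) * (rb - 3) + 2) * ((ra + 3) * (rc + 3) + 2)) := by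
    intro r0 ra rb rc h0 ha hb hc
    have e1 : (r0 * ra + 8) * (Ψ * v0 * va) = 8 * μ := by
      rw [h0, ha] at A3
      linear_combination A3
    have e2 : (rb * rc + 2) * (Ψ * vb * vc) = 2 * μ := by
      rw [hb, hc] at B3
      linear_combination B3
    have e3 : ((r0 - 3) * (rb - 3) + 2) * (Ψ * v0 * vb) = μ := by
      rw [h0, hb] at C3
      linear_combination C3
    have e4 : ((ra + 3) * (rc + 3) + 2) * (Ψ * va * vc) = μ := by
      rw [ha, hc] at D3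
      linear_combination D3
    have h8 : (8 : K) ≠ 0 := by norm_num
    have h2 : (2 : K) ≠ 0 := by norm_num
    have key := coef_eq (μ := μ) (c1 := (r0 * ra + 8) / 8) (c2 := (rb * rc + 2) / 2)
      (A := Ψ * v0 * va) (B := Ψ * vb * vc) (C := Ψ * v0 * vb) (D := Ψ * va * vc)
      (by field_simp; linear_combination e1) (by field_simp; linear_combination e2) e3 e4 (by ring) hμ
    field_simp at key
    linear_combination key
  have hvb : ∀ {x : K}, Ψ * (x * vb) = μ → Ψ * vb ≠ 0 := by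
    intro x hx h
    apply hμ
    rw [← hx]
    linear_combination x * h
  have finish1 : Ψ * vb ≠ 0 → u0 = 4 * v0 → uc = -2 * vc → Ψ * vb * (v0 + vc) = 0 → C = 1 := by
    intro hn h0 hc he
    have e := (mul_eq_zero.mp he).resolve_left hn
    have hvc : vc = -v0 := by linear_combination e
    rw [h0] at A1
    rw [hc, hvc] at B2
    have h5 : μ * Ψ * (C - 1) = 0 := by
      linear_combination (-(C / 8) : K) * A1 + (1 / 2 : K) * B2
    have h6 := (mul_eq_zero.mp h5).resolve_left (mul_ne_zero hμ hΨ)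
    linear_combination h6
  rcases L0 with h0 | h0 <;> rcases La with ha | ha <;> rcases Lb with hb | hb <;> rcases Lc with hc | hc
  · left
    rw [h0, hb] at C3
    rw [hb, hc] at B3
    refine finish1 (hvb (x := v0) (by linear_combination C3)) h0 hc ?_
    linear_combination C3 - (1 / 2 : K) * B3
  · right; left
    rw [h0, hb] at C3
    rw [hb, hc] at B3
    have hn := hvb (x := v0) (by linear_combination C3)
    have he : Ψ * vb * (v0 + 9 * vc) = 0 := by linear_combination C3 - (1 / 2 : K) * B3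
    have e := (mul_eq_zero.mp he).resolve_left hn
    have hv0 : v0 = -(9 * vc) := by linear_combination e
    rw [h0, hv0] at A1
    rw [hc] at B2
    apply mul_left_cancel₀ hμ
    linear_combination (-(17 * C / 8) : K) * A1 + (81 / 2 : K) * B2
  · left
    rw [h0, hb] at C3
    rw [hb, hc] at B3
    refine finish1 (hvb (x := (9 : K) * v0) (by linear_combination C3)) h0 hc ?_
    linear_combination (1 / 9 : K) * C3 - (1 / 18 : K) * B3
  · exact absurd (G h0 ha hb hc) (by norm_num)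
  · exact absurd (G h0 ha hb hc) (by norm_num)
  · exact absurd (G h0 ha hb hc) (by norm_num)
  · exact absurd (G h0 ha hb hc) (by norm_num)
  · exact absurd (G h0 ha hb hc) (by norm_num)
  · exact absurd (G h0 ha hb hc) (by norm_num)
  · exact absurd (G h0 ha hb hc) (by norm_num)
  · exact absurd (G h0 ha hb hc) (by norm_num)
  · exact absurd (G h0 ha hb hc) (by norm_num)
  · exact absurd (G h0 ha hb hc) (by norm_num)
  · exact absurd (G h0 ha hb hc) (by norm_num)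
  · exact absurd (G h0 ha hb hc) (by norm_num)
  · right; right
    rw [h0, hb] at C3
    rw [hb, hc] at B3
    have hn := hvb (x := v0) (by linear_combination C3)
    have he : Ψ * vb * (v0 + 49 * vc) = 0 := by linear_combination C3 - (1 / 2 : K) * B3
    have e := (mul_eq_zero.mp he).resolve_left hn
    have hv0 : v0 = -(49 * vc) := by linear_combination e
    rw [h0, hv0] at A1
    rw [hc] at B2
    apply mul_left_cancel₀ hμ
    linear_combination (-(17 * C / 8) : K) * A1 + (1617 / 2 : K) * B2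

/-- The forms `P` in terms of the class constants. -/
theorem forms {A B C Ψ q1 q2 q3 q4 : K} {x y : Fin 9 → K}
    (hD1 : 1 + A + Ψ ≠ 0) (hD2 : B + C + Ψ ≠ 0) (hD3 : 1 + B + Ψ ≠ 0) (hD4 : A + C + Ψ ≠ 0)
    (x5 : (1 + A + Ψ) * x 5 = x 0 + A * x 1 + Ψ * x 4) (x6 : (B + C + Ψ) * x 6 = B * x 2 + C * x 3 + Ψ * x 4)
    (x7 : (1 + B + Ψ) * x 7 = x 0 + B * x 2 + Ψ * x 4) (x8 : (A + C + Ψ) * x 8 = A * x 1 + C * x 3 + Ψ * x 4)
    (y5 : (1 + A + Ψ) * y 5 = y 0 + A * y 1 + Ψ * y 4) (y6 : (B + C + Ψ) * y 6 = B * y 2 + C * y 3 + Ψ * y 4)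
    (y7 : (1 + B + Ψ) * y 7 = y 0 + B * y 2 + Ψ * y 4) (y8 : (A + C + Ψ) * y 8 = A * y 1 + C * y 3 + Ψ * y 4)
    (hq1 : x 0 * y 0 + A * (x 1 * y 1) + B * (x 2 * y 2) + C * (x 3 * y 3) + 2 * (Ψ * (x 4 * y 4)) +
      (1 + A + Ψ) * (x 5 * y 5) + (B + C + Ψ) * (x 6 * y 6) - 2 * ((1 + B + Ψ) * (x 7 * y 7)) -
      2 * ((A + C + Ψ) * (x 8 * y 8)) = q1)
    (hq2 : x 0 * y 0 + A * (x 1 * y 1) + B * (x 2 * y 2) + C * (x 3 * y 3) + 2 * (Ψ * (x 4 * y 4)) -
      2 * ((1 + A + Ψ) * (x 5 * y 5)) - 2 * ((B + C + Ψ) * (x 6 * y 6)) + (1 + B + Ψ) * (x 7 * y 7) +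
      (A + C + Ψ) * (x 8 * y 8) = q2)
    (hq3 : x 0 * y 0 + A * (x 1 * y 1) - B * (x 2 * y 2) - C * (x 3 * y 3) -
      (1 + A + Ψ) * (x 5 * y 5) + (B + C + Ψ) * (x 6 * y 6) = q3)
    (hq4 : x 0 * y 0 - A * (x 1 * y 1) + B * (x 2 * y 2) - C * (x 3 * y 3) -
      (1 + B + Ψ) * (x 7 * y 7) + (A + C + Ψ) * (x 8 * y 8) = q4) :
    Pf 1 A Ψ (x 0 - x 4) (x 1 - x 4) (y 0 - y 4) (y 1 - y 4) = ((q1 + 2 * q2) / 3 + q3) / 2 ∧
    Pf B C Ψ (x 2 - x 4) (x 3 - x 4) (y 2 - y 4) (y 3 - y 4) = ((q1 + 2 * q2) / 3 - q3) / 2 ∧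
    Pf 1 B Ψ (x 0 - x 4) (x 2 - x 4) (y 0 - y 4) (y 2 - y 4) = ((2 * q1 + q2) / 3 + q4) / 2 ∧
    Pf A C Ψ (x 1 - x 4) (x 3 - x 4) (y 1 - y 4) (y 3 - y 4) = ((2 * q1 + q2) / 3 - q4) / 2 := by
  have e : ∀ {d0 d1 a b c a' b' c' e e' : K}, d0 + d1 + Ψ ≠ 0 → (d0 + d1 + Ψ) * e = d0 * a + d1 * b + Ψ * c →
      (d0 + d1 + Ψ) * e' = d0 * a' + d1 * b' + Ψ * c' →
      Pf d0 d1 Ψ (a - c) (b - c) (a' - c') (b' - c') =
        d0 * (a * a') + d1 * (b * b') + Ψ * (c * c') - (d0 + d1 + Ψ) * (e * e') := by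
    intro d0 d1 a b c a' b' c' e e' hD h1 h2
    have he : e = (d0 * a + d1 * b + Ψ * c) / (d0 + d1 + Ψ) := by
      rw [eq_div_iff hD]
      linear_combination h1
    have he' : e' = (d0 * a' + d1 * b' + Ψ * c') / (d0 + d1 + Ψ) := by
      rw [eq_div_iff hD]
      linear_combination h2
    rw [he, he', Pf]
    field_simp
    ring
  refine ⟨?_, ?_, ?_, ?_⟩
  · rw [e (d0 := 1) (e := x 5) (e' := y 5) hD1 (by linear_combination x5) (by linear_combination y5)]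
    subst hq1 hq2 hq3
    ring
  · rw [e (e := x 6) (e' := y 6) hD2 x6 y6]
    subst hq1 hq2 hq3
    ring
  · rw [e (d0 := 1) (e := x 7) (e' := y 7) hD3 (by linear_combination x7) (by linear_combination y7)]
    subst hq1 hq2 hq4
    ring
  · rw [e (e := x 8) (e' := y 8) hD4 x8 y8]
    subst hq1 hq2 hq4
    ring

end Cfsg.Agent.Lib.Nine.D8Alg
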