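import Mathlib
import Cfsg.Agent.Lib.Char.ClassProd

/-!
# Control of fusion by a concrete model of the normalizer of a TI subgroup

A finite group `Γ` with a subgroup `TΓ` and an injective homomorphism `ι : Γ → G` such that
whenever `g` sends a nontrivial element of `ι TΓ` into `ι TΓ`, then `g ∈ ι Γ`.
-/

set_option autoImplicit false
set_option linter.unusedSectionVars false
set_option linter.style.haveILetI false

namespace Cfsg.Agent.Lib.Nine.Fuse

open Cfsg

universe u v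

variable {G : Type u} [Group G] {Γ : Type v} [Group Γ]

/-- The model property. -/
structure TIModel (ι : Γ →* G) (TΓ : Subgroup Γ) : Prop where
  inj : Function.Injective ι
  ti : ∀ t t' : Γ, t ∈ TΓ → t ≠ 1 → t' ∈ TΓ → ∀ g : G, g * ι t * g⁻¹ = ι t' → g ∈ ι.range

variable {ι : Γ →* G} {TΓ : Subgroup Γ}

theorem TIModel.mem_range_of_conj (h : TIModel ι TΓ) {w w' : Γ} (hw : w ^ 4 ∈ TΓ) (hw1 : w ^ 4 ≠ 1)
    (hw' : w' ^ 4 ∈ TΓ) {g : G} (hg : g * ι w * g⁻¹ = ι w') : g ∈ ι.range := by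
  refine h.ti _ _ hw hw1 hw' g ?_
  rw [map_pow, map_pow, ← hg, conj_pow]

/-- Conjugacy in `G` of singular elements is conjugacy in the model. -/
theorem TIModel.isConj_of_isConj (h : TIModel ι TΓ) {w w' : Γ} (hw : w ^ 4 ∈ TΓ) (hw1 : w ^ 4 ≠ 1)
    (hw' : w' ^ 4 ∈ TΓ) (hc : IsConj (ι w) (ι w')) : IsConj w w' := by
  obtain ⟨g, hg⟩ := isConj_iff.mp hc
  obtain ⟨c, rfl⟩ := h.mem_range_of_conj hw hw1 hw' hg
  refine isConj_iff.mpr ⟨c, h.inj ?_⟩
  rw [map_mul, map_mul, map_inv, hg]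

theorem isConj_map (ι : Γ →* G) {w w' : Γ} (hc : IsConj w w') : IsConj (ι w) (ι w') := by
  obtain ⟨c, rfl⟩ := isConj_iff.mp hc
  exact isConj_iff.mpr ⟨ι c, by simp⟩

/-- The centralizer in `G` of a singular element is the one in the model. -/
theorem TIModel.card_centralizer (h : TIModel ι TΓ) {w : Γ} (hw : w ^ 4 ∈ TΓ) (hw1 : w ^ 4 ≠ 1) :
    Nat.card (Subgroup.centralizer ({ι w} : Set G)) = Nat.card (Subgroup.centralizer ({w} : Set Γ)) := by
  symm
  refine Nat.card_congr (Equiv.ofBijective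
    (fun c => ⟨ι c, ?_⟩) ⟨?_, ?_⟩)
  · have := c.2
    rw [Subgroup.mem_centralizer_singleton_iff] at this ⊢
    rw [← map_mul, this, map_mul]
  · intro a b hab
    apply Subtype.ext
    apply h.inj
    exact congrArg Subtype.val hab
  · rintro ⟨g, hg⟩
    rw [Subgroup.mem_centralizer_singleton_iff] at hg
    obtain ⟨c, rfl⟩ := h.mem_range_of_conj hw hw1 hw (g := g) (by rw [hg]; group)
    refine ⟨⟨c, ?_⟩, rfl⟩
    rw [Subgroup.mem_centralizer_singleton_iff]
    apply h.inj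
    rw [map_mul, map_mul, hg]

/-- Pairs of involutions with product a singular element live in the model. -/
theorem TIModel.card_pairs (h : TIModel ι TΓ) {w : Γ} (hw : w ^ 4 ∈ TΓ) (hw1 : w ^ 4 ≠ 1) {g g' : G}
    (hg : g ^ 2 = 1) (hg' : g' ^ 2 = 1) :
    Nat.card {p : G × G // IsConj g p.1 ∧ IsConj g' p.2 ∧ p.1 * p.2 = ι w} =
      Nat.card {x : Γ // IsConj g (ι x) ∧ IsConj g' (ι (x⁻¹ * w))} := by
  symm
  have hinv : (w ^ 4)⁻¹ ∈ TΓ := TΓ.inv_mem hw
  have key : ∀ a b : G, a ^ 2 = 1 → b ^ 2 = 1 → a * b = ι w → a ∈ ι.range := by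
    intro a b ha hb hab
    refine h.ti _ _ hw hw1 hinv a ?_
    have h1 : a * ι w * a⁻¹ = (ι w)⁻¹ := by
      rw [← hab]
      have ha' : a⁻¹ = a := by
        rw [inv_eq_iff_mul_eq_one, ← pow_two, ha]
      have hb' : b⁻¹ = b := by
        rw [inv_eq_iff_mul_eq_one, ← pow_two, hb]
      rw [mul_inv_rev, ha', hb', ← mul_assoc, ← pow_two, ha, one_mul]
    rw [map_inv, map_pow, ← conj_pow, h1, inv_pow]
  refine Nat.card_congr (Equiv.ofBijective
    (fun x => ⟨(ι x.1, ι (x.1⁻¹ * w)), x.2.1, x.2.2, ?_⟩) ⟨?_, ?_⟩)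
  · simp
  · intro a b hab
    apply Subtype.ext
    apply h.inj
    have := congrArg Subtype.val hab
    exact congrArg Prod.fst this
  · rintro ⟨⟨a, b⟩, h1, h2, h3⟩
    have ha2 : a ^ 2 = 1 := by
      obtain ⟨c, rfl⟩ := isConj_iff.mp h1
      rw [conj_pow, hg]; group
    have hb2 : b ^ 2 = 1 := by
      obtain ⟨c, rfl⟩ := isConj_iff.mp h2
      rw [conj_pow, hg']; group
    change a * b = ι w at h3
    obtain ⟨x, rfl⟩ := key a b ha2 hb2 h3
    have hb : ι (x⁻¹ * w) = b := by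
      rw [map_mul, map_inv, ← h3]; group
    refine ⟨⟨x, h1, ?_⟩, ?_⟩
    · rw [hb]; exact h2
    · apply Subtype.ext
      apply Prod.ext
      · rfl
      · exact hb

/-- The model property from the conditions on a subgroup `T`. -/
theorem mem_normalizer_of_conj [Finite G] {T : Subgroup G} {N : Subgroup G} (hN : N = Subgroup.normalizer (T : Set G))
    (hab : ∀ a ∈ T, ∀ b ∈ T, a * b = b * a)
    (h3 : ∀ t ∈ T, t ^ 3 = 1) (hC : ∀ t ∈ T, t ≠ 1 → Subgroup.centralizer ({t} : Set G) ≤ N)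
    (hN3 : ∀ x ∈ N, x ^ 3 = 1 → x ∈ T) {x : G} (hx : x ∈ T) (hx1 : x ≠ 1) {g : G}
    (hg : g * x * g⁻¹ ∈ T) : g ∈ N := by
  have hu1 : g * x * g⁻¹ ≠ 1 := by
    intro h
    apply hx1
    have : x = g⁻¹ * (g * x * g⁻¹) * g := by group
    rw [this, h]
    group
  have key : ∀ a ∈ T, g * a * g⁻¹ ∈ T := by
    intro a ha
    refine hN3 _ (hC _ hg hu1 ?_) ?_
    · rw [Subgroup.mem_centralizer_singleton_iff]
      have h1 := hab a ha x hx
      calc g * a * g⁻¹ * (g * x * g⁻¹) = g * (a * x) * g⁻¹ := by group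
        _ = g * (x * a) * g⁻¹ := by rw [h1]
        _ = _ := by group
    · rw [conj_pow, h3 a ha]; group
  rw [hN]
  exact Subgroup.mem_normalizer_fintype (S := (T : Set G)) (fun a ha => key a ha)

end Cfsg.Agent.Lib.Nine.Fuse
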