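import Mathlib

/-!
# A concrete model of `3² : D₈`
-/

set_option autoImplicit false
set_option linter.style.haveILetI false
set_option maxRecDepth 100000

namespace Cfsg.Agent.Lib.Nine.ModelD8

open DihedralGroup

abbrev V3 := ZMod 3 × ZMod 3
abbrev D4 := DihedralGroup 4

def rot : ZMod 4 → V3 → V3
  | 0, x => x
  | 1, x => (-x.2, x.1)
  | 2, x => (-x.1, -x.2)
  | 3, x => (x.2, -x.1)

def act : D4 → V3 → V3
  | r i, x => rot i x
  | sr i, x => ((rot i x).1, -(rot i x).2)

theorem act_one : ∀ x : V3, act 1 x = x := by decide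
theorem act_mul : ∀ (a b : D4) (x : V3), act (a * b) x = act a (act b x) := by decide
theorem act_add : ∀ (a : D4) (x y : V3), act a (x + y) = act a x + act a y := by decide
theorem act_zero : ∀ a : D4, act a 0 = 0 := by decide

structure Gam where
  v : V3
  π : D4
  deriving DecidableEq

namespace Gam

@[ext] theorem ext' {x y : Gam} (h1 : x.v = y.v) (h2 : x.π = y.π) : x = y := by
  cases x; cases y; simp_all

def equiv : Gam ≃ V3 × D4 := ⟨fun g => (g.v, g.π), fun p => ⟨p.1, p.2⟩, fun _ => rfl, fun _ => rfl⟩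

instance : Fintype Gam := Fintype.ofEquiv _ equiv.symm

instance : Mul Gam := ⟨fun g h => ⟨g.v + act g.π h.v, g.π * h.π⟩⟩
instance : One Gam := ⟨⟨0, 1⟩⟩
instance : Inv Gam := ⟨fun g => ⟨act g.π⁻¹ (-g.v), g.π⁻¹⟩⟩

@[simp] theorem mul_v (g h : Gam) : (g * h).v = g.v + act g.π h.v := rfl
@[simp] theorem mul_π (g h : Gam) : (g * h).π = g.π * h.π := rfl
@[simp] theorem one_v : (1 : Gam).v = 0 := rfl
@[simp] theorem one_π : (1 : Gam).π = 1 := rfl
@[simp] theorem inv_v (g : Gam) : (g⁻¹).v = act g.π⁻¹ (-g.v) := rfl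
@[simp] theorem inv_π (g : Gam) : (g⁻¹).π = g.π⁻¹ := rfl

instance : Group Gam :=
  Group.ofLeftAxioms
    (fun a b c => by
      apply ext'
      · simp only [mul_v, mul_π, act_add, act_mul, add_assoc]
      · simp only [mul_π, mul_assoc])
    (fun a => by
      apply ext'
      · simp [act_one]
      · simp)
    (fun a => by
      apply ext'
      · have h : act a.π⁻¹ (-a.v) + act a.π⁻¹ a.v = 0 := by
          rw [← act_add]
          simp [act_zero]
        simpa using h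
      · simp)

end Gam

def t1 : Gam := ⟨(1, 0), 1⟩
def t2 : Gam := ⟨(0, 1), 1⟩
def y : Gam := ⟨(1, 1), 1⟩
def e1 : Gam := ⟨0, sr 2⟩
def e2 : Gam := ⟨0, sr 0⟩
def z : Gam := ⟨0, r 2⟩
def σ : Gam := ⟨0, sr 3⟩
def wA : Gam := t1
def wC : Gam := y
def wA' : Gam := ⟨(1, 0), sr 0⟩
def wC' : Gam := ⟨(1, 1), sr 3⟩

example : Fintype.card Gam = 72 := by decide
theorem cA : (Finset.univ.filter (fun c : Gam => c * wA = wA * c)).card = 18 := by decide
theorem cC : (Finset.univ.filter (fun c : Gam => c * wC = wC * c)).card = 18 := by decide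
theorem cA' : (Finset.univ.filter (fun c : Gam => c * wA' = wA' * c)).card = 6 := by decide
theorem cC' : (Finset.univ.filter (fun c : Gam => c * wC' = wC' * c)).card = 6 := by decide
theorem wA'_eq : wA' = t1 * e2 := by decide
theorem wC'_eq : wC' = y * σ := by decide
theorem nAC : ∀ c : Gam, c * wA * c⁻¹ ≠ wC := by decide
theorem nAA' : ∀ c : Gam, c * wA * c⁻¹ ≠ wA' := by decide
theorem nAC' : ∀ c : Gam, c * wA * c⁻¹ ≠ wC' := by decide
theorem nCA' : ∀ c : Gam, c * wC * c⁻¹ ≠ wA' := by decide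
theorem nCC' : ∀ c : Gam, c * wC * c⁻¹ ≠ wC' := by decide
theorem nA'C' : ∀ c : Gam, c * wA' * c⁻¹ ≠ wC' := by decide
theorem rA : ∃ c : Gam, c * wA * c⁻¹ = wA⁻¹ := by decide
theorem rC : ∃ c : Gam, c * wC * c⁻¹ = wC⁻¹ := by decide
theorem rA' : ∃ c : Gam, c * wA' * c⁻¹ = wA'⁻¹ := by decide
theorem rC' : ∃ c : Gam, c * wC' * c⁻¹ = wC'⁻¹ := by decide

/-- The normal subgroup of order `9` of the model. -/
def TG : Subgroup Gam where
  carrier := {x | x.π = 1}
  mul_mem' := by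
    intro a b ha hb
    change (a * b).π = 1
    rw [Gam.mul_π, show a.π = 1 from ha, show b.π = 1 from hb, one_mul]
  one_mem' := rfl
  inv_mem' := by
    intro a ha
    change (a⁻¹).π = 1
    rw [Gam.inv_π, show a.π = 1 from ha, inv_one]

theorem mem_TG {x : Gam} : x ∈ TG ↔ x.π = 1 := Iff.rfl

theorem TG_pow3 : ∀ x : Gam, x.π = 1 → x ^ 3 = 1 := by decide
theorem TG_conj : ∀ x c : Gam, x.π = 1 → (c * x * c⁻¹).π = 1 := by decide
theorem TG_comm : ∀ a b : Gam, a.π = 1 → b.π = 1 → a * b = b * a := by decide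
theorem TG_cent : ∀ c : Gam, c * t1 = t1 * c → c * t2 = t2 * c → c.π = 1 := by decide
theorem TG_of_pow3 : ∀ x : Gam, x ^ 3 = 1 → x.π = 1 := by decide

theorem w4A : (wA ^ 4).π = 1 ∧ wA ^ 4 ≠ 1 := by decide
theorem w4C : (wC ^ 4).π = 1 ∧ wC ^ 4 ≠ 1 := by decide
theorem w4A' : (wA' ^ 4).π = 1 ∧ wA' ^ 4 ≠ 1 := by decide
theorem w4C' : (wC' ^ 4).π = 1 ∧ wC' ^ 4 ≠ 1 := by decide
theorem w6A : wA ^ 6 = 1 := by decide
theorem w6C : wC ^ 6 = 1 := by decide
theorem w6A' : wA' ^ 6 = 1 := by decide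
theorem w6C' : wC' ^ 6 = 1 := by decide

/-- The three classes of involutions of the model. -/
def rep : Fin 3 → Gam := ![e1, z, σ]

/-- The class of an involution of the model. -/
def ty (x : Gam) : Option (Fin 3) :=
  if x * x = 1 ∧ x ≠ 1 then
    if x.π = r 2 then some 1
    else if x.π = sr 0 ∨ x.π = sr 2 then some 0
    else if x.π = sr 1 ∨ x.π = sr 3 then some 2
    else none
  else none

theorem ty_conj : ∀ (x : Gam) (i : Fin 3), ty x = some i → ∃ c : Gam, c * x * c⁻¹ = rep i := by decide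
theorem ty_none : ∀ x : Gam, ty x = none → x * x ≠ 1 ∨ x = 1 := by decide
theorem ty_rep : ∀ i : Fin 3, ty (rep i) = some i := by decide

/-- The count of solutions of `x * x' = w` by classes. -/
def tyB (b : Fin 3 → Bool) (x : Gam) : Bool :=
  match ty x with
  | some i => b i
  | none => false

theorem tyB_some {b : Fin 3 → Bool} {x : Gam} {i : Fin 3} (h : ty x = some i) : tyB b x = b i := by
  simp [tyB, h]

theorem tyB_none {b : Fin 3 → Bool} {x : Gam} (h : ty x = none) : tyB b x = false := by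
  simp [tyB, h]

def cnt (w : Gam) (b b' : Fin 3 → Bool) : ℕ :=
  (Finset.univ.filter (fun x : Gam => tyB b x = true ∧ tyB b' (x⁻¹ * w) = true)).card

def bv (a b c : Bool) : Fin 3 → Bool := ![a, b, c]

theorem bv_eta (f : Fin 3 → Bool) : f = bv (f 0) (f 1) (f 2) := by
  funext i
  fin_cases i <;> rfl

def ind (a : Bool) : ℕ := if a then 1 else 0

theorem cnt_wA : ∀ a b c a' b' c' : Bool, cnt wA (bv a b c) (bv a' b' c') =
    3 * ind (a && a') + 9 * ind (b && b') := by decide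
theorem cnt_wC : ∀ a b c a' b' c' : Bool, cnt wC (bv a b c) (bv a' b' c') =
    9 * ind (b && b') + 3 * ind (c && c') := by decide
theorem cnt_wA' : ∀ a b c a' b' c' : Bool, cnt wA' (bv a b c) (bv a' b' c') =
    3 * ind (a && b') + 3 * ind (b && a') := by decide
theorem cnt_wC' : ∀ a b c a' b' c' : Bool, cnt wC' (bv a b c) (bv a' b' c') =
    3 * ind (b && c') + 3 * ind (c && b') := by decide

/-- Elements of the normal subgroup by coordinates. -/
def τ (v : V3) : Gam := ⟨v, 1⟩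

def al (v : V3) : ℕ := if v = 0 then 1 else 0
def be (v : V3) : ℕ := if v ≠ 0 ∧ (v.1 = 0 ∨ v.2 = 0) then 1 else 0
def ga (v : V3) : ℕ := if v.1 ≠ 0 ∧ v.2 ≠ 0 then 1 else 0

theorem sum_al : ∑ v : V3, al v = 1 := by decide
theorem sum_be : ∑ v : V3, be v = 4 := by decide
theorem sum_ga : ∑ v : V3, ga v = 4 := by decide

/-- The classes of the elements of the normal subgroup. -/
theorem τ_cls : ∀ v : V3, (al v = 1 ∧ τ v = 1 ∧ be v = 0 ∧ ga v = 0) ∨
    (be v = 1 ∧ (∃ c : Gam, c * τ v * c⁻¹ = wA) ∧ al v = 0 ∧ ga v = 0) ∨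
    (ga v = 1 ∧ (∃ c : Gam, c * τ v * c⁻¹ = wC) ∧ al v = 0 ∧ be v = 0) := by decide
end Cfsg.Agent.Lib.Nine.ModelD8
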