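import Mathlib
import Cfsg.Agent.Lib.Nine.Basic
import Cfsg.Agent.Lib.Nine.Fuse
import Cfsg.Agent.Lib.Nine.ModelD8
import Cfsg.Agent.Lib.Nine.D8Coh
import Cfsg.Agent.Lib.Blocks.Heights

/-!
# Coherence of the characters of a group with a TI Sylow subgroup with normalizer `3² : D₈`
-/

set_option autoImplicit false
set_option linter.unusedSectionVars false
set_option linter.style.haveILetI false
set_option maxRecDepth 100000

namespace Cfsg.Agent.Lib.Nine.D8Char

open Cfsg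
open Cfsg.Agent.Lib.Nine.ModelD8 Cfsg.Agent.Lib.Nine.Fuse Cfsg.Agent.Lib.Nine.Basic
open Cfsg.Agent.Lib.Nine.D8Coh
open Cfsg.Agent.Lib.Blocks.Third
open scoped ComplexConjugate

universe u

variable {G : Type u} [Group G] [Fintype G] {ι : Gam →* G}

theorem card_cent {w : Gam} {n : ℕ} (h : (Finset.univ.filter (fun c : Gam => c * w = w * c)).card = n) :
    Nat.card (Subgroup.centralizer ({w} : Set Gam)) = n := by
  rw [← h]
  exact Nat.subtype_card _ (by simp [Subgroup.mem_centralizer_singleton_iff])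

/-- The data of the model. -/
structure Setup (ι : Gam →* G) : Prop where
  model : TIModel ι TG
  h27 : ¬ 27 ∣ Nat.card G

/-- The image of the normal subgroup. -/
def TT (ι : Gam →* G) : Subgroup G := TG.map ι

theorem mem_TT {t : G} : t ∈ TT ι ↔ ∃ x : Gam, x.π = 1 ∧ ι x = t := Iff.rfl

theorem TT_pow3 {t : G} (ht : t ∈ TT ι) : t ^ 3 = 1 := by
  obtain ⟨x, hx, rfl⟩ := ht
  rw [← map_pow, TG_pow3 x hx, map_one]

theorem TT_isP : IsPGroup 3 (TT ι) := by
  intro t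
  refine ⟨1, ?_⟩
  apply Subtype.ext
  simpa using TT_pow3 t.2

theorem TT_comm : ∀ a ∈ TT ι, ∀ b ∈ TT ι, a * b = b * a := by
  rintro _ ⟨x, hx, rfl⟩ _ ⟨y, hy, rfl⟩
  rw [← map_mul, TG_comm x y hx hy, map_mul]

theorem Setup.cent_le (S : Setup ι) {t : G} (ht : t ∈ TT ι) (ht1 : t ≠ 1) :
    Subgroup.centralizer ({t} : Set G) ≤ Subgroup.normalizer ((TT ι : Subgroup G) : Set G) := by
  obtain ⟨x, hx, rfl⟩ := ht
  intro g hg
  rw [Subgroup.mem_centralizer_singleton_iff] at hg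
  have hx1 : x ≠ 1 := by
    rintro rfl
    exact ht1 (map_one ι)
  obtain ⟨c, rfl⟩ := S.model.ti x x hx hx1 hx g (by rw [hg]; group)
  rw [Subgroup.mem_normalizer_iff]
  intro h
  constructor
  · rintro ⟨a, ha, rfl⟩
    exact ⟨c * a * c⁻¹, TG_conj a c ha, by simp⟩
  · rintro ⟨a, ha, hh⟩
    refine ⟨c⁻¹ * a * c, ?_, ?_⟩
    · have := TG_conj a c⁻¹ ha
      rw [inv_inv] at this
      exact this
    · have hh' : ι a = ι c * h * (ι c)⁻¹ := hh
      simp [hh']
      group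

theorem Setup.cent_T (S : Setup ι) :
    Subgroup.centralizer ((TT ι : Subgroup G) : Set G) ≤ TT ι := by
  intro g hg
  rw [Subgroup.mem_centralizer_iff] at hg
  have h1 := hg (ι t1) ⟨t1, rfl, rfl⟩
  have h2 := hg (ι t2) ⟨t2, rfl, rfl⟩
  have ht1 : t1 ≠ 1 := by decide
  obtain ⟨c, rfl⟩ := S.model.ti t1 t1 rfl ht1 rfl g (by rw [← h1]; group)
  refine ⟨c, TG_cent c ?_ ?_, rfl⟩
  · apply S.model.inj
    simpa using h1.symm
  · apply S.model.inj
    simpa using h2.symm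

variable {M : Ideal AlgInt}

theorem pow_two_order {H : Type*} [Group H] {c : H} (h : c ^ 2 = 1) : ¬ 3 ∣ orderOf c := by
  intro h3
  have := (orderOf_dvd_of_pow_eq_one h)
  have := h3.trans this
  omega

theorem Setup.vanish (S : Setup ι) (hM : IsPModular 3 M) [Fact (Nat.Prime 3)] {χ : IrrCharacter G}
    (hχ : χ ∉ principalBlock M G) :
    (χ : G → ℂ) (ι wA) = 0 ∧ (χ : G → ℂ) (ι wC) = 0 ∧ (χ : G → ℂ) (ι wA') = 0 ∧
      (χ : G → ℂ) (ι wC') = 0 := by
  have hV : ∀ {t : Gam} (c : G), t.π = 1 → t ≠ 1 → c * ι t = ι t * c → c ^ 2 = 1 →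
      (χ : G → ℂ) (ι t * c) = 0 := by
    intro t c ht ht1 hc hc2
    have hc' : c ∈ Subgroup.centralizer ({ι t} : Set G) := by
      rw [Subgroup.mem_centralizer_singleton_iff]
      exact hc
    refine vanish_of_not_principal hM (TT ι) TT_isP (fun t ht ht1 => S.cent_le ht ht1) S.cent_T TT_comm hχ
      ⟨t, ht, rfl⟩ (fun h => ht1 (S.model.inj (by rw [h, map_one]))) ⟨c, hc'⟩ ?_
    apply pow_two_order
    apply Subtype.ext
    simpa using hc2
  have ha : t1 ≠ 1 := by decide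
  have hb : y ≠ 1 := by decide
  refine ⟨?_, ?_, ?_, ?_⟩
  · have := hV (t := t1) 1 rfl ha (by simp) (by simp)
    simpa [wA] using this
  · have := hV (t := y) 1 rfl hb (by simp) (by simp)
    simpa [wC] using this
  · have := hV (t := t1) (ι e2) rfl ha (by rw [← map_mul, ← map_mul]; congr 1) (by rw [← map_pow]; rw [show e2 ^ 2 = 1 by decide, map_one])
    rw [wA'_eq, map_mul]
    exact this
  · have := hV (t := y) (ι σ) rfl hb (by rw [← map_mul, ← map_mul]; congr 1) (by rw [← map_pow]; rw [show σ ^ 2 = 1 by decide, map_one])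
    rw [wC'_eq, map_mul]
    exact this

/-- Index of a centralizer prime to `3`. -/
theorem Setup.index_of_card (S : Setup ι) {w : Gam} (hw : (w ^ 4).π = 1 ∧ w ^ 4 ≠ 1)
    (h18 : (Finset.univ.filter (fun c : Gam => c * w = w * c)).card = 18) :
    ¬ 3 ∣ (Subgroup.centralizer ({ι w} : Set G)).index := by
  intro h
  have h1 := S.model.card_centralizer (w := w) hw.1 hw.2
  rw [card_cent h18] at h1
  have h2 := Subgroup.card_mul_index (Subgroup.centralizer ({ι w} : Set G))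
  rw [h1] at h2
  apply S.h27
  rw [← h2]
  obtain ⟨k, hk⟩ := h
  exact ⟨2 * k, by rw [hk]; ring⟩

theorem Setup.ne_zero (S : Setup ι) (hM : IsPModular 3 M) [Fact (Nat.Prime 3)] {χ : IrrCharacter G}
    (hχ : χ ∈ principalBlock M G) : (χ : G → ℂ) (ι wA) ≠ 0 ∧ (χ : G → ℂ) (ι wC) ≠ 0 :=
  ⟨ne_zero_of_principal hM hχ (S.index_of_card w4A cA),
    ne_zero_of_principal hM hχ (S.index_of_card w4C cC)⟩

theorem isClass (χ : IrrCharacter G) {a b : G} (h : IsConj a b) : (χ : G → ℂ) a = (χ : G → ℂ) b := by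
  obtain ⟨c, rfl⟩ := isConj_iff.mp h
  exact (Cfsg.Agent.Lib.Char.Basic.isClassFunction_of_isIrrCharacter χ.2 a c).symm

theorem real_val (χ : IrrCharacter G) {w : Gam} (h : ∃ c : Gam, c * w * c⁻¹ = w⁻¹) :
    (χ : G → ℂ) (ι w)⁻¹ = (χ : G → ℂ) (ι w) := by
  obtain ⟨c, hc⟩ := h
  refine (isClass χ (isConj_iff.mpr ⟨ι c, ?_⟩)).symm
  rw [← map_inv, ← map_inv, ← map_mul, ← map_mul, hc]

theorem exists_int_val (χ : IrrCharacter G) {w : Gam} (h6 : w ^ 6 = 1) (h : ∃ c : Gam, c * w * c⁻¹ = w⁻¹) :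
    ∃ n : ℤ, (χ : G → ℂ) (ι w) = n :=
  exists_int_of_pow_six (Cfsg.Agent.Lib.Char.Basic.isCharacter_of_isIrrCharacter χ.2)
    (by rw [← map_pow, h6, map_one]) (real_val χ h)

/-- Sum over the subgroup of order `9`. -/
theorem sum_T_dvd (χ : IrrCharacter G) {d a c : ℤ} (hd : (χ : G → ℂ) 1 = d) (ha : (χ : G → ℂ) (ι wA) = a)
    (hc : (χ : G → ℂ) (ι wC) = c) : (9 : ℤ) ∣ d + 4 * a + 4 * c := by
  classical
  have hχ := Cfsg.Agent.Lib.Char.Basic.isCharacter_comp ι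
    (Cfsg.Agent.Lib.Char.Basic.isCharacter_of_isIrrCharacter χ.2)
  letI : Fintype TG := Fintype.ofFinite _
  obtain ⟨n, hn⟩ := exists_nat_sum_subgroup TG hχ
  have hcard : Nat.card TG = 9 := by
    rw [Nat.subtype_card (Finset.univ.filter (fun x : Gam => x.π = 1)) (by simp [mem_TG])]
    decide
  rw [hcard] at hn
  -- reindex by coordinates
  let e : V3 ≃ TG :=
    { toFun := fun v => ⟨τ v, rfl⟩
      invFun := fun x => x.1.v
      left_inv := fun _ => rfl
      right_inv := by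
        rintro ⟨⟨v, π⟩, hx⟩
        have : π = 1 := hx
        subst this
        rfl }
  have hsum : ∑ h : TG, ((χ : G → ℂ) ∘ ι) (h : Gam) = ∑ v : V3, (χ : G → ℂ) (ι (τ v)) :=
    (Equiv.sum_comp e (fun h : TG => ((χ : G → ℂ) ∘ ι) (h : Gam))).symm
  rw [hsum] at hn
  have hv : ∀ v : V3, (χ : G → ℂ) (ι (τ v)) = (al v : ℂ) * d + (be v : ℂ) * a + (ga v : ℂ) * c := by
    intro v
    rcases τ_cls v with ⟨h1, h2, h3, h4⟩ | ⟨h1, ⟨x, h2⟩, h3, h4⟩ | ⟨h1, ⟨x, h2⟩, h3, h4⟩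
    · rw [h1, h3, h4, h2, map_one, hd]
      simp
    · rw [h1, h3, h4, ← ha, ← h2, map_mul, map_mul, map_inv,
        Cfsg.Agent.Lib.Char.Basic.isClassFunction_of_isIrrCharacter χ.2]
      simp
    · rw [h1, h3, h4, ← hc, ← h2, map_mul, map_mul, map_inv,
        Cfsg.Agent.Lib.Char.Basic.isClassFunction_of_isIrrCharacter χ.2]
      simp
  simp only [hv, Finset.sum_add_distrib, ← Finset.sum_mul, ← Nat.cast_sum, sum_al, sum_be, sum_ga] at hn
  refine ⟨n, ?_⟩
  have : ((d + 4 * a + 4 * c : ℤ) : ℂ) = ((9 * n : ℤ) : ℂ) := by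
    push_cast
    push_cast at hn
    linear_combination hn
  exact_mod_cast this

/-- The values of the characters at the four singular elements. -/
structure Coh (ι : Gam →* G) (χ : Fin 9 → IrrCharacter G) (s : Fin 9 → ℤ) : Prop where
  inj : Function.Injective χ
  sgn : ∀ l, s l = 1 ∨ s l = -1
  vA : ∀ l, (χ l : G → ℂ) (ι wA) = ((s l * φA l : ℤ) : ℂ)
  vC : ∀ l, (χ l : G → ℂ) (ι wC) = ((s l * φC l : ℤ) : ℂ)
  vA' : ∀ l, (χ l : G → ℂ) (ι wA') = ((s l * φA' l : ℤ) : ℂ)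
  vC' : ∀ l, (χ l : G → ℂ) (ι wC') = ((s l * φC' l : ℤ) : ℂ)
  zero : ∀ ψ : IrrCharacter G, ψ ∉ Set.range χ → (ψ : G → ℂ) (ι wA) = 0 ∧ (ψ : G → ℂ) (ι wC) = 0 ∧
    (ψ : G → ℂ) (ι wA') = 0 ∧ (ψ : G → ℂ) (ι wC') = 0

variable [Fintype (IrrCharacter G)]

open scoped Classical in
theorem sum_int_orth {g h : G} {a b : IrrCharacter G → ℤ} (ha : ∀ χ : IrrCharacter G, (χ : G → ℂ) g = a χ)
    (hb : ∀ χ : IrrCharacter G, (χ : G → ℂ) h = b χ) :
    ((∑ χ, a χ * b χ : ℤ) : ℂ) = if IsConj g h then (Nat.card (Subgroup.centralizer ({h} : Set G)) : ℂ) else 0 := by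
  have h0 := Cfsg.Agent.Lib.Char.Complete.sum_irr_mul_conj g h
  have h1 : ((∑ χ, a χ * b χ : ℤ) : ℂ) = ∑ χ : IrrCharacter G, (χ : G → ℂ) g * conj ((χ : G → ℂ) h) := by
    push_cast
    refine Finset.sum_congr rfl fun χ _ => ?_
    rw [ha χ, hb χ]
    simp
  rw [h1]
  convert h0

theorem Setup.sum_self (S : Setup ι) {w : Gam} (hw : (w ^ 4).π = 1 ∧ w ^ 4 ≠ 1) {n : ℕ}
    (hn : (Finset.univ.filter (fun c : Gam => c * w = w * c)).card = n) {a : IrrCharacter G → ℤ}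
    (ha : ∀ χ : IrrCharacter G, (χ : G → ℂ) (ι w) = a χ) : ∑ χ, a χ * a χ = n := by
  have h1 := sum_int_orth ha ha
  rw [if_pos (IsConj.refl _), S.model.card_centralizer (w := w) hw.1 hw.2, card_cent hn] at h1
  exact_mod_cast h1

theorem Setup.sum_cross (S : Setup ι) {w w' : Gam} (hw : (w ^ 4).π = 1 ∧ w ^ 4 ≠ 1)
    (hw' : (w' ^ 4).π = 1 ∧ w' ^ 4 ≠ 1) (hn : ∀ c : Gam, c * w * c⁻¹ ≠ w') {a b : IrrCharacter G → ℤ}
    (ha : ∀ χ : IrrCharacter G, (χ : G → ℂ) (ι w) = a χ)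
    (hb : ∀ χ : IrrCharacter G, (χ : G → ℂ) (ι w') = b χ) : ∑ χ, a χ * b χ = 0 := by
  have h1 := sum_int_orth ha hb
  rw [if_neg] at h1
  · exact_mod_cast h1
  · intro h
    obtain ⟨c, hc⟩ := isConj_iff.mp (S.model.isConj_of_isConj hw.1 hw.2 hw'.1 h)
    exact hn c hc

/-- **Coherence.** -/
theorem Setup.coherence (S : Setup ι) : ∃ (χ : Fin 9 → IrrCharacter G) (s : Fin 9 → ℤ), Coh ι χ s := by
  classical
  choose p hp using fun χ : IrrCharacter G => exists_int_val (ι := ι) χ w6A rA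
  choose y' hy using fun χ : IrrCharacter G => exists_int_val (ι := ι) χ w6C rC
  choose p' hp' using fun χ : IrrCharacter G => exists_int_val (ι := ι) χ w6A' rA'
  choose q' hq' using fun χ : IrrCharacter G => exists_int_val (ι := ι) χ w6C' rC'
  have spp := S.sum_self w4A cA hp
  have syy := S.sum_self w4C cC hy
  have sp'p' := S.sum_self w4A' cA' hp'
  have sq'q' := S.sum_self w4C' cC' hq'
  have spy := S.sum_cross w4A w4C nAC hp hy
  have spp' := S.sum_cross w4A w4A' nAA' hp hp'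
  have spq' := S.sum_cross w4A w4C' nAC' hp hq'
  have syp' := S.sum_cross w4C w4A' nCA' hy hp'
  have syq' := S.sum_cross w4C w4C' nCC' hy hq'
  have sp'q' := S.sum_cross w4A' w4C' nA'C' hp' hq'
  have hch : ∀ χ : IrrCharacter G, IsCharacter G (χ : G → ℂ) := fun χ =>
    Cfsg.Agent.Lib.Char.Basic.isCharacter_of_isIrrCharacter χ.2
  have c2' : ∀ χ, (2 : ℤ) ∣ p χ - p' χ := by
    intro χ
    have h1 := int_two_congr (hch χ) (ι wA') (hp' χ) (b := p χ) (by
      rw [← map_pow, show wA' ^ 2 = wA⁻¹ by decide, map_inv, real_val χ rA, hp χ])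
    exact (dvd_sub_comm).mp h1
  have c2'' : ∀ χ, (2 : ℤ) ∣ y' χ - q' χ := by
    intro χ
    have h1 := int_two_congr (hch χ) (ι wC') (hq' χ) (b := y' χ) (by
      rw [← map_pow, show wC' ^ 2 = wC⁻¹ by decide, map_inv, real_val χ rC, hy χ])
    exact (dvd_sub_comm).mp h1
  have hdeg : ∀ χ : IrrCharacter G, ∃ d : ℤ, 0 < d ∧ (χ : G → ℂ) 1 = d := by
    intro χ
    refine ⟨(Cfsg.charDegree (χ : G → ℂ) : ℕ), ?_, ?_⟩
    · exact_mod_cast Cfsg.Agent.Lib.Char.Degree.charDegree_pos χ.2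
    · simpa using Cfsg.Agent.Lib.Blocks.Heights.irr_one_eq χ
  have c3' : ∀ χ, (3 : ℤ) ∣ p χ - y' χ := by
    intro χ
    obtain ⟨d, -, hd⟩ := hdeg χ
    have h1 := int_three_congr (hch χ) (ι wA) (hp χ) (b := d) (by
      rw [← map_pow, show wA ^ 3 = 1 by decide, map_one, hd])
    have h2 := int_three_congr (hch χ) (ι wC) (hy χ) (b := d) (by
      rw [← map_pow, show wC ^ 3 = 1 by decide, map_one, hd])
    omega
  haveI : Fact (Nat.Prime 3) := ⟨Nat.prime_three⟩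
  obtain ⟨M, hM⟩ := Cfsg.Agent.Lib.BlockH.Basic.exists_isPModular Nat.prime_three
  have hf : ∀ χ, (p χ = 0 ∧ y' χ = 0 ∧ p' χ = 0 ∧ q' χ = 0) ∨
      (p χ ≠ 0 ∧ y' χ ≠ 0 ∧ (p χ % 3 ≠ 0 ∨ p χ + y' χ ≠ 0)) := by
    intro χ
    by_cases hχ : χ ∈ principalBlock M G
    · right
      obtain ⟨h1, h2⟩ := S.ne_zero hM hχ
      have h3 : p χ ≠ 0 := by
        intro h
        apply h1
        rw [hp, h]
        simp
      have h4 : y' χ ≠ 0 := by
        intro h
        apply h2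
        rw [hy, h]
        simp
      refine ⟨h3, h4, ?_⟩
      by_contra hcon
      push Not at hcon
      obtain ⟨h5, h6⟩ := hcon
      obtain ⟨d, hd0, hd⟩ := hdeg χ
      have h7 := sum_T_dvd (ι := ι) χ hd (hp χ) (hy χ)
      have h8 : (9 : ℤ) ∣ d := by omega
      have h9 := deg_dvd_of_int hd (hy χ) hd0.ne'
      have h10 : (9 : ℤ) ∣ ((Subgroup.centralizer ({ι wC} : Set G)).index : ℤ) * y' χ := h8.trans h9
      have h11 : IsCoprime (9 : ℤ) ((Subgroup.centralizer ({ι wC} : Set G)).index : ℤ) := by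
        have h12 := (Nat.Prime.coprime_iff_not_dvd Nat.prime_three).mpr (S.index_of_card w4C cC)
        have h13 : Nat.Coprime (3 ^ 2) (Subgroup.centralizer ({ι wC} : Set G)).index :=
          Nat.Coprime.pow_left 2 h12
        exact_mod_cast Nat.isCoprime_iff_coprime.mpr h13
      have h12 : (9 : ℤ) ∣ y' χ := h11.dvd_of_dvd_mul_left h10
      have h13 : y' χ * y' χ ≤ 18 := by
        have syy' : ∑ χ, y' χ * y' χ = 18 := by simpa using syy
        rw [← syy']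
        exact Finset.single_le_sum (f := fun χ => y' χ * y' χ) (fun i _ => mul_self_nonneg _)
          (Finset.mem_univ χ)
      obtain ⟨k, hk⟩ := h12
      have hk0 : k ≠ 0 := by
        rintro rfl
        exact h4 (by simpa using hk)
      rw [hk] at h13
      have hk1 : 1 ≤ k * k := by
        have := mul_self_pos.mpr hk0
        omega
      nlinarith
    · left
      obtain ⟨h1, h2, h3, h4⟩ := S.vanish hM hχ
      refine ⟨?_, ?_, ?_, ?_⟩
      · rw [hp] at h1; exact_mod_cast h1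
      · rw [hy] at h2; exact_mod_cast h2
      · rw [hp'] at h3; exact_mod_cast h3
      · rw [hq'] at h4; exact_mod_cast h4
  obtain ⟨x, s, hinj, hs, hv, hz⟩ := coh p y' p' q' c2' c2'' c3' (by simpa using spp) (by simpa using syy)
    (by simpa using sp'p') (by simpa using sq'q') spy spp' spq' syp' syq' sp'q' hf
  refine ⟨x, s, hinj, hs, ?_, ?_, ?_, ?_, ?_⟩
  · intro l
    rw [hp, (hv l).1]
  · intro l
    rw [hy, (hv l).2.1]
  · intro l
    rw [hp', (hv l).2.2.1]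
  · intro l
    rw [hq', (hv l).2.2.2]
  · intro ψ hψ
    obtain ⟨h1, h2, h3, h4⟩ := hz ψ hψ
    refine ⟨?_, ?_, ?_, ?_⟩
    · rw [hp, h1]; simp
    · rw [hy, h2]; simp
    · rw [hp', h3]; simp
    · rw [hq', h4]; simp

/-- The principal character is the first one. -/
theorem Coh.one_mem {χ : Fin 9 → IrrCharacter G} {s : Fin 9 → ℤ} (C : Coh ι χ s) :
    χ 0 = oneI G ∧ s 0 = 1 := by
  have hr : oneI G ∈ Set.range χ := by
    by_contra h
    have h1 := (C.zero _ h).1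
    simp at h1
  obtain ⟨l, hl⟩ := hr
  have h1 := C.vA l
  have h2 := C.vC l
  have h3 := C.vA' l
  have h4 := C.vC' l
  rw [hl, oneI_apply] at h1 h2 h3 h4
  have h1' : s l * φA l = 1 := by exact_mod_cast h1.symm
  have h2' : s l * φC l = 1 := by exact_mod_cast h2.symm
  have h3' : s l * φA' l = 1 := by exact_mod_cast h3.symm
  have h4' : s l * φC' l = 1 := by exact_mod_cast h4.symm
  have hs := C.sgn l
  have hl0 : l = 0 := by
    revert h1' h2' h3' h4' hs
    fin_cases l <;> simp [φA, φC, φA', φC'] <;> omega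
  subst hl0
  refine ⟨hl, ?_⟩
  simpa [φA] using h1'

end Cfsg.Agent.Lib.Nine.D8Char
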