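import Mathlib
import Cfsg.Agent.Lib.Nine.D8Form

/-!
# Nonsimplicity for a TI Sylow subgroup with normalizer `3² : D₈`
-/

set_option autoImplicit false
set_option linter.unusedSectionVars false
set_option linter.unusedVariables false
set_option linter.unusedSimpArgs false
set_option linter.style.haveILetI false
set_option maxRecDepth 100000

namespace Cfsg.Agent.Lib.Nine.D8Main

open Cfsg
open Cfsg.Agent.Lib.Nine.ModelD8 Cfsg.Agent.Lib.Nine.Fuse Cfsg.Agent.Lib.Nine.Basic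
open Cfsg.Agent.Lib.Nine.D8Coh Cfsg.Agent.Lib.Nine.D8Char Cfsg.Agent.Lib.Nine.D8Alg
open Cfsg.Agent.Lib.Nine.D8Form
open Cfsg.Agent.Lib.Blocks.Third

universe u

variable {G : Type u} [Group G] [Fintype G] {ι : Gam →* G}
variable [Fintype (IrrCharacter G)] {χ : Fin 9 → IrrCharacter G} {s : Fin 9 → ℤ}

/-- The signed degree is an integer with a congruence. -/
theorem dl_int (C : Coh ι χ s) (l : Fin 9) :
    ∃ n : ℤ, dl χ s l = n ∧ (9 : ℤ) ∣ n + 4 * φA l + 4 * φC l := by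
  obtain ⟨d, hd⟩ : ∃ d : ℤ, (χ l : G → ℂ) 1 = d :=
    ⟨(Cfsg.charDegree (χ l : G → ℂ) : ℕ), by simpa using Cfsg.Agent.Lib.Blocks.Heights.irr_one_eq (χ l)⟩
  refine ⟨s l * d, ?_, ?_⟩
  · rw [dl, hd]
    push_cast
    rfl
  · have h := sum_T_dvd (ι := ι) (χ l) hd (C.vA l) (C.vC l)
    have hs : s l * s l = 1 := by
      rcases C.sgn l with h | h <;> rw [h] <;> norm_num
    obtain ⟨k, hk⟩ := h
    refine ⟨s l * k, ?_⟩
    linear_combination (s l) * hk + (4 * φA l + 4 * φC l) * (-hs) * (-1 : ℤ) * (-1 : ℤ)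

theorem arith1 {c p : ℤ} (h1 : (9 : ℤ) ∣ c + 8) (h2 : (9 : ℤ) ∣ p + 16)
    (h : 17 * c * (1 + p) = 81 * (c + p)) : False := by
  obtain ⟨k, hk⟩ := h1
  obtain ⟨l, hl⟩ := h2
  have e1 : c = 9 * k - 8 := by linarith
  have e2 : p = 9 * l - 16 := by linarith
  subst e1 e2
  have : (9 : ℤ) ∣ 2040 :=
    ⟨9 * (9 * k - 8 + (9 * l - 16)) - 17 * (9 * k * l - 15 * k - 8 * l), by linear_combination h⟩
  norm_num at this

theorem arith2 {c p : ℤ} (h1 : (9 : ℤ) ∣ c + 8) (h2 : (9 : ℤ) ∣ p + 16)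
    (h : 17 * c * (1 + p) = 1617 * (c + p)) : False := by
  obtain ⟨k, hk⟩ := h1
  obtain ⟨l, hl⟩ := h2
  have e1 : c = 9 * k - 8 := by linarith
  have e2 : p = 9 * l - 16 := by linarith
  subst e1 e2
  have : (9 : ℤ) ∣ 2040 :=
    ⟨1617 * (k + l) - 4312 - 17 * (9 * k * l - 15 * k - 8 * l), by linear_combination h⟩
  norm_num at this

/-- If the character `c` has signed degree one then it is linear with sign one. -/
theorem linear_of_dl (C : Coh ι χ s) (h : dl χ s 3 = 1) : (χ 3 : G → ℂ) 1 = 1 ∧ s 3 = 1 := by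
  have hpos := Cfsg.Agent.Lib.Char.Degree.charDegree_pos (χ 3).2
  have hd := Cfsg.Agent.Lib.Blocks.Heights.irr_one_eq (χ 3)
  rw [dl, hd] at h
  have h' : s 3 * (Cfsg.charDegree (χ 3 : G → ℂ) : ℤ) = 1 := by exact_mod_cast h
  have hs := C.sgn 3
  rcases hs with hs | hs
  · rw [hs, one_mul] at h'
    refine ⟨?_, hs⟩
    rw [hd]
    exact_mod_cast h'
  · rw [hs] at h'
    exfalso
    omega

/-- The linear character has the following values on the involutions. -/
theorem linear_vals (C : Coh ι χ s) (h : (χ 3 : G → ℂ) 1 = 1) (hs : s 3 = 1) :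
    (χ 3 : G → ℂ) (ι z) = 1 ∧ (χ 3 : G → ℂ) (ι e1) = -1 ∧ (χ 3 : G → ℂ) (ι σ) = -1 := by
  have hch := Cfsg.Agent.Lib.Char.Basic.isCharacter_of_isIrrCharacter (χ 3).2
  have hm := Cfsg.Agent.Lib.Char.Linear.deg_one_mul hch h
  have h1 := C.vA 3
  have h2 := C.vC 3
  have h3 := C.vA' 3
  have h4 := C.vC' 3
  rw [hs] at h1 h2 h3 h4
  simp [φA, φC, φA', φC'] at h1 h2 h3 h4
  rw [wA'_eq, map_mul, hm] at h3
  rw [wC'_eq, map_mul, hm] at h4
  have h5 : (χ 3 : G → ℂ) (ι t1) = 1 := h1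
  have h6 : (χ 3 : G → ℂ) (ι y) = 1 := h2
  rw [h5, one_mul] at h3
  rw [h6, one_mul] at h4
  have h7 : (χ 3 : G → ℂ) (ι e1) = -1 := by
    rw [← h3]
    refine isClass (χ 3) (isConj_map ι (isConj_iff.mpr ⟨σ, by decide⟩))
  refine ⟨?_, h7, h4⟩
  rw [show z = e1 * e2 by decide, map_mul, hm, h7, h3]
  norm_num

/-- The kernel of the linear character. -/
theorem not_simple_of_linear (C : Coh ι χ s) (hinj : Function.Injective ι) (h : (χ 3 : G → ℂ) 1 = 1) (hs : s 3 = 1) :
    ¬ IsSimpleGroup G := by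
  intro hG
  have hch := Cfsg.Agent.Lib.Char.Basic.isCharacter_of_isIrrCharacter (χ 3).2
  have hn := Cfsg.Agent.Lib.Char.Degree.charKer_normal hch
  have h1 := C.vA 3
  have h3 := C.vA' 3
  rw [hs] at h1 h3
  simp [φA, φA'] at h1 h3
  rcases hG.eq_bot_or_eq_top_of_normal _ hn with hb | ht
  · have : ι wA ∈ Cfsg.Agent.Lib.Char.Degree.charKer hch := by
      rw [Cfsg.Agent.Lib.Char.Degree.mem_charKer, h1, h]
    rw [hb, Subgroup.mem_bot] at this
    have h2 : wA = 1 := hinj (by rw [this, map_one])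
    exact absurd h2 (by decide)
  · have : ι wA' ∈ Cfsg.Agent.Lib.Char.Degree.charKer hch := by
      rw [ht]; exact Subgroup.mem_top _
    rw [Cfsg.Agent.Lib.Char.Degree.mem_charKer, h3, h] at this
    norm_num at this

/-- **Nonsimplicity.** -/
theorem not_simple (S : Setup ι) (hsyl : ∃ P : Sylow 3 G, (P : Subgroup G) = TT ι) : ¬ IsSimpleGroup G := by
  classical
  obtain ⟨χ, s, C⟩ := S.coherence
  have hinj := S.model.inj
  obtain ⟨h0, h5, h6, h7, h8⟩ := deg_rel C hinj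
  have hnes := Setup.not_conj_e_σ S hsyl
  have hN : (Nat.card G : ℂ) ≠ 0 := Nat.cast_ne_zero.mpr Nat.card_pos.ne'
  obtain ⟨μ, hμdef⟩ : ∃ μ : ℂ, μ = 1 / (Nat.card G : ℂ) := ⟨_, rfl⟩
  have hμ : μ ≠ 0 := by
    rw [hμdef]
    exact one_div_ne_zero hN
  have num : ∀ n m : ℕ, n = m → (n : ℂ) / (Nat.card G : ℂ) = (m : ℂ) * μ := by
    intro n m h
    rw [h, hμdef]
    ring
  have hΨ := dl_ne C 4
  have hA := dl_ne C 1
  have hB := dl_ne C 2
  have hC := dl_ne C 3
  have hD1 : 1 + dl χ s 1 + dl χ s 4 ≠ 0 := by rw [← h5]; exact dl_ne C 5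
  have hD2 : dl χ s 2 + dl χ s 3 + dl χ s 4 ≠ 0 := by rw [← h6]; exact dl_ne C 6
  have hD3 : 1 + dl χ s 2 + dl χ s 4 ≠ 0 := by rw [← h7]; exact dl_ne C 7
  have hD4 : dl χ s 1 + dl χ s 3 + dl χ s 4 ≠ 0 := by rw [← h8]; exact dl_ne C 8
  have he2 : (ι e1) ^ 2 = 1 := by rw [← map_pow, show e1 ^ 2 = 1 by decide, map_one]
  have hs2 : (ι σ) ^ 2 = 1 := by rw [← map_pow, show σ ^ 2 = 1 by decide, map_one]
  have he1 : ι e1 ≠ 1 := fun h => absurd (hinj (by rw [h, map_one]) : e1 = 1) (by decide)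
  have hs1 : ι σ ≠ 1 := fun h => absurd (hinj (by rw [h, map_one]) : σ = 1) (by decide)
  have T : ∀ (P : Prop), P → (P ↔ true = true) := fun P h => iff_of_true h rfl
  have F : ∀ (P : Prop), ¬ P → (P ↔ false = true) := fun P h => iff_of_false h (by simp)
  -- the mod 9 arithmetic
  obtain ⟨c3, hc3, hc3'⟩ := dl_int C 3
  obtain ⟨c4, hc4, hc4'⟩ := dl_int C 4
  have hc3'' : (9 : ℤ) ∣ c3 + 8 := by
    have h1 : c3 + 4 * φA 3 + 4 * φC 3 = c3 + 8 := by
      simp [φA, φC]
      ring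
    rw [h1] at hc3'
    exact hc3'
  have hc4'' : (9 : ℤ) ∣ c4 + 16 := by
    have h1 : c4 + 4 * φA 4 + 4 * φC 4 = c4 + 16 := by
      simp [φA, φC]
      ring
    rw [h1] at hc4'
    exact hc4'
  have harith : ∀ x y : ℂ, x = dl χ s 3 → y = dl χ s 4 → x ≠ 1 →
      ((x = 1 ∨ 17 * x * (1 + y) = 81 * (x + y) ∨ 17 * x * (1 + y) = 1617 * (x + y)) → False) := by
    intro x y hx hy hx1 h
    rw [hx, hy, hc3, hc4] at h
    rcases h with h | h | h
    · apply hx1
      rw [hx, hc3]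
      exact h
    · exact arith1 hc3'' hc4'' (by exact_mod_cast h)
    · exact arith2 hc3'' hc4'' (by exact_mod_cast h)
  by_cases hze : IsConj (ι e1) (ι z)
  · -- fusion of `z` with `e`
    exfalso
    have hE : clsB ι (ι e1) = bv true true false :=
      clsB_eq (T _ (IsConj.refl _)) (T _ hze) (F _ hnes)
    have hS : clsB ι (ι σ) = bv false false true :=
      clsB_eq (F _ (fun h => hnes h.symm)) (F _ (fun h => hnes (hze.trans h.symm))) (T _ (IsConj.refl _))
    obtain ⟨a1, a2, a3, a4⟩ := pairForms S C he2 he1 he2 he1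
      (num _ 12 (by rw [hE, cnt_wA]; decide)) (num _ 9 (by rw [hE, cnt_wC]; decide))
      (num _ 6 (by rw [hE, cnt_wA']; decide)) (num _ 0 (by rw [hE, cnt_wC']; decide))
    obtain ⟨b1, b2, b3, b4⟩ := pairForms S C he2 he1 hs2 hs1
      (num _ 0 (by rw [hE, hS, cnt_wA]; decide)) (num _ 0 (by rw [hE, hS, cnt_wC]; decide))
      (num _ 0 (by rw [hE, hS, cnt_wA']; decide)) (num _ 3 (by rw [hE, hS, cnt_wC']; decide))
    obtain ⟨c1, c2, c3', c4'⟩ := pairForms S C hs2 hs1 hs2 hs1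
      (num _ 0 (by rw [hS, cnt_wA]; decide)) (num _ 3 (by rw [hS, cnt_wC]; decide))
      (num _ 0 (by rw [hS, cnt_wA']; decide)) (num _ 0 (by rw [hS, cnt_wC']; decide))
    have key := case2 (A := dl χ s 1) (B := dl χ s 2) (C := dl χ s 3) (Ψ := dl χ s 4) (μ := μ)
      hΨ hμ hA hB hC hD1 hD2 hD3 hD4
      (by rw [a1]; push_cast; ring) (by rw [b1]; push_cast; ring) (by rw [c1]; push_cast; ring)
      (by rw [a2]; push_cast; ring) (by rw [b2]; push_cast; ring) (by rw [c2]; push_cast; ring)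
      (by rw [a3]; push_cast; ring) (by rw [b3]; push_cast; ring) (by rw [c3']; push_cast; ring)
      (by rw [a4]; push_cast; ring) (by rw [b4]; push_cast; ring) (by rw [c4']; push_cast; ring)
    by_cases h1 : dl χ s 3 = 1
    · obtain ⟨h2, h3⟩ := linear_of_dl C h1
      obtain ⟨h4, h5', h6'⟩ := linear_vals C h2 h3
      have h7' := isClass (χ 3) hze
      rw [h4, h5'] at h7'
      norm_num at h7'
    · exact harith _ _ rfl rfl h1 key
  · by_cases hzs : IsConj (ι σ) (ι z)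
    · -- fusion of `z` with `σ`
      exfalso
      have hE : clsB ι (ι e1) = bv true false false :=
        clsB_eq (T _ (IsConj.refl _)) (F _ hze) (F _ hnes)
      have hS : clsB ι (ι σ) = bv false true true :=
        clsB_eq (F _ (fun h => hnes h.symm)) (T _ hzs) (T _ (IsConj.refl _))
      obtain ⟨a1, a2, a3, a4⟩ := pairForms S C hs2 hs1 hs2 hs1
        (num _ 9 (by rw [hS, cnt_wA]; decide)) (num _ 12 (by rw [hS, cnt_wC]; decide))
        (num _ 0 (by rw [hS, cnt_wA']; decide)) (num _ 6 (by rw [hS, cnt_wC']; decide))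
      obtain ⟨b1, b2, b3, b4⟩ := pairForms S C hs2 hs1 he2 he1
        (num _ 0 (by rw [hE, hS, cnt_wA]; decide)) (num _ 0 (by rw [hE, hS, cnt_wC]; decide))
        (num _ 3 (by rw [hE, hS, cnt_wA']; decide)) (num _ 0 (by rw [hE, hS, cnt_wC']; decide))
      obtain ⟨c1, c2, c3', c4'⟩ := pairForms S C he2 he1 he2 he1
        (num _ 3 (by rw [hE, cnt_wA]; decide)) (num _ 0 (by rw [hE, cnt_wC]; decide))
        (num _ 0 (by rw [hE, cnt_wA']; decide)) (num _ 0 (by rw [hE, cnt_wC']; decide))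
      have key := case2 (A := dl χ s 2) (B := dl χ s 1) (C := dl χ s 3) (Ψ := dl χ s 4) (μ := μ)
        hΨ hμ hB hA hC hD3 hD4 hD1 hD2
        (by rw [a3]; push_cast; ring) (by rw [b3]; push_cast; ring) (by rw [c3']; push_cast; ring)
        (by rw [a4]; push_cast; ring) (by rw [b4]; push_cast; ring) (by rw [c4']; push_cast; ring)
        (by rw [a1]; push_cast; ring) (by rw [b1]; push_cast; ring) (by rw [c1]; push_cast; ring)
        (by rw [a2]; push_cast; ring) (by rw [b2]; push_cast; ring) (by rw [c2]; push_cast; ring)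
      by_cases h1 : dl χ s 3 = 1
      · obtain ⟨h2, h3⟩ := linear_of_dl C h1
        obtain ⟨h4, h5', h6'⟩ := linear_vals C h2 h3
        have h7' := isClass (χ 3) hzs
        rw [h4, h6'] at h7'
        norm_num at h7'
      · exact harith _ _ rfl rfl h1 key
    · -- no fusion
      have hE : clsB ι (ι e1) = bv true false false :=
        clsB_eq (T _ (IsConj.refl _)) (F _ hze) (F _ hnes)
      have hS : clsB ι (ι σ) = bv false false true :=
        clsB_eq (F _ (fun h => hnes h.symm)) (F _ hzs) (T _ (IsConj.refl _))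
      obtain ⟨a1, a2, a3, a4⟩ := pairForms S C he2 he1 he2 he1
        (num _ 3 (by rw [hE, cnt_wA]; decide)) (num _ 0 (by rw [hE, cnt_wC]; decide))
        (num _ 0 (by rw [hE, cnt_wA']; decide)) (num _ 0 (by rw [hE, cnt_wC']; decide))
      obtain ⟨b1, b2, b3, b4⟩ := pairForms S C he2 he1 hs2 hs1
        (num _ 0 (by rw [hE, hS, cnt_wA]; decide)) (num _ 0 (by rw [hE, hS, cnt_wC]; decide))
        (num _ 0 (by rw [hE, hS, cnt_wA']; decide)) (num _ 0 (by rw [hE, hS, cnt_wC']; decide))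
      obtain ⟨c1, c2, c3', c4'⟩ := pairForms S C hs2 hs1 hs2 hs1
        (num _ 0 (by rw [hS, cnt_wA]; decide)) (num _ 3 (by rw [hS, cnt_wC]; decide))
        (num _ 0 (by rw [hS, cnt_wA']; decide)) (num _ 0 (by rw [hS, cnt_wC']; decide))
      have key := case1 (A := dl χ s 1) (B := dl χ s 2) (C := dl χ s 3) (Ψ := dl χ s 4) (μ := μ)
        hΨ hμ hA hB hC hD1 hD2 hD3 hD4
        (by rw [a1]; push_cast; ring) (by rw [b1]; push_cast; ring) (by rw [c1]; push_cast; ring)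
        (by rw [a2]; push_cast; ring) (by rw [b2]; push_cast; ring) (by rw [c2]; push_cast; ring)
        (by rw [a3]; push_cast; ring) (by rw [b3]; push_cast; ring) (by rw [c3']; push_cast; ring)
        (by rw [a4]; push_cast; ring) (by rw [b4]; push_cast; ring) (by rw [c4']; push_cast; ring)
      obtain ⟨h2, h3⟩ := linear_of_dl C key
      exact not_simple_of_linear C hinj h2 h3

end Cfsg.Agent.Lib.Nine.D8Main
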