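import Mathlib
import Cfsg.Agent.Lib.Nine.Coord
import Cfsg.Agent.Lib.Nine.D8Main

/-!
# The model of the normalizer `3² : D₈`
-/

set_option autoImplicit false
set_option linter.unusedSectionVars false
set_option linter.unusedVariables false
set_option linter.style.haveILetI false
set_option maxRecDepth 100000

namespace Cfsg.Agent.Lib.Nine.D8Local

open Cfsg
open Cfsg.Agent.Lib.Nine.Coord Cfsg.Agent.Lib.Nine.ModelD8 Cfsg.Agent.Lib.Nine.Fuse
open Cfsg.Agent.Lib.Nine.D8Char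
open DihedralGroup

universe u

variable {G : Type u} [Group G] [Finite G]

/-- The data of the local situation. -/
structure Loc (T : Subgroup G) (f : D4 →* G) : Prop where
  h3 : ∀ t ∈ T, t ^ 3 = 1
  hcard : Nat.card T = 9
  hab : ∀ a ∈ T, ∀ b ∈ T, a * b = b * a
  hCT : Subgroup.centralizer (T : Set G) ≤ T
  hfinj : Function.Injective f
  hfN : ∀ π t, t ∈ T → f π * t * (f π)⁻¹ ∈ T

variable {T : Subgroup G} {f : D4 →* G}

theorem Loc.f_mem_T (L : Loc T f) {π : D4} (h : f π ∈ T) : π = 1 := by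
  have h1 : (f π) ^ 3 = 1 := L.h3 _ h
  have h2 : ∀ π : D4, π ^ 4 = 1 := by decide
  have h3 : (f π) ^ 4 = 1 := by rw [← map_pow, h2, map_one]
  have h4 : f π = 1 := by
    have : f π = (f π) ^ 4 * ((f π) ^ 3)⁻¹ := by group
    rw [this, h1, h3]
    group
  exact L.hfinj (by rw [h4, map_one])

theorem Loc.exists_not_cent (L : Loc T f) {π : D4} (h : π ≠ 1) : ∃ w ∈ T, f π * w * (f π)⁻¹ ≠ w := by
  by_contra hcon
  push Not at hcon
  apply h
  apply L.f_mem_T
  apply L.hCT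
  rw [Subgroup.mem_centralizer_iff]
  intro w hw
  have := hcon w hw
  rw [mul_inv_eq_iff_eq_mul] at this
  exact this.symm

/-- An involution with no nontrivial fixed point inverts `T`. -/
theorem Loc.plus_ne (L : Loc T f) {c : G} (hc2 : c * c = 1) (hcN : ∀ t, t ∈ T → c * t * c⁻¹ ∈ T) {x : G} (hx : x ∈ T)
    (hne : c * x * c⁻¹ ≠ x⁻¹) :
    x * (c * x * c⁻¹) ∈ T ∧ x * (c * x * c⁻¹) ≠ 1 ∧ c * (x * (c * x * c⁻¹)) * c⁻¹ = x * (c * x * c⁻¹) := by
  have hcinv : c⁻¹ = c := by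
    rw [inv_eq_iff_mul_eq_one]
    exact hc2
  have hx' := hcN x hx
  refine ⟨T.mul_mem hx hx', ?_, ?_⟩
  · intro h
    apply hne
    exact eq_inv_of_mul_eq_one_right h
  · have h1 : c * (c * x * c⁻¹) * c⁻¹ = x := by
      rw [hcinv]
      calc c * (c * x * c) * c = (c * c) * x * (c * c) := by group
        _ = x := by rw [hc2]; group
    calc c * (x * (c * x * c⁻¹)) * c⁻¹ = (c * x * c⁻¹) * (c * (c * x * c⁻¹) * c⁻¹) := by group
      _ = (c * x * c⁻¹) * x := by rw [h1]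
      _ = _ := L.hab _ hx' _ hx

theorem Loc.minus_ne (L : Loc T f) {c : G} (hc2 : c * c = 1) (hcN : ∀ t, t ∈ T → c * t * c⁻¹ ∈ T) {x : G} (hx : x ∈ T)
    (hne : c * x * c⁻¹ ≠ x) :
    x * (c * x * c⁻¹)⁻¹ ∈ T ∧ x * (c * x * c⁻¹)⁻¹ ≠ 1 ∧
      c * (x * (c * x * c⁻¹)⁻¹) * c⁻¹ = (x * (c * x * c⁻¹)⁻¹)⁻¹ := by
  have hcinv : c⁻¹ = c := by
    rw [inv_eq_iff_mul_eq_one]
    exact hc2
  have hx' := hcN x hx
  refine ⟨T.mul_mem hx (T.inv_mem hx'), ?_, ?_⟩
  · intro h
    apply hne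
    exact (mul_inv_eq_one.mp h).symm
  · have h1 : c * (c * x * c⁻¹) * c⁻¹ = x := by
      rw [hcinv]
      calc c * (c * x * c) * c = (c * c) * x * (c * c) := by group
        _ = x := by rw [hc2]; group
    calc c * (x * (c * x * c⁻¹)⁻¹) * c⁻¹ = (c * x * c⁻¹) * (c * (c * x * c⁻¹) * c⁻¹)⁻¹ := by group
      _ = (c * x * c⁻¹) * x⁻¹ := by rw [h1]
      _ = _ := by group

/-- The central involution of `D₈` inverts `T`. -/
theorem Loc.z_inverts (L : Loc T f) {t : G} (ht : t ∈ T) : f (r 2) * t * (f (r 2))⁻¹ = t⁻¹ := by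
  by_contra hne
  have hz2 : f (r 2) * f (r 2) = 1 := by
    rw [← map_mul, show (r 2 * r 2 : D4) = 1 by decide, map_one]
  have hzN := L.hfN (r 2)
  obtain ⟨hu, hu1, huz⟩ := L.plus_ne hz2 hzN ht hne
  obtain ⟨w, hw, hwz⟩ := L.exists_not_cent (π := r 2) (by decide)
  obtain ⟨hv, hv1, hvz⟩ := L.minus_ne hz2 hzN hw hwz
  set u := t * (f (r 2) * t * (f (r 2))⁻¹) with hudef
  set v := w * (f (r 2) * w * (f (r 2))⁻¹)⁻¹ with hvdef
  have hu3 := L.h3 _ hu
  have hv3 := L.h3 _ hv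
  have huv : Commute u v := L.hab _ hu _ hv
  have hinj := τ_inj hu3 hv3 huv hu1 hv1 huz hvz
  haveI : Finite T := inferInstance
  have hinv : ∀ y ∈ T, f (r 2) * y * (f (r 2))⁻¹ = y⁻¹ → y ≠ 1 → ∃ a : ℤ, (a = 1 ∨ a = -1) ∧ y = v ^ a := by
    intro y hy hyz hy1
    obtain ⟨⟨a, b⟩, hp⟩ := τ_surj hu3 hv3 huv L.hcard hu hv hinj hy
    have hp' : u ^ a.val * v ^ b.val = y := hp
    have h1 : f (r 2) * (u ^ a.val * v ^ b.val) * (f (r 2))⁻¹ = u ^ a.val * (v⁻¹) ^ b.val := by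
      have h4 : f (r 2) * (u ^ a.val * v ^ b.val) * (f (r 2))⁻¹ =
          (f (r 2) * u * (f (r 2))⁻¹) ^ a.val * (f (r 2) * v * (f (r 2))⁻¹) ^ b.val := by
        rw [conj_pow, conj_pow]
        group
      rw [h4, huz, hvz]
    rw [hp', hyz, ← hp', mul_inv_rev, ← inv_pow] at h1
    have hc2 : Commute (v⁻¹ ^ b.val) (u ^ a.val)⁻¹ :=
      ((huv.inv_right).pow_pow a.val b.val).symm.inv_right
    rw [hc2.eq] at h1
    have h2 : (u ^ a.val)⁻¹ = u ^ a.val := mul_right_cancel h1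
    have h3 : (u ^ a.val) ^ 2 = 1 := by
      rw [pow_two]
      nth_rewrite 1 [← h2]
      rw [inv_mul_cancel]
    have h5 : (u ^ a.val) ^ 3 = 1 := by
      rw [← pow_mul, mul_comm, pow_mul, hu3, one_pow]
    have h6 : u ^ a.val = 1 := sq_eq_one_of_cube h5 h3
    rw [h6, one_mul] at hp'
    have hb : b = 1 ∨ b = 2 := by
      have hb0 : b ≠ 0 := by
        rintro rfl
        apply hy1
        rw [← hp']
        simp
      have key : ∀ b : ZMod 3, b ≠ 0 → b = 1 ∨ b = 2 := by decide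
      exact key b hb0
    rcases hb with rfl | rfl
    · exact ⟨1, Or.inl rfl, by
        rw [← hp']
        have : (1 : ZMod 3).val = 1 := rfl
        rw [this]
        simp⟩
    · refine ⟨-1, Or.inr rfl, ?_⟩
      rw [← hp']
      rw [zpow_neg_one, eq_inv_iff_mul_eq_one]
      have : (2 : ZMod 3).val = 2 := rfl
      rw [this, pow_two, mul_assoc, ← pow_two, ← pow_succ']
      exact hv3
  have hact : ∀ π : D4, π * r 2 = r 2 * π → ∃ a : ℤ, (a = 1 ∨ a = -1) ∧ f π * v * (f π)⁻¹ = v ^ a := by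
    intro π hπ
    obtain ⟨a, ha, hy⟩ := hinv _ (L.hfN π _ hv) (by
      have h1 : f π * f (r 2) = f (r 2) * f π := by rw [← map_mul, ← map_mul, hπ]
      calc f (r 2) * (f π * v * (f π)⁻¹) * (f (r 2))⁻¹
          = (f (r 2) * f π) * v * (f (r 2) * f π)⁻¹ := by group
        _ = (f π * f (r 2)) * v * (f π * f (r 2))⁻¹ := by rw [h1]
        _ = f π * (f (r 2) * v * (f (r 2))⁻¹) * (f π)⁻¹ := by group
        _ = _ := by rw [hvz]; group) (by
      intro h
      apply hv1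
      have : v = (f π)⁻¹ * (f π * v * (f π)⁻¹) * f π := by group
      rw [this, h]
      group)
    exact ⟨a, ha, hy⟩
  obtain ⟨a, ha, h1⟩ := hact (r 1) (by decide)
  obtain ⟨b, hb, h2⟩ := hact (sr 0) (by decide)
  have h3 := comm_act ha hb h1 h2
  have h4 : f (r 1) * f (sr 0) * (f (r 1))⁻¹ * (f (sr 0))⁻¹ = f (r 2) := by
    rw [← map_inv, ← map_inv, ← map_mul, ← map_mul, ← map_mul]
    congr 1
  rw [h4, hvz] at h3
  have h5 : v ^ 2 = 1 := by
    rw [pow_two]
    nth_rewrite 1 [← h3]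
    rw [inv_mul_cancel]
  exact hv1 (sq_eq_one_of_cube hv3 h5)

theorem act_r1 : ∀ v : V3, act (r 1) v = (-v.2, v.1) := by decide
theorem act_s0 : ∀ v : V3, act (sr 0) v = (v.1, -v.2) := by decide
theorem D4_word : ∀ π : D4, ∃ e k : Fin 4, π = (sr 0 : D4) ^ (e : ℕ) * (r 1 : D4) ^ (k : ℕ) := by decide

/-- The coordinates. -/
theorem Loc.exists_coords (L : Loc T f) : ∃ t₁ t₂ : G, t₁ ∈ T ∧ t₂ ∈ T ∧ t₁ ≠ 1 ∧ t₂ ≠ 1 ∧
    f (r 1) * t₁ * (f (r 1))⁻¹ = t₂ ∧ f (r 1) * t₂ * (f (r 1))⁻¹ = t₁⁻¹ ∧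
    f (sr 0) * t₁ * (f (sr 0))⁻¹ = t₁ ∧ f (sr 0) * t₂ * (f (sr 0))⁻¹ = t₂⁻¹ := by
  have hs2 : f (sr 0) * f (sr 0) = 1 := by
    rw [← map_mul, show (sr 0 * sr 0 : D4) = 1 by decide, map_one]
  have hx : ∃ x ∈ T, f (sr 0) * x * (f (sr 0))⁻¹ ≠ x⁻¹ := by
    by_contra hcon
    push Not at hcon
    obtain ⟨w, hw, hwz⟩ := L.exists_not_cent (π := sr 0 * r 2) (by decide)
    apply hwz
    rw [map_mul]
    calc f (sr 0) * f (r 2) * w * (f (sr 0) * f (r 2))⁻¹
        = f (sr 0) * (f (r 2) * w * (f (r 2))⁻¹) * (f (sr 0))⁻¹ := by group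
      _ = f (sr 0) * w⁻¹ * (f (sr 0))⁻¹ := by rw [L.z_inverts hw]
      _ = (f (sr 0) * w * (f (sr 0))⁻¹)⁻¹ := by group
      _ = w := by rw [hcon w hw, inv_inv]
  obtain ⟨x, hxT, hxne⟩ := hx
  obtain ⟨h1, h2, h3⟩ := L.plus_ne hs2 (L.hfN (sr 0)) hxT hxne
  set t₁ := x * (f (sr 0) * x * (f (sr 0))⁻¹) with ht₁
  refine ⟨t₁, f (r 1) * t₁ * (f (r 1))⁻¹, h1, L.hfN _ _ h1, h2, ?_, rfl, ?_, h3, ?_⟩
  · intro h
    apply h2
    have : t₁ = (f (r 1))⁻¹ * (f (r 1) * t₁ * (f (r 1))⁻¹) * f (r 1) := by group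
    rw [this, h]
    group
  · have h4 : f (r 1) * f (r 1) = f (r 2) := by
      rw [← map_mul]
      congr 1
    calc f (r 1) * (f (r 1) * t₁ * (f (r 1))⁻¹) * (f (r 1))⁻¹
        = (f (r 1) * f (r 1)) * t₁ * (f (r 1) * f (r 1))⁻¹ := by group
      _ = t₁⁻¹ := by rw [h4, L.z_inverts h1]
  · have h4 : f (sr 0) * f (r 1) = f (r 2) * f (r 1) * f (sr 0) := by
      rw [← map_mul, ← map_mul, ← map_mul]
      congr 1
    calc f (sr 0) * (f (r 1) * t₁ * (f (r 1))⁻¹) * (f (sr 0))⁻¹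
        = (f (sr 0) * f (r 1)) * t₁ * (f (sr 0) * f (r 1))⁻¹ := by group
      _ = f (r 2) * (f (r 1) * (f (sr 0) * t₁ * (f (sr 0))⁻¹) * (f (r 1))⁻¹) * (f (r 2))⁻¹ := by
        rw [h4]; group
      _ = f (r 2) * (f (r 1) * t₁ * (f (r 1))⁻¹) * (f (r 2))⁻¹ := by rw [h3]
      _ = _ := L.z_inverts (L.hfN _ _ h1)

/-- The model exists. -/
theorem Loc.exists_model (L : Loc T f) : ∃ ι : Gam →* G, Function.Injective ι ∧ (∀ x : Gam, ι x ∈ T ↔ x.π = 1) ∧
    (∀ x : Gam, ∀ t ∈ T, ι x * t * (ι x)⁻¹ ∈ T) ∧ (∀ t ∈ T, ∃ x : Gam, x.π = 1 ∧ ι x = t) ∧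
    (∀ π : D4, ι ⟨0, π⟩ = f π) := by
  obtain ⟨t₁, t₂, h1, h2, h11, h21, hr1, hr2, hs1, hs2⟩ := L.exists_coords
  have h13 := L.h3 _ h1
  have h23 := L.h3 _ h2
  have hc : Commute t₁ t₂ := L.hab _ h1 _ h2
  have hτinj := τ_inj h13 h23 hc h11 h21 hs1 hs2
  have hτT : ∀ v, τ t₁ t₂ v ∈ T := fun v => T.mul_mem (T.pow_mem h1 _) (T.pow_mem h2 _)
  have hconj : ∀ (g : G) (a b : ℕ), g * (t₁ ^ a * t₂ ^ b) * g⁻¹ = (g * t₁ * g⁻¹) ^ a * (g * t₂ * g⁻¹) ^ b := by
    intro g a b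
    rw [conj_pow, conj_pow]
    group
  have Pr : ∀ v : V3, f (r 1) * τ t₁ t₂ v * (f (r 1))⁻¹ = τ t₁ t₂ (act (r 1) v) := by
    rintro ⟨a, b⟩
    rw [act_r1]
    simp only [Coord.τ]
    rw [hconj, hr1, hr2, inv_pow_val h13]
    exact (hc.pow_pow _ _).symm.eq
  have Ps : ∀ v : V3, f (sr 0) * τ t₁ t₂ v * (f (sr 0))⁻¹ = τ t₁ t₂ (act (sr 0) v) := by
    rintro ⟨a, b⟩
    rw [act_s0]
    simp only [Coord.τ]
    rw [hconj, hs1, hs2, inv_pow_val h23]
  have Pmul : ∀ a b : D4, (∀ v, f a * τ t₁ t₂ v * (f a)⁻¹ = τ t₁ t₂ (act a v)) →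
      (∀ v, f b * τ t₁ t₂ v * (f b)⁻¹ = τ t₁ t₂ (act b v)) →
      ∀ v, f (a * b) * τ t₁ t₂ v * (f (a * b))⁻¹ = τ t₁ t₂ (act (a * b) v) := by
    intro a b ha hb v
    rw [act_mul, ← ha, ← hb, map_mul]
    group
  have P1 : ∀ v, f 1 * τ t₁ t₂ v * (f 1)⁻¹ = τ t₁ t₂ (act 1 v) := by
    intro v
    rw [act_one, map_one]
    group
  have Ppow : ∀ a : D4, (∀ v, f a * τ t₁ t₂ v * (f a)⁻¹ = τ t₁ t₂ (act a v)) → ∀ (n : ℕ),
      ∀ v, f (a ^ n) * τ t₁ t₂ v * (f (a ^ n))⁻¹ = τ t₁ t₂ (act (a ^ n) v) := by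
    intro a ha n
    induction n with
    | zero => simpa using P1
    | succ n ih =>
      rw [pow_succ]
      exact Pmul _ _ ih ha
  have P : ∀ π v, f π * τ t₁ t₂ v * (f π)⁻¹ = τ t₁ t₂ (act π v) := by
    intro π
    obtain ⟨e, k, hπ⟩ := D4_word π
    rw [hπ]
    exact Pmul _ _ (Ppow _ Ps _) (Ppow _ Pr _)
  let ι : Gam →* G :=
    { toFun := fun x => τ t₁ t₂ x.v * f x.π
      map_one' := by
        change τ t₁ t₂ 0 * f 1 = 1
        rw [τ_zero, map_one, one_mul]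
      map_mul' := by
        intro x y
        change τ t₁ t₂ (x.v + act x.π y.v) * f (x.π * y.π) = _
        rw [τ_add h13 h23 hc, ← P, map_mul]
        group }
  have hιdef : ∀ x : Gam, ι x = τ t₁ t₂ x.v * f x.π := fun _ => rfl
  have hmem : ∀ x : Gam, ι x ∈ T ↔ x.π = 1 := by
    intro x
    rw [hιdef]
    constructor
    · intro h
      apply L.f_mem_T
      have := T.mul_mem (T.inv_mem (hτT x.v)) h
      simpa using this
    · intro h
      rw [h, map_one, mul_one]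
      exact hτT _
  have hinj : Function.Injective ι := by
    rw [injective_iff_map_eq_one]
    intro x hx
    have h3 : x.π = 1 := (hmem x).mp (by rw [hx]; exact T.one_mem)
    rw [hιdef, h3, map_one, mul_one] at hx
    have h4 : x.v = 0 := hτinj (by rw [hx, τ_zero])
    exact Gam.ext' h4 h3
  refine ⟨ι, hinj, hmem, ?_, ?_, ?_⟩
  · intro x t ht
    rw [hιdef]
    have h3 := L.hfN x.π t ht
    have : τ t₁ t₂ x.v * f x.π * t * (τ t₁ t₂ x.v * f x.π)⁻¹ =
        τ t₁ t₂ x.v * (f x.π * t * (f x.π)⁻¹) * (τ t₁ t₂ x.v)⁻¹ := by group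
    rw [this]
    exact T.mul_mem (T.mul_mem (hτT _) h3) (T.inv_mem (hτT _))
  · intro t ht
    obtain ⟨p, hp⟩ := τ_surj h13 h23 hc L.hcard h1 h2 hτinj ht
    refine ⟨⟨p, 1⟩, rfl, ?_⟩
    rw [hιdef]
    simp [hp]
  · intro π
    rw [hιdef]
    change τ t₁ t₂ 0 * f π = f π
    rw [τ_zero, one_mul]

/-- The setup from the local data. -/
theorem Loc.exists_setup (L : Loc T f) {N : Subgroup G} (hN : N = Subgroup.normalizer (T : Set G))
    (hC : ∀ t ∈ T, t ≠ 1 → Subgroup.centralizer ({t} : Set G) ≤ N) (h72 : Nat.card N = 72)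
    (hP : ∃ P : Sylow 3 G, (P : Subgroup G) = T) :
    ∃ ι : Gam →* G, Setup ι ∧ (∃ P : Sylow 3 G, (P : Subgroup G) = TT ι) ∧ TT ι = T ∧ ι.range = N ∧
      (∀ π : D4, ι ⟨0, π⟩ = f π) := by
  classical
  obtain ⟨ι, hinj, hmem, hnorm, hsurj, hf⟩ := L.exists_model
  have hTT : TT ι = T := by
    ext t
    constructor
    · rintro ⟨x, hx, rfl⟩
      exact (hmem x).mpr hx
    · intro ht
      obtain ⟨x, hx, hx'⟩ := hsurj t ht
      exact ⟨x, hx, hx'⟩
  have hle : ι.range ≤ N := by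
    rintro _ ⟨x, rfl⟩
    rw [hN]
    exact Subgroup.mem_normalizer_fintype (S := (T : Set G)) (fun a ha => hnorm x a ha)
  have hcard : Nat.card ι.range = 72 := by
    rw [← Nat.card_congr (MonoidHom.ofInjective hinj).toEquiv]
    rw [Nat.card_eq_fintype_card]
    decide
  have hrange : ι.range = N := Subgroup.eq_of_le_of_card_ge hle (by rw [hcard, h72])
  have hN3 : ∀ x ∈ N, x ^ 3 = 1 → x ∈ T := by
    intro x hx h3
    rw [← hrange] at hx
    obtain ⟨c, rfl⟩ := hx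
    refine (hmem c).mpr (TG_of_pow3 c (hinj ?_))
    rw [map_pow, h3, map_one]
  have hmodel : TIModel ι TG := by
    refine ⟨hinj, ?_⟩
    intro t t' ht ht1 ht' g hg
    rw [hrange]
    refine mem_normalizer_of_conj hN L.hab L.h3 hC hN3 ((hmem t).mpr ht)
      (fun h => ht1 (hinj (by rw [h, map_one]))) ?_
    rw [hg]
    exact (hmem t').mpr ht'
  refine ⟨ι, ⟨hmodel, ?_⟩, ?_, hTT, hrange, hf⟩
  · obtain ⟨P, hP⟩ := hP
    intro h27
    have h1 := Sylow.card_eq_multiplicity P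
    rw [hP, L.hcard] at h1
    have h2 : (Nat.card G).factorization 3 = 2 := by
      have h3 : 3 ^ 2 = 3 ^ (Nat.card G).factorization 3 := by
        rw [← h1]; norm_num
      exact (Nat.pow_right_injective (by norm_num : 2 ≤ 3) h3).symm
    have h3 : 3 ^ 3 ∣ Nat.card G := by simpa using h27
    have h4 := (Nat.Prime.pow_dvd_iff_le_factorization Nat.prime_three Nat.card_pos.ne').mp h3
    omega
  · obtain ⟨P, hP⟩ := hP
    exact ⟨P, by rw [hP, hTT]⟩

/-- A subgroup with no nontrivial action: elements of `N(T)` of prime order at least `5` do not exist. -/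
theorem no_large_prime {T : Subgroup G} (h3 : ∀ t ∈ T, t ^ 3 = 1) (hcard : Nat.card T = 9)
    (hCT : Subgroup.centralizer (T : Set G) ≤ T) {g : G} {q : ℕ} (hq : q.Prime) (hq5 : 5 ≤ q) (hg : g ^ q = 1)
    (hg1 : g ≠ 1) (hgN : ∀ t ∈ T, g * t * g⁻¹ ∈ T) : False := by
  classical
  haveI : Fact q.Prime := ⟨hq⟩
  letI : Fintype T := Fintype.ofFinite _
  let F : Function.End T := fun t => ⟨g * t * g⁻¹, hgN t t.2⟩
  have hFpow : ∀ (n : ℕ) (t : T), ((F ^ n) t : G) = g ^ n * t * (g ^ n)⁻¹ := by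
    intro n
    induction n with
    | zero =>
      intro t
      have : (F ^ 0) t = t := rfl
      rw [this]
      simp
    | succ n ih =>
      intro t
      rw [pow_succ]
      change ((F ^ n) (F t) : G) = _
      rw [ih]
      change g ^ n * (g * t * g⁻¹) * (g ^ n)⁻¹ = _
      rw [pow_succ]
      group
  have hF : F ^ q ^ 1 = 1 := by
    funext t
    apply Subtype.ext
    rw [pow_one, hFpow, hg]
    simp
    rfl
  have hmod := Equiv.Perm.card_fixedPoints_modEq hF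
  -- the fixed points form a subgroup
  let A : Subgroup G := T ⊓ Subgroup.centralizer ({g} : Set G)
  have hAle : A ≤ T := inf_le_left
  have hfix : Fintype.card (Function.fixedPoints F) = Nat.card A := by
    rw [← Nat.card_eq_fintype_card]
    refine Nat.card_congr ⟨fun t => ⟨t.1.1, Subgroup.mem_inf.mpr ⟨t.1.2, ?_⟩⟩,
      fun a => ⟨⟨a.1, (Subgroup.mem_inf.mp a.2).1⟩, ?_⟩, ?_, ?_⟩
    · rw [Subgroup.mem_centralizer_singleton_iff]
      have h4 : g * (t.1 : G) * g⁻¹ = t.1 := congrArg Subtype.val t.2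
      rw [mul_inv_eq_iff_eq_mul] at h4
      exact h4.symm
    · apply Subtype.ext
      have h4 := Subgroup.mem_centralizer_singleton_iff.mp (Subgroup.mem_inf.mp a.2).2
      change g * (a : G) * g⁻¹ = a
      rw [mul_inv_eq_iff_eq_mul]
      exact h4.symm
    · intro t
      rfl
    · intro a
      rfl
  have hT9 : Fintype.card T = 9 := by
    rw [← Nat.card_eq_fintype_card]
    exact hcard
  rw [hfix, hT9] at hmod
  have hdvd : Nat.card A ∣ 9 := by
    rw [← hcard]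
    exact Subgroup.card_dvd_of_le hAle
  have hA : Nat.card A = 9 := by
    have h5 : Nat.card A ≤ 9 := Nat.le_of_dvd (by norm_num) hdvd
    have h6 : Nat.card A ∈ Nat.divisors 9 := Nat.mem_divisors.mpr ⟨hdvd, by norm_num⟩
    have h7 : Nat.divisors 9 = {1, 3, 9} := by decide
    rw [h7] at h6
    simp only [Finset.mem_insert, Finset.mem_singleton] at h6
    rcases h6 with h6 | h6 | h6
    · exfalso
      rw [h6] at hmod
      have h8 : q ∣ 9 - 1 := (Nat.modEq_iff_dvd' (by norm_num)).mp hmod.symm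
      have h9 : q ∣ 2 ^ 3 := by simpa using h8
      have := hq.dvd_of_dvd_pow h9
      have := Nat.le_of_dvd (by norm_num) this
      omega
    · exfalso
      rw [h6] at hmod
      have h8 : q ∣ 9 - 3 := (Nat.modEq_iff_dvd' (by norm_num)).mp hmod.symm
      have h9 : q ≤ 6 := Nat.le_of_dvd (by norm_num) h8
      interval_cases q
      · omega
      · exact absurd hq (by norm_num)
    · exact h6
  have hAT : A = T := Subgroup.eq_of_le_of_card_ge hAle (by rw [hA, hcard])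
  have hgT : g ∈ T := by
    apply hCT
    rw [Subgroup.mem_centralizer_iff]
    intro t ht
    rw [← hAT] at ht
    have h4 := Subgroup.mem_centralizer_singleton_iff.mp (Subgroup.mem_inf.mp ht).2
    exact h4
  have h5 : orderOf g = q := orderOf_eq_prime hg hg1
  have h6 := orderOf_dvd_of_pow_eq_one (h3 g hgT)
  rw [h5] at h6
  have := Nat.le_of_dvd (by norm_num) h6
  omega

/-- The order of the normalizer. -/
theorem card_normalizer_eq {T N : Subgroup G} (hN : N = Subgroup.normalizer (T : Set G)) (h3 : ∀ t ∈ T, t ^ 3 = 1)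
    (hcard : Nat.card T = 9) (hCT : Subgroup.centralizer (T : Set G) ≤ T)
    (hP : ∃ P : Sylow 3 G, (P : Subgroup G) = T) (S : Sylow 2 N) (hS : Nat.card (S : Subgroup N) = 8) :
    Nat.card N = 72 := by
  classical
  have hTN : T ≤ N := by
    rw [hN]
    exact Subgroup.le_normalizer
  have h9 : 9 ∣ Nat.card N := by
    rw [← hcard]
    exact Subgroup.card_dvd_of_le hTN
  have h8 : 8 ∣ Nat.card N := by
    rw [← hS]
    exact Subgroup.card_subgroup_dvd_card _
  have h72 : 72 ∣ Nat.card N := by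
    have : Nat.Coprime 8 9 := by norm_num
    simpa using this.mul_dvd_of_dvd_of_dvd h8 h9
  obtain ⟨k, hk⟩ := h72
  have hk0 : k ≠ 0 := by
    rintro rfl
    exact Nat.card_pos.ne' (by simpa using hk)
  by_cases hk1 : k = 1
  · rw [hk, hk1]
  exfalso
  obtain ⟨q, hq, hqk⟩ := Nat.exists_prime_and_dvd hk1
  have hqN : q ∣ Nat.card N := by
    rw [hk]
    exact hqk.mul_left _
  obtain ⟨l, hl⟩ := hqk
  have h144 : 72 * q ∣ Nat.card N := ⟨l, by rw [hk, hl]; ring⟩
  by_cases hq2 : q = 2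
  · subst hq2
    have h1 := Sylow.card_eq_multiplicity S
    rw [hS] at h1
    have h2 : (Nat.card N).factorization 2 = 3 := by
      have h3' : 2 ^ 3 = 2 ^ (Nat.card N).factorization 2 := by
        rw [← h1]; norm_num
      exact (Nat.pow_right_injective (le_refl 2) h3').symm
    have h4 : 2 ^ 4 ∣ Nat.card N := (by norm_num : 2 ^ 4 ∣ 72 * 2).trans h144
    have h5 := (Nat.Prime.pow_dvd_iff_le_factorization Nat.prime_two Nat.card_pos.ne').mp h4
    omega
  by_cases hq3 : q = 3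
  · subst hq3
    obtain ⟨P, hP⟩ := hP
    have h1 := Sylow.card_eq_multiplicity P
    rw [hP, hcard] at h1
    have h2 : (Nat.card G).factorization 3 = 2 := by
      have h3' : 3 ^ 2 = 3 ^ (Nat.card G).factorization 3 := by
        rw [← h1]; norm_num
      exact (Nat.pow_right_injective (by norm_num : 2 ≤ 3) h3').symm
    have h4 : 3 ^ 3 ∣ Nat.card G :=
      ((by norm_num : 3 ^ 3 ∣ 72 * 3).trans h144).trans (Subgroup.card_subgroup_dvd_card N)
    have h5 := (Nat.Prime.pow_dvd_iff_le_factorization Nat.prime_three Nat.card_pos.ne').mp h4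
    omega
  have hq5 : 5 ≤ q := by
    have := hq.two_le
    by_contra hcon
    have h4 : q = 4 := by omega
    rw [h4] at hq
    exact absurd hq (by norm_num)
  haveI : Fact q.Prime := ⟨hq⟩
  obtain ⟨g, hg⟩ := exists_prime_orderOf_dvd_card' q hqN
  have hg' : orderOf (g : G) = q := by
    rw [← hg]
    exact Subgroup.orderOf_coe g
  have hgq : (g : G) ^ q = 1 := by
    rw [← hg']
    exact pow_orderOf_eq_one _
  have hg1 : (g : G) ≠ 1 := by
    intro h
    rw [h, orderOf_one] at hg'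
    exact hq.one_lt.ne hg'
  have hgN : (g : G) ∈ Subgroup.normalizer (T : Set G) := hN ▸ g.2
  rw [Subgroup.mem_normalizer_iff] at hgN
  exact no_large_prime h3 hcard hCT hq hq5 hgq hg1 (fun t ht => (hgN t).mp ht)

/-- **The main theorem for `D₈`.** -/
theorem not_simple_of_sylow2 (M : Sylow 3 G) (hM9 : Nat.card ↥(M : Subgroup G) = 9)
    (hMel : ∀ m ∈ (M : Subgroup G), m ^ 3 = 1)
    (hCM : Subgroup.centralizer ((M : Subgroup G) : Set G) = (M : Subgroup G))
    (N : Subgroup G) (hN : N = Subgroup.normalizer ((M : Subgroup G) : Set G))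
    (hCg : ∀ g ∈ (M : Subgroup G), g ≠ 1 → Subgroup.centralizer ({g} : Set G) ≤ N)
    (hS : ∀ S : Sylow 2 ↥N, Nonempty (↥(S : Subgroup ↥N) ≃* DihedralGroup 4)) :
    ¬ IsSimpleGroup G := by
  classical
  letI : Fintype G := Fintype.ofFinite G
  haveI := Cfsg.Agent.Lib.Char.Ortho.finite_irrCharacter (G := G)
  letI : Fintype (IrrCharacter G) := Fintype.ofFinite _
  obtain ⟨S⟩ : Nonempty (Sylow 2 N) := inferInstance
  obtain ⟨e⟩ := hS S
  have hS8 : Nat.card (S : Subgroup N) = 8 := by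
    rw [Nat.card_congr e.toEquiv, DihedralGroup.nat_card]
  have hT : ((M : Subgroup G) : Subgroup G) ≤ Subgroup.centralizer ((M : Subgroup G) : Set G) := hCM.ge
  have h72 := card_normalizer_eq hN hMel hM9 hCM.le ⟨M, rfl⟩ S hS8
  let f : D4 →* G := N.subtype.comp ((S : Subgroup N).subtype.comp e.symm.toMonoidHom)
  have hL : Loc (M : Subgroup G) f := by
    refine ⟨hMel, hM9, ?_, hCM.le, ?_, ?_⟩
    · intro a ha b hb
      have := hT ha
      rw [Subgroup.mem_centralizer_iff] at this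
      exact (this b hb).symm
    · intro a b hab
      have h1 : (N.subtype.comp ((S : Subgroup N).subtype.comp e.symm.toMonoidHom)) a = _ := hab
      apply e.symm.injective
      apply Subtype.ext
      apply Subtype.ext
      exact hab
    · intro π t ht
      have h1 : f π ∈ Subgroup.normalizer ((M : Subgroup G) : Set G) := by
        rw [← hN]
        exact Subtype.property _
      rw [Subgroup.mem_normalizer_iff] at h1
      exact (h1 t).mp ht
  obtain ⟨ι, hSet, hsyl, -, -, -⟩ := hL.exists_setup hN hCg h72 ⟨M, rfl⟩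
  exact Cfsg.Agent.Lib.Nine.D8Main.not_simple hSet hsyl

end Cfsg.Agent.Lib.Nine.D8Local
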