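import Mathlib
import Cfsg.Agent.Lib.Nine.Basic

/-!
# Normal complements in centralizers and a fixed point free automorphism of order three
-/

set_option autoImplicit false
set_option linter.unusedSectionVars false
set_option linter.unusedVariables false
set_option linter.style.haveILetI false

namespace Cfsg.Agent.Lib.Nine.FrobT

open Cfsg

universe u

variable {G : Type u} [Group G] [Finite G]

section Fpf

variable {T : Subgroup G} {g : G}

/-- The commutator map of a fixed point free element is onto. -/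
theorem exists_comm_eq (hTg : ∀ u ∈ T, g * u * g⁻¹ ∈ T) (hf : ∀ u ∈ T, u * g = g * u → u = 1) {x : G} (hx : x ∈ T) :
    ∃ z ∈ T, x = z⁻¹ * (g * z * g⁻¹) := by
  let F : T → T := fun z => ⟨(z : G)⁻¹ * (g * z * g⁻¹), T.mul_mem (T.inv_mem z.2) (hTg z z.2)⟩
  have hinj : Function.Injective F := by
    intro a b hab
    have h1 : (a : G)⁻¹ * (g * a * g⁻¹) = (b : G)⁻¹ * (g * b * g⁻¹) := congrArg Subtype.val hab
    have h2 : (b : G) * (a : G)⁻¹ * g = g * ((b : G) * (a : G)⁻¹) := by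
      have h3 : (a : G)⁻¹ * (g * a) = (b : G)⁻¹ * (g * b) := by
        have h4 := congrArg (fun w => w * g) h1
        simpa [mul_assoc] using h4
      have h5 : (b : G) * (a : G)⁻¹ * g * a = (b : G) * ((a : G)⁻¹ * (g * a)) := by group
      have h6 : (b : G) * ((b : G)⁻¹ * (g * b)) = g * b := by group
      have h7 : (b : G) * (a : G)⁻¹ * g * a = g * b := by rw [h5, h3, h6]
      have h8 : (b : G) * (a : G)⁻¹ * g = g * b * (a : G)⁻¹ := by
        rw [← h7]; group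
      rw [h8]; group
    have h9 := hf _ (T.mul_mem b.2 (T.inv_mem a.2)) h2
    have h10 : (b : G) = a := by
      rwa [mul_inv_eq_one] at h9
    exact (Subtype.ext h10).symm
  obtain ⟨z, hz⟩ := (Finite.injective_iff_surjective.mp hinj) ⟨x, hx⟩
  exact ⟨z, z.2, (congrArg Subtype.val hz).symm⟩

/-- All elements of the coset are conjugates. -/
theorem exists_conj_eq (hTg : ∀ u ∈ T, g * u * g⁻¹ ∈ T) (hf : ∀ u ∈ T, u * g = g * u → u = 1) {x : G} (hx : x ∈ T) :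
    ∃ c ∈ T, x * g = c * g * c⁻¹ := by
  obtain ⟨z, hz, rfl⟩ := exists_comm_eq hTg hf hx
  refine ⟨z⁻¹, T.inv_mem hz, ?_⟩
  group

/-- The norm of a fixed point free automorphism of order three is trivial. -/
theorem norm_eq_one (hTg : ∀ u ∈ T, g * u * g⁻¹ ∈ T) (hf : ∀ u ∈ T, u * g = g * u → u = 1) (hg3 : g ^ 3 = 1)
    {x : G} (hx : x ∈ T) : x * (g * x * g⁻¹) * (g⁻¹ * x * g) = 1 := by
  obtain ⟨z, hz, rfl⟩ := exists_comm_eq hTg hf hx
  have h3 : g * g * g = 1 := by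
    rw [← hg3, pow_succ, pow_two]
  have h1 : g⁻¹ = g * g := by
    rw [inv_eq_iff_mul_eq_one]
    rw [← mul_assoc, h3]
  have e : g⁻¹ * g⁻¹ = g := by
    rw [h1]
    calc g * g * (g * g) = (g * g * g) * g := by group
      _ = g := by rw [h3, one_mul]
  have hc : ∀ w : G, g⁻¹ * w * g = g * g * w * g⁻¹ * g⁻¹ := by
    intro w
    calc g⁻¹ * w * g = g * g * w * (g⁻¹ * g⁻¹) := by rw [e, ← h1]
      _ = _ := by group
  rw [hc]
  calc z⁻¹ * (g * z * g⁻¹) * (g * (z⁻¹ * (g * z * g⁻¹)) * g⁻¹) * (g * g * (z⁻¹ * (g * z * g⁻¹)) * g⁻¹ * g⁻¹)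
      = z⁻¹ * (g * g * g) * z * (g * g * g)⁻¹ := by group
    _ = 1 := by rw [h3]; group

/-- **The involution lemma.** -/
theorem conj_of_involution {Q : Subgroup G} {t y v : G}
    (hC : ∀ x : G, x * t = t * x → ∃ u ∈ T, ∃ q ∈ Q, x = u * q)
    (hTg : ∀ u ∈ T, g * u * g⁻¹ ∈ T) (hf : ∀ u ∈ T, u * g = g * u → u = 1) (hg3 : g ^ 3 = 1)
    (hy2 : y * y = 1) (hyt : y * t * y⁻¹ = t⁻¹)
    (hQ3 : ∀ q ∈ Q, q ^ 3 = 1) (hQy : ∀ q ∈ Q, y * q * y⁻¹ = q⁻¹)
    (hQcomm : ∀ a ∈ Q, ∀ b ∈ Q, a * b = b * a) (hg : g ∈ Q)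
    (hv2 : v * v = 1) (hvt : v * t * v⁻¹ = t⁻¹) : IsConj y v := by
  have hyi : y⁻¹ = y := inv_eq_of_mul_eq_one_left hy2
  have hvi : v⁻¹ = v := inv_eq_of_mul_eq_one_left hv2
  have hyt' : y * t = t⁻¹ * y := by
    have h0 := hyt
    rw [hyi] at h0
    calc y * t = (y * t * y) * y := by rw [mul_assoc (y * t), hy2, mul_one]
      _ = t⁻¹ * y := by rw [h0]
  have hvt' : v * t⁻¹ = t * v := by
    have h0 : v * t * v = t⁻¹ := by rwa [hvi] at hvt
    have h2 : v * t⁻¹ * v = t := by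
      have e : v * t⁻¹ * v = (v * t * v)⁻¹ := by
        rw [mul_inv_rev, mul_inv_rev, hvi]
        group
      rw [e, h0, inv_inv]
    calc v * t⁻¹ = (v * t⁻¹ * v) * v := by rw [mul_assoc (v * t⁻¹), hv2, mul_one]
      _ = t * v := by rw [h2]
  have h1 : (v * y) * t = t * (v * y) := by
    calc v * y * t = v * (y * t) := by group
      _ = v * (t⁻¹ * y) := by rw [hyt']
      _ = (v * t⁻¹) * y := by group
      _ = (t * v) * y := by rw [hvt']
      _ = t * (v * y) := by group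
  obtain ⟨u, hu, q, hq, he⟩ := hC _ h1
  obtain ⟨y₁, hy₁⟩ : ∃ y₁, y₁ = q * y := ⟨_, rfl⟩
  have hv : v = u * y₁ := by
    calc v = v * y * y := by rw [mul_assoc, hy2, mul_one]
      _ = u * q * y := by rw [he]
      _ = u * y₁ := by rw [hy₁]; group
  have hA : ∀ a ∈ Q, y * a = a⁻¹ * y := by
    intro a ha
    have h0 := hQy a ha
    rw [hyi] at h0
    calc y * a = (y * a * y) * y := by rw [mul_assoc (y * a), hy2, mul_one]
      _ = a⁻¹ * y := by rw [h0]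
  have hqi : y * q⁻¹ = q * y := by
    rw [hA _ (Q.inv_mem hq), inv_inv]
  have hgi : y * g⁻¹ = g * y := by
    rw [hA _ (Q.inv_mem hg), inv_inv]
  have hy₁2 : y₁ * y₁ = 1 := by
    calc y₁ * y₁ = q * (y * q) * y := by rw [hy₁]; group
      _ = q * (q⁻¹ * y) * y := by rw [hA q hq]
      _ = y * y := by group
      _ = 1 := hy2
  have hconj1 : IsConj y y₁ := by
    refine isConj_iff.mpr ⟨q * q, ?_⟩
    calc q * q * y * (q * q)⁻¹ = q * q * (y * q⁻¹) * q⁻¹ := by group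
      _ = q * q * (q * y) * q⁻¹ := by rw [hqi]
      _ = q * q * q * (y * q⁻¹) := by group
      _ = q * q * q * (q * y) := by rw [hqi]
      _ = (q * q * q) * q * y := by group
      _ = y₁ := by
          have : q * q * q = 1 := by rw [← hQ3 q hq, pow_succ, pow_two]
          rw [this, one_mul, hy₁]
  have hy₁g : y₁ * g = g⁻¹ * y₁ := by
    calc y₁ * g = q * (y * g) := by rw [hy₁]; group
      _ = q * g⁻¹ * y := by rw [hA g hg]; group
      _ = g⁻¹ * q * y := by rw [hQcomm q hq _ (Q.inv_mem hg)]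
      _ = g⁻¹ * y₁ := by rw [hy₁]; group
  have hy₁g' : y₁ * g⁻¹ = g * y₁ := by
    calc y₁ * g⁻¹ = q * (y * g⁻¹) := by rw [hy₁]; group
      _ = q * g * y := by rw [hgi]; group
      _ = g * q * y := by rw [hQcomm q hq _ hg]
      _ = g * y₁ := by rw [hy₁]; group
  have hu2 : y₁ * u = u⁻¹ * y₁ := by
    have h6 : u * y₁ * (u * y₁) = 1 := by
      rw [← hv, hv2]
    calc y₁ * u = y₁ * u * (y₁ * y₁) := by rw [hy₁2, mul_one]
      _ = u⁻¹ * (u * y₁ * (u * y₁)) * y₁ := by group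
      _ = u⁻¹ * y₁ := by rw [h6, mul_one]
  have hn := norm_eq_one hTg hf hg3 (T.inv_mem hu)
  have hn' : (g * u⁻¹ * g⁻¹) * (g⁻¹ * u⁻¹ * g) = u := by
    have h7 : (g * u⁻¹ * g⁻¹) * (g⁻¹ * u⁻¹ * g) = (u⁻¹)⁻¹ :=
      eq_inv_of_mul_eq_one_right (a := u⁻¹) (by rw [← mul_assoc]; exact hn)
    rwa [inv_inv] at h7
  refine hconj1.trans (isConj_iff.mpr ⟨g * u⁻¹ * g⁻¹, ?_⟩)
  calc g * u⁻¹ * g⁻¹ * y₁ * (g * u⁻¹ * g⁻¹)⁻¹ = g * u⁻¹ * g⁻¹ * (y₁ * g) * u * g⁻¹ := by group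
    _ = g * u⁻¹ * g⁻¹ * g⁻¹ * (y₁ * u) * g⁻¹ := by rw [hy₁g]; group
    _ = g * u⁻¹ * g⁻¹ * g⁻¹ * u⁻¹ * (y₁ * g⁻¹) := by rw [hu2]; group
    _ = (g * u⁻¹ * g⁻¹) * (g⁻¹ * u⁻¹ * g) * y₁ := by rw [hy₁g']; group
    _ = v := by rw [hn', hv]

end Fpf

section Complement

/-- A self-normalizing `3`-subgroup is a Sylow subgroup. -/
theorem exists_sylow_of_self_normalizing {C : Type u} [Group C] [Finite C] (Q : Subgroup C) (hp : IsPGroup 3 Q)
    (hN : ∀ n, (∀ q ∈ Q, n * q * n⁻¹ ∈ Q) → n ∈ Q) : ∃ P : Sylow 3 C, (P : Subgroup C) = Q := by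
  haveI : Fact (Nat.Prime 3) := ⟨Nat.prime_three⟩
  obtain ⟨P, hP⟩ := hp.exists_le_sylow
  refine ⟨P, le_antisymm ?_ hP⟩
  by_contra hne
  have hlt : Q.subgroupOf (P : Subgroup C) < ⊤ := by
    refine lt_top_iff_ne_top.mpr ?_
    intro h
    apply hne
    intro x hx
    have : (⟨x, hx⟩ : (P : Subgroup C)) ∈ Q.subgroupOf (P : Subgroup C) := by
      rw [h]
      trivial
    exact Subgroup.mem_subgroupOf.mp this
  haveI hnil : Group.IsNilpotent (P : Subgroup C) := P.2.isNilpotent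
  have hcond := Group.normalizerCondition_of_isNilpotent (G := (P : Subgroup C)) _ hlt
  obtain ⟨x, hx1, hx2⟩ := SetLike.exists_of_lt hcond
  apply hx2
  apply Subgroup.mem_subgroupOf.mpr
  apply hN
  intro a ha
  have h1 : (⟨a, hP ha⟩ : (P : Subgroup C)) ∈ Q.subgroupOf (P : Subgroup C) := Subgroup.mem_subgroupOf.mpr ha
  have h2 := (Subgroup.mem_normalizer_iff.mp hx1 _).mp h1
  exact Subgroup.mem_subgroupOf.mp h2

/-- A `3`-subgroup containing all `3`-elements normalizing it is a Sylow subgroup. -/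
theorem exists_sylow_of_pelements {C : Type u} [Group C] [Finite C] (Q : Subgroup C) (hp : IsPGroup 3 Q)
    (hN : ∀ n, (∃ k : ℕ, n ^ 3 ^ k = 1) → (∀ q ∈ Q, n * q * n⁻¹ ∈ Q) → n ∈ Q) : ∃ P : Sylow 3 C, (P : Subgroup C) = Q := by
  haveI : Fact (Nat.Prime 3) := ⟨Nat.prime_three⟩
  obtain ⟨P, hP⟩ := hp.exists_le_sylow
  refine ⟨P, le_antisymm ?_ hP⟩
  by_contra hne
  have hlt : Q.subgroupOf (P : Subgroup C) < ⊤ := by
    refine lt_top_iff_ne_top.mpr ?_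
    intro h
    apply hne
    intro x hx
    have : (⟨x, hx⟩ : (P : Subgroup C)) ∈ Q.subgroupOf (P : Subgroup C) := by
      rw [h]
      trivial
    exact Subgroup.mem_subgroupOf.mp this
  haveI hnil : Group.IsNilpotent (P : Subgroup C) := P.2.isNilpotent
  have hcond := Group.normalizerCondition_of_isNilpotent (G := (P : Subgroup C)) _ hlt
  obtain ⟨x, hx1, hx2⟩ := SetLike.exists_of_lt hcond
  apply hx2
  apply Subgroup.mem_subgroupOf.mpr
  apply hN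
  · obtain ⟨k, hk⟩ := P.2 x
    exact ⟨k, by simpa using congrArg Subtype.val hk⟩
  intro a ha
  have h1 : (⟨a, hP ha⟩ : (P : Subgroup C)) ∈ Q.subgroupOf (P : Subgroup C) := Subgroup.mem_subgroupOf.mpr ha
  have h2 := (Subgroup.mem_normalizer_iff.mp hx1 _).mp h1
  exact Subgroup.mem_subgroupOf.mp h2

/-- **Burnside's theorem** for a self-normalizing abelian subgroup of a subgroup. -/
theorem exists_complement (C Q : Subgroup G) (hQC : Q ≤ C) (hp : IsPGroup 3 Q)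
    (hab : ∀ a ∈ Q, ∀ b ∈ Q, a * b = b * a)
    (hN : ∀ n ∈ C, (∀ q ∈ Q, n * q * n⁻¹ ∈ Q) → n ∈ Q) :
    ∃ T : Subgroup G, T ≤ C ∧ (∀ x ∈ C, ∃ u ∈ T, ∃ q ∈ Q, x = u * q) ∧ (∀ u ∈ T, u ∈ Q → u = 1) ∧
      ¬ 3 ∣ Nat.card T ∧ (∀ x ∈ C, ¬ 3 ∣ orderOf x → x ∈ T) ∧ ∀ c ∈ C, ∀ u ∈ T, c * u * c⁻¹ ∈ T := by
  haveI : Fact (Nat.Prime 3) := ⟨Nat.prime_three⟩
  have hp' : IsPGroup 3 (Q.subgroupOf C) := by
    rintro ⟨x, hx⟩
    obtain ⟨k, hk⟩ := hp ⟨x.1, Subgroup.mem_subgroupOf.mp hx⟩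
    refine ⟨k, ?_⟩
    apply Subtype.ext
    apply Subtype.ext
    simpa using congrArg Subtype.val hk
  obtain ⟨P, hP⟩ := exists_sylow_of_self_normalizing (Q.subgroupOf C) hp' (by
    intro n hn
    apply Subgroup.mem_subgroupOf.mpr
    refine hN _ n.2 fun q hq => ?_
    have h1 := hn ⟨q, hQC hq⟩ (Subgroup.mem_subgroupOf.mpr hq)
    exact Subgroup.mem_subgroupOf.mp h1)
  have hmemP : ∀ x : C, x ∈ (P : Subgroup C) ↔ (x : G) ∈ Q := by
    intro x
    rw [hP]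
    exact Subgroup.mem_subgroupOf
  have hP' : Subgroup.normalizer (P : Set C) ≤ Subgroup.centralizer (P : Set C) := by
    intro n hn
    have hnQ : n ∈ (P : Subgroup C) := by
      rw [hmemP]
      refine hN _ n.2 fun q hq => ?_
      have h1 := (Subgroup.mem_normalizer_iff.mp hn ⟨q, hQC hq⟩).mp ((hmemP _).mpr hq)
      exact (hmemP _).mp h1
    rw [Subgroup.mem_centralizer_iff]
    intro a ha
    apply Subtype.ext
    exact hab _ ((hmemP _).mp ha) _ ((hmemP _).mp hnQ)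
  have hcomp := MonoidHom.ker_transferSylow_isComplement' P hP'
  have hnd := MonoidHom.not_dvd_card_ker_transferSylow P hP'
  set f := MonoidHom.transferSylow P hP' with hf
  have hTmem : ∀ x : G, x ∈ f.ker.map C.subtype ↔ ∃ hx : x ∈ C, (⟨x, hx⟩ : C) ∈ f.ker := by
    intro x
    constructor
    · rintro ⟨y, hy, rfl⟩
      exact ⟨y.2, hy⟩
    · rintro ⟨hx, h⟩
      exact ⟨⟨x, hx⟩, h, rfl⟩
  refine ⟨f.ker.map C.subtype, ?_, ?_, ?_, ?_, ?_, ?_⟩
  · rintro _ ⟨y, -, rfl⟩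
    exact y.2
  · intro x hx
    obtain ⟨⟨a, b⟩, hab'⟩ := hcomp.2 ⟨x, hx⟩
    refine ⟨a.1.1, (hTmem _).mpr ⟨a.1.2, a.2⟩, b.1.1, (hmemP _).mp b.2, ?_⟩
    exact (congrArg Subtype.val hab').symm
  · intro u hu huQ
    obtain ⟨hx, h⟩ := (hTmem u).mp hu
    have hd := hcomp.disjoint
    have h1 : (⟨u, hx⟩ : C) ∈ f.ker ⊓ (P : Subgroup C) := ⟨h, (hmemP _).mpr huQ⟩
    rw [disjoint_iff.mp hd] at h1
    exact congrArg Subtype.val (Subgroup.mem_bot.mp h1)
  · rw [Subgroup.card_map_of_injective C.subtype_injective]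
    exact hnd
  · intro x hx h3
    refine (hTmem x).mpr ⟨hx, ?_⟩
    have h1 : orderOf (f ⟨x, hx⟩) ∣ orderOf (⟨x, hx⟩ : C) := orderOf_map_dvd f _
    have h2 : orderOf (⟨x, hx⟩ : C) = orderOf x := Subgroup.orderOf_mk _ _
    rw [h2] at h1
    obtain ⟨k, hk⟩ := (IsPGroup.iff_orderOf.mp P.2) (f ⟨x, hx⟩)
    have h4 : k = 0 := by
      by_contra h5
      apply h3
      refine dvd_trans ?_ h1
      rw [hk]
      exact dvd_pow_self 3 h5
    rw [h4, pow_zero, orderOf_eq_one_iff] at hk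
    exact hk
  · intro c hc u hu
    obtain ⟨hx, h⟩ := (hTmem u).mp hu
    refine (hTmem _).mpr ⟨C.mul_mem (C.mul_mem hc hx) (C.inv_mem hc), ?_⟩
    have := (inferInstance : f.ker.Normal).conj_mem _ h ⟨c, hc⟩
    exact this

end Complement

end Cfsg.Agent.Lib.Nine.FrobT
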