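import Mathlib
import Cfsg.Agent.Lib.Nine.S6Sum
import Cfsg.Agent.Lib.Classical.SLBasic
import Cfsg.Agent.Lib.Classical.SL2Sylow
import Cfsg.Agent.S3331

/-!
# The branch `α = -5`

The centralizer of the involution `e` in the kernel of the linear character has a self-centralizing
subgroup of order `3`.
-/

set_option autoImplicit false
set_option linter.unusedSectionVars false
set_option linter.unusedVariables false
set_option linter.unusedSimpArgs false
set_option linter.style.haveILetI false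
set_option maxRecDepth 100000

namespace Cfsg.Agent.Lib.Nine.S6BranchE

open Cfsg
open Cfsg.Agent.Lib.Nine.ModelD8 Cfsg.Agent.Lib.Nine.Fuse Cfsg.Agent.Lib.Nine.Basic
open Cfsg.Agent.Lib.Nine.D8Coh Cfsg.Agent.Lib.Nine.D8Char Cfsg.Agent.Lib.Nine.D8Alg
open Cfsg.Agent.Lib.Nine.D8Form Cfsg.Agent.Lib.Nine.D8Main Cfsg.Agent.Lib.Nine.S6Coh
open Cfsg.Agent.Lib.Nine.S6Data Cfsg.Agent.Lib.Nine.S6Local Cfsg.Agent.Lib.Nine.S6Sum
open Cfsg.Agent.Lib.Blocks.Third
open scoped MatrixGroups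

universe u

theorem card_P7 : Nat.card (Matrix.ProjectiveSpecialLinearGroup (Fin 2) (ZMod 7)) = 168 := by
  haveI : Fact (Nat.Prime 7) := ⟨by norm_num⟩
  have h := Cfsg.Agent.Lib.Classical.SLBasic.card_sl_eq_mul_card_psl (ι := Fin 2) (F := ZMod 7)
  have h1 : Nat.card SL(2, ZMod 7) = 336 := by
    rw [Cfsg.Agent.Lib.Classical.SL2Sylow.card_SL2, ZMod.card]
  have h2 : Nat.card (Subgroup.center SL(2, ZMod 7)) = 2 := by
    rw [Cfsg.Agent.Lib.Classical.SLBasic.card_center_sl, ZMod.card]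
    rfl
  rw [h1, h2] at h
  have h3 : 336 = Nat.card (Matrix.ProjectiveSpecialLinearGroup (Fin 2) (ZMod 7)) * 2 := h
  omega

/-- An element of prime order in the centre of a Sylow subgroup of a nilpotent normal subgroup:
it commutes with its conjugates. -/
theorem exists_central {M : Type*} [Group M] [Finite M] (N₁ : Subgroup M) [hN : N₁.Normal]
    (hnil : Group.IsNilpotent N₁) {q : ℕ} [hq : Fact q.Prime] (hdvd : q ∣ Nat.card N₁) (x : M) :
    ∃ y : M, y ∈ N₁ ∧ y ^ q = 1 ∧ y ≠ 1 ∧ ∀ k : ℕ, y * (x ^ k * y * (x ^ k)⁻¹) = (x ^ k * y * (x ^ k)⁻¹) * y := by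
  classical
  obtain ⟨Q⟩ : Nonempty (Sylow q N₁) := inferInstance
  have hQn : (Q : Subgroup N₁).Normal := ((Group.isNilpotent_of_finite_tfae (G := N₁)).out 0 3 rfl rfl).mp hnil q hq Q
  have hQc : (Q : Subgroup N₁).Characteristic := Sylow.characteristic_of_normal Q hQn
  have hQ1 : (Q : Subgroup N₁) ≠ ⊥ := Q.ne_bot_of_dvd_card hdvd
  haveI : Nontrivial (Q : Subgroup N₁) := (Subgroup.nontrivial_iff_ne_bot _).mpr hQ1
  haveI := Q.isPGroup'.center_nontrivial
  have hQq : q ∣ Nat.card (Subgroup.center (Q : Subgroup N₁)) := by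
    rcases (Q.isPGroup'.to_subgroup (Subgroup.center (Q : Subgroup N₁))).card_eq_or_dvd with h1 | h2
    · exact absurd h1 Finite.one_lt_card.ne'
    · exact h2
  obtain ⟨z₀, hz₀⟩ := exists_prime_orderOf_dvd_card' q hQq
  have hz₀' : orderOf ((z₀ : (Q : Subgroup N₁)) : N₁) = q := by
    rw [Subgroup.orderOf_coe, Subgroup.orderOf_coe, hz₀]
  set y₀ : N₁ := ((z₀ : (Q : Subgroup N₁)) : N₁) with hy₀
  have hy₀M : orderOf (y₀ : M) = q := by
    rw [Subgroup.orderOf_coe, hz₀']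
  refine ⟨y₀, y₀.2, ?_, ?_, ?_⟩
  · rw [← hy₀M]
    exact pow_orderOf_eq_one _
  · intro h
    rw [h, orderOf_one] at hy₀M
    exact hq.out.one_lt.ne hy₀M
  · intro k
    have h1 : (MulAut.conjNormal (x ^ k) y₀ : N₁) ∈ (Q : Subgroup N₁) := by
      have := hQc.fixed (MulAut.conjNormal (x ^ k))
      have h2 : y₀ ∈ (Q : Subgroup N₁) := (z₀ : (Q : Subgroup N₁)).2
      rw [← this] at h2
      exact h2
    have h3 := Subgroup.mem_center_iff.mp z₀.2 ⟨_, h1⟩
    have h4 : (MulAut.conjNormal (x ^ k) y₀ : N₁) * y₀ = y₀ * (MulAut.conjNormal (x ^ k) y₀ : N₁) :=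
      congrArg Subtype.val h3
    have h5 := congrArg Subtype.val h4
    simp only [Subgroup.coe_mul, MulAut.conjNormal_apply] at h5
    exact h5.symm

section Dat

variable {G : Type u} [Group G] [Fintype G] {ι : Gam →* G}
variable [Fintype (IrrCharacter G)] {χ : Fin 9 → IrrCharacter G} {s : Fin 9 → ℤ} {α A Ψ : ℤ}

theorem sgn_of_neg (C : Coh ι χ s) (l : Fin 9) {d : ℤ} (h : dl χ s l = d) (hneg : d < 0) :
    s l = -1 ∧ (χ l : G → ℂ) 1 = ((-d : ℤ) : ℂ) := by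
  have hpos := Cfsg.Agent.Lib.Char.Degree.charDegree_pos (χ l).2
  have hd := Cfsg.Agent.Lib.Blocks.Heights.irr_one_eq (χ l)
  rw [dl, hd] at h
  have h' : s l * (Cfsg.charDegree (χ l : G → ℂ) : ℤ) = d := by exact_mod_cast h
  rcases C.sgn l with hs | hs
  · rw [hs, one_mul] at h'
    omega
  · refine ⟨hs, ?_⟩
    rw [hs] at h'
    rw [hd]
    have : (Cfsg.charDegree (χ l : G → ℂ) : ℤ) = -d := by omega
    exact_mod_cast this

theorem sgn_of_pos (C : Coh ι χ s) (l : Fin 9) {d : ℤ} (h : dl χ s l = d) (hneg : 0 < d) :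
    s l = 1 ∧ (χ l : G → ℂ) 1 = (d : ℂ) := by
  have hpos := Cfsg.Agent.Lib.Char.Degree.charDegree_pos (χ l).2
  have hd := Cfsg.Agent.Lib.Blocks.Heights.irr_one_eq (χ l)
  rw [dl, hd] at h
  have h' : s l * (Cfsg.charDegree (χ l : G → ℂ) : ℤ) = d := by exact_mod_cast h
  rcases C.sgn l with hs | hs
  · refine ⟨hs, ?_⟩
    rw [hs, one_mul] at h'
    rw [hd]
    exact_mod_cast h'
  · rw [hs] at h'
    omega

/-- The numerical data of the central involution. -/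
theorem Dat.z_data (D : Dat ι χ s α A Ψ) :
    ∃ a p : ℤ, sv χ s 1 (ι z) = a ∧ sv χ s 4 (ι z) = p ∧
      6 * α * (Nat.card (Subgroup.centralizer ({ι z} : Set G)) : ℤ) =
        (Nat.card (Subgroup.centralizer ({ι e1} : Set G)) : ℤ) * (3 * α - a - p) ∧
      a * (3 + α) = (1 + 3 * α) - (1 + a + p) * (1 - α) := by
  have hinj := D.S.model.inj
  have hz2 : (ι z) ^ 2 = 1 := by rw [← map_pow, show z ^ 2 = 1 by decide, map_one]
  have hz1 : ι z ≠ 1 := fun h => absurd (hinj (by rw [h, map_one]) : z = 1) (by decide)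
  obtain ⟨n₁, hn₁⟩ := int_val D.C hinj 1 (ι z)
  obtain ⟨n₄, hn₄⟩ := int_val D.C hinj 4 (ι z)
  have e1' : sv χ s 1 (ι z) = ((s 1 * n₁ : ℤ) : ℂ) := by
    rw [sv, hn₁]
    push_cast
    ring
  have e4' : sv χ s 4 (ι z) = ((s 4 * n₄ : ℤ) : ℂ) := by
    rw [sv, hn₄]
    push_cast
    ring
  refine ⟨s 1 * n₁, s 4 * n₄, e1', e4', ?_⟩
  obtain ⟨h1, h2⟩ := D.inv_forms hz2 hz1 D.ε_z (c := 1) (Or.inl ⟨IsConj.refl _, rfl⟩)
  rw [e1', e4'] at h1 h2
  rw [cm, cm] at h1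
  constructor
  · have : ((6 * α * (Nat.card (Subgroup.centralizer ({ι z} : Set G)) : ℤ) : ℤ) : ℂ) =
        (((Nat.card (Subgroup.centralizer ({ι e1} : Set G)) : ℤ) * (3 * α - (s 1 * n₁) - (s 4 * n₄)) : ℤ) : ℂ) := by
      push_cast at h1 ⊢
      linear_combination h1
    exact_mod_cast this
  · have : (((s 1 * n₁) * (3 + α) : ℤ) : ℂ) = (((1 + 3 * α) - (1 + (s 1 * n₁) + (s 4 * n₄)) * (1 - α) : ℤ) : ℂ) := by
      push_cast at h2 ⊢
      linear_combination h2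
    exact_mod_cast this

/-- The kernel of the linear character. -/
noncomputable def K3 (χ : Fin 9 → IrrCharacter G) : Subgroup G :=
  Cfsg.Agent.Lib.Char.Degree.charKer (Cfsg.Agent.Lib.Char.Basic.isCharacter_of_isIrrCharacter (χ 3).2)

theorem mem_K3 (D : Dat ι χ s α A Ψ) {g : G} : g ∈ K3 χ ↔ (χ 3 : G → ℂ) g = 1 := by
  rw [K3, Cfsg.Agent.Lib.Char.Degree.mem_charKer, D.h3]

theorem K3_normal : (K3 χ).Normal := Cfsg.Agent.Lib.Char.Degree.charKer_normal _

/-- The index of the kernel in the centralizer of `e`. -/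
theorem Dat.card_cent (D : Dat ι χ s α A Ψ) :
    Nat.card (Subgroup.centralizer ({ι e1} : Set G)) =
      2 * Nat.card (Subgroup.centralizer ({ι e1} : Set G) ⊓ K3 χ : Subgroup G) := by
  classical
  have hinj := D.S.model.inj
  set Ce := Subgroup.centralizer ({ι e1} : Set G) with hCe
  have hmem : ι e1 ∈ Ce := by
    rw [hCe, Subgroup.mem_centralizer_singleton_iff]
  have hidx : ((K3 χ).subgroupOf Ce).index = 2 := by
    rw [Subgroup.index_eq_two_iff]
    refine ⟨⟨ι e1, hmem⟩, fun b => ?_⟩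
    rw [Subgroup.mem_subgroupOf, Subgroup.mem_subgroupOf, mem_K3 D, mem_K3 D]
    change Xor ((χ 3 : G → ℂ) ((b : G) * ι e1) = 1) _
    rw [lin_mul D.h3, D.ε_e]
    rcases lin_cases D.C hinj D.h3 (b : G) with h | h
    · rw [h]
      right
      norm_num
    · rw [h]
      left
      norm_num
  have h1 := Subgroup.index_mul_card ((K3 χ).subgroupOf Ce)
  rw [hidx] at h1
  rw [← h1]
  congr 1
  exact Nat.card_congr ⟨fun x => ⟨x.1.1, x.1.2, Subgroup.mem_subgroupOf.mp x.2⟩,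
    fun g => ⟨⟨g.1, g.2.1⟩, Subgroup.mem_subgroupOf.mpr g.2.2⟩, fun _ => rfl, fun _ => rfl⟩

theorem t2_table : ∀ c : Gam, c * t2 = t2 * c → c * e1 = e1 * c →
    c = 1 ∨ c = t2 ∨ c = t2⁻¹ ∨ c = e1 ∨ c = t2 * e1 ∨ c = t2⁻¹ * e1 := by
  decide +kernel

/-- The elements of the kernel commuting with `e` and the element `t₂`. -/
theorem Dat.cent_t2 (D : Dat ι χ s α A Ψ) {g : G} (hg : g * ι e1 = ι e1 * g) (hgK : (χ 3 : G → ℂ) g = 1)
    (hgt : g * ι t2 = ι t2 * g) : g = 1 ∨ g = ι t2 ∨ g = (ι t2)⁻¹ := by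
  have hinj := D.S.model.inj
  have ht2 : ι t2 ∈ TT ι := ⟨t2, rfl, rfl⟩
  have ht21 : ι t2 ≠ 1 := fun h => absurd (hinj (by rw [h, map_one]) : t2 = 1) (by decide)
  obtain ⟨c, rfl⟩ := mem_range_of_cent D.S ht2 ht21 hgt
  have h1 : c * t2 = t2 * c := by
    apply hinj
    simpa using hgt
  have h2 : c * e1 = e1 * c := by
    apply hinj
    simpa using hg
  have hχt : (χ 3 : G → ℂ) (ι t2) = 1 := by
    apply lin_odd D.C hinj D.h3 (k := 1)
    rw [← map_pow, show t2 ^ (2 * 1 + 1) = 1 by decide, map_one]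
  have hχt' : (χ 3 : G → ℂ) (ι t2)⁻¹ = 1 := by
    apply lin_odd D.C hinj D.h3 (k := 1)
    rw [← map_inv, ← map_pow, show (t2⁻¹) ^ (2 * 1 + 1) = 1 by decide, map_one]
  have hne : (-1 : ℂ) ≠ 1 := by norm_num
  rcases t2_table c h1 h2 with rfl | rfl | rfl | rfl | rfl | rfl
  · left
    exact map_one ι
  · right; left; rfl
  · right; right
    exact map_inv ι t2
  · exact absurd (hgK.symm.trans D.ε_e).symm hne
  · rw [map_mul, lin_mul D.h3, hχt, D.ε_e] at hgK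
    norm_num at hgK
  · rw [map_mul, map_inv, lin_mul D.h3, hχt', D.ε_e] at hgK
    norm_num at hgK

end Dat

theorem arith_A5 {N P k mz : ℕ} {F : ℤ} (hP : P = 2 ^ k) (h5 : 5 * N = 7 * (60 * P) ^ 2)
    (hmz : 15 * (mz : ℤ) = (60 * (P : ℤ)) * F) (hF0 : 0 < F) (hF : F ≤ 23)
    (h2 : ∀ n, 2 ^ n ∣ N → 2 ^ n ∣ mz) (hk1 : k ≠ 1) (hmod : ∃ j, N = 72 * (9 * j + 1)) : False := by
  have hN : N = 5040 * P ^ 2 := by
    have : 5 * N = 25200 * P ^ 2 := by rw [h5]; ring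
    omega
  obtain ⟨f, rfl⟩ := Int.eq_ofNat_of_zero_le hF0.le
  have hf0 : 0 < f := by exact_mod_cast hF0
  have hf : f ≤ 23 := by exact_mod_cast hF
  have hmz' : mz = 4 * P * f := by
    have : (mz : ℤ) = 4 * (P : ℤ) * (f : ℤ) := by linarith
    exact_mod_cast this
  by_cases hk : 3 ≤ k
  · have hd : 2 ^ (2 + k + (2 + k)) ∣ N := by
      rw [hN, hP]
      refine ⟨315, ?_⟩
      rw [show 2 + k + (2 + k) = 4 + (k + k) by ring, pow_add, pow_add, pow_two]
      ring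
    have h3 := h2 _ hd
    rw [hmz', hP, pow_add, show (2 : ℕ) ^ (2 + k) = 4 * 2 ^ k by rw [pow_add]; norm_num] at h3
    have h4 : 0 < 4 * 2 ^ k := by positivity
    have h5' := Nat.dvd_of_mul_dvd_mul_left h4 h3
    have h6 := Nat.le_of_dvd hf0 h5'
    have h7 : 2 ^ 3 ≤ 2 ^ k := Nat.pow_le_pow_right (by norm_num) hk
    omega
  · obtain ⟨j, hj⟩ := hmod
    have hk' : k = 0 ∨ k = 2 := by omega
    rcases hk' with rfl | rfl
    · rw [hP] at hN
      norm_num at hN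
      omega
    · rw [hP] at hN
      norm_num at hN
      omega

section Final

variable {G : Type u} [Group G] [Fintype G] {ι : Gam →* G}
variable [Fintype (IrrCharacter G)] {χ : Fin 9 → IrrCharacter G} {s : Fin 9 → ℤ}

/-- **The branch `α = -5` does not occur.** -/
theorem Dat.branchE (D : Dat ι χ s (-5) (-35) 20) : False := by
  classical
  have hinj := D.S.model.inj
  set L : Subgroup G := Subgroup.centralizer ({ι e1} : Set G) ⊓ K3 χ with hL
  have hLmem : ∀ g, g ∈ L ↔ g * ι e1 = ι e1 * g ∧ (χ 3 : G → ℂ) g = 1 := by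
    intro g
    rw [hL, Subgroup.mem_inf, Subgroup.mem_centralizer_singleton_iff, mem_K3 D]
  have hm := Dat.card_cent D
  rw [← hL] at hm
  have ht2e : ι t2 * ι e1 = ι e1 * ι t2 := by
    rw [← map_mul, ← map_mul, show t2 * e1 = e1 * t2 by decide]
  have hχt : (χ 3 : G → ℂ) (ι t2) = 1 := by
    apply lin_odd D.C hinj D.h3 (k := 1)
    rw [← map_pow, show t2 ^ (2 * 1 + 1) = 1 by decide, map_one]
  have ht2L : ι t2 ∈ L := (hLmem _).mpr ⟨ht2e, hχt⟩
  have ht21 : ι t2 ≠ 1 := fun h => absurd (hinj (by rw [h, map_one]) : t2 = 1) (by decide)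
  have ht23 : (ι t2) ^ 3 = 1 := by rw [← map_pow, show t2 ^ 3 = 1 by decide, map_one]
  let x₀ : L := ⟨ι t2, ht2L⟩
  have hx3 : x₀ ^ 3 = 1 := Subtype.ext ht23
  have hx1 : x₀ ≠ 1 := fun h => ht21 (congrArg Subtype.val h)
  have hord : orderOf x₀ = 3 := orderOf_eq_prime hx3 hx1
  have hXc : Nat.card (Subgroup.zpowers x₀) = 3 := by rw [Nat.card_zpowers, hord]
  have hcent : ∀ g : L, g * x₀ = x₀ * g → g = 1 ∨ g = x₀ ∨ g = x₀⁻¹ := by
    intro g hg
    obtain ⟨h1, h2⟩ := (hLmem g.1).mp g.2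
    rcases Dat.cent_t2 D h1 h2 (congrArg Subtype.val hg) with h | h | h
    · left
      exact Subtype.ext h
    · right; left
      exact Subtype.ext h
    · right; right
      exact Subtype.ext h
  have hcube : ∀ g : L, g * x₀ = x₀ * g → g ^ 3 = 1 := by
    intro g hg
    rcases hcent g hg with rfl | rfl | rfl
    · simp
    · exact hx3
    · rw [inv_pow, hx3, inv_one]
  have hC : Subgroup.centralizer ((Subgroup.zpowers x₀ : Subgroup L) : Set L) = Subgroup.zpowers x₀ := by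
    apply le_antisymm
    · intro g hg
      rw [Subgroup.mem_centralizer_iff] at hg
      have h1 := hg x₀ (Subgroup.mem_zpowers x₀)
      rcases hcent g h1.symm with rfl | rfl | rfl
      · exact Subgroup.one_mem _
      · exact Subgroup.mem_zpowers _
      · exact Subgroup.inv_mem _ (Subgroup.mem_zpowers _)
    · intro g hg
      rw [Subgroup.mem_centralizer_iff]
      intro h hh
      obtain ⟨i, rfl⟩ := Subgroup.mem_zpowers_iff.mp hg
      obtain ⟨j, rfl⟩ := Subgroup.mem_zpowers_iff.mp hh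
      exact ((Commute.refl x₀).zpow_zpow j i).eq
  -- the numbers
  have hN5 : 5 * Nat.card G = 7 * (Nat.card L) ^ 2 := by
    have h := D.eN
    rw [hm] at h
    push_cast at h
    have h' : (5 : ℤ) * (Nat.card G : ℤ) = 7 * (Nat.card L : ℤ) ^ 2 := by linarith
    exact_mod_cast h'
  obtain ⟨a, p, ha, hp, hz1, hz2⟩ := Dat.z_data D
  obtain ⟨hs1, hd1⟩ := sgn_of_neg D.C 1 (d := -35) D.hA (by norm_num)
  obtain ⟨n₁, hn₁⟩ := int_val D.C hinj 1 (ι z)
  obtain ⟨b1, b2⟩ := int_abs_le 1 (ι z) hn₁ hd1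
  have ha' : a = - n₁ := by
    rw [sv, hs1, hn₁] at ha
    have : ((-n₁ : ℤ) : ℂ) = (a : ℂ) := by
      push_cast at ha ⊢
      linear_combination ha
    exact_mod_cast this.symm
  rw [hm] at hz1
  have hmz0 : 0 < Nat.card (Subgroup.centralizer ({ι z} : Set G)) := Nat.card_pos
  have hL0 : 0 < Nat.card L := Nat.card_pos
  obtain ⟨F, hF⟩ : ∃ F, F = 15 + a + p := ⟨_, rfl⟩
  have hmz : 15 * (Nat.card (Subgroup.centralizer ({ι z} : Set G)) : ℤ) = (Nat.card L : ℤ) * F := by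
    rw [hF]
    push_cast at hz1
    linarith
  have haF : a = 3 * F - 35 := by
    rw [hF]
    linarith
  have hF23 : F ≤ 23 := by omega
  have hF0 : 0 < F := by
    by_contra hcon
    have h1 : F ≤ 0 := by omega
    have h2 : (0 : ℤ) < Nat.card L := by exact_mod_cast hL0
    have h3 : (0 : ℤ) < Nat.card (Subgroup.centralizer ({ι z} : Set G)) := by exact_mod_cast hmz0
    nlinarith
  rcases Cfsg.Agent.S3331.result (Subgroup.zpowers x₀) hXc hC with
    ⟨N₁, hN₁, hnil, hcop, hq⟩ | ⟨N₁, hN₁, hab, h2, ⟨eA⟩⟩ | ⟨⟨eP⟩⟩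
  · -- the nilpotent case
    have h5L : 5 ∣ Nat.card L := by
      have h1 : 5 ∣ 7 * (Nat.card L) ^ 2 := ⟨_, hN5.symm⟩
      have h2 := (Nat.Prime.dvd_mul Nat.prime_five).mp h1
      rcases h2 with h2 | h2
      · omega
      · exact Nat.prime_five.dvd_of_dvd_pow h2
    have h5N : 5 ∣ Nat.card N₁ := by
      have h1 := Subgroup.card_eq_card_quotient_mul_card_subgroup N₁
      rw [h1] at h5L
      rcases (Nat.Prime.dvd_mul Nat.prime_five).mp h5L with h2 | h2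
      · exfalso
        rcases hq with hq | ⟨⟨eS⟩⟩
        · rw [hq] at h2
          omega
        · rw [Nat.card_congr eS.toEquiv, Nat.card_perm] at h2
          simp [Nat.factorial] at h2
      · exact h2
    haveI : Fact (Nat.Prime 5) := ⟨Nat.prime_five⟩
    obtain ⟨y, hyN, hy5, hy1, hyc⟩ := exists_central N₁ hnil h5N x₀
    have hc1 : y * (x₀ * y * x₀⁻¹) = (x₀ * y * x₀⁻¹) * y := by
      simpa using hyc 1
    have hc2 : y * (x₀ * (x₀ * y * x₀⁻¹) * x₀⁻¹) = (x₀ * (x₀ * y * x₀⁻¹) * x₀⁻¹) * y := by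
      have := hyc 2
      have e : x₀ ^ 2 * y * (x₀ ^ 2)⁻¹ = x₀ * (x₀ * y * x₀⁻¹) * x₀⁻¹ := by
        rw [pow_two]
        group
      rwa [e] at this
    obtain ⟨y₁, hy₁⟩ : ∃ y₁, y₁ = x₀ * y * x₀⁻¹ := ⟨_, rfl⟩
    obtain ⟨y₂, hy₂⟩ : ∃ y₂, y₂ = x₀ * y₁ * x₀⁻¹ := ⟨_, rfl⟩
    rw [← hy₁] at hc1 hc2
    rw [← hy₂] at hc2
    have hc12 : y₁ * y₂ = y₂ * y₁ := by
      rw [hy₂, hy₁]
      have h1 : x₀ * (y * (x₀ * y * x₀⁻¹)) * x₀⁻¹ = x₀ * ((x₀ * y * x₀⁻¹) * y) * x₀⁻¹ := by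
        rw [← hy₁, hc1]
      calc x₀ * y * x₀⁻¹ * (x₀ * (x₀ * y * x₀⁻¹) * x₀⁻¹) = x₀ * (y * (x₀ * y * x₀⁻¹)) * x₀⁻¹ := by group
        _ = x₀ * ((x₀ * y * x₀⁻¹) * y) * x₀⁻¹ := h1
        _ = _ := by group
    have hy₃ : x₀ * y₂ * x₀⁻¹ = y := by
      rw [hy₂, hy₁]
      calc x₀ * (x₀ * (x₀ * y * x₀⁻¹) * x₀⁻¹) * x₀⁻¹ = x₀ ^ 3 * y * (x₀ ^ 3)⁻¹ := by
            rw [pow_succ, pow_two]
            group
        _ = y := by rw [hx3]; group
    have hg : (y * y₁ * y₂) * x₀ = x₀ * (y * y₁ * y₂) := by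
      have e : x₀ * (y * y₁ * y₂) * x₀⁻¹ = y * y₁ * y₂ := by
        calc x₀ * (y * y₁ * y₂) * x₀⁻¹ = (x₀ * y * x₀⁻¹) * (x₀ * y₁ * x₀⁻¹) * (x₀ * y₂ * x₀⁻¹) := by group
          _ = y₁ * y₂ * y := by rw [← hy₁, ← hy₂, hy₃]
          _ = y₁ * (y * y₂) := by rw [mul_assoc, hc2]
          _ = (y₁ * y) * y₂ := by group
          _ = y * y₁ * y₂ := by rw [hc1]
      rw [mul_inv_eq_iff_eq_mul] at e
      exact e.symm
    have h3 := hcube _ hg
    have hy₁5 : y₁ ^ 5 = 1 := by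
      rw [hy₁, conj_pow, hy5]
      group
    have hy₂5 : y₂ ^ 5 = 1 := by
      rw [hy₂, conj_pow, hy₁5]
      group
    have h5 : (y * y₁ * y₂) ^ 5 = 1 := by
      have c1 : Commute y y₁ := hc1
      have c2 : Commute (y * y₁) y₂ := Commute.mul_left hc2 hc12
      rw [c2.mul_pow, c1.mul_pow, hy5, hy₁5, hy₂5]
      simp
    have hg1 : y * y₁ * y₂ = 1 := by
      obtain ⟨g, hgdef⟩ : ∃ g, g = y * y₁ * y₂ := ⟨_, rfl⟩
      rw [← hgdef] at h3 h5 ⊢
      have : g = g ^ 3 * g ^ 3 * (g ^ 5)⁻¹ := by group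
      rw [this, h3, h5]
      simp
    subst hy₂ hy₁
    have hy5' : (y : G) ^ 5 = 1 := by
      have := congrArg Subtype.val hy5
      simpa using this
    have hy1' : (y : G) ≠ 1 := fun h => hy1 (Subtype.ext h)
    have hc1' : (y : G) * (ι t2 * y * (ι t2)⁻¹) = (ι t2 * y * (ι t2)⁻¹) * y := congrArg Subtype.val hc1
    have hprod : (y : G) * (ι t2 * y * (ι t2)⁻¹) * (ι t2 * (ι t2 * y * (ι t2)⁻¹) * (ι t2)⁻¹) = 1 :=
      congrArg Subtype.val hg1
    exact Dat.no_five D hy5' hy1' ((hLmem y.1).mp y.2).1 ht2e hc1' hprod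
  · -- the case of `A₅`
    have hpg : IsPGroup 2 N₁ := fun g => ⟨1, Subtype.ext (by simpa using h2 g.1 g.2)⟩
    obtain ⟨k, hk⟩ := IsPGroup.iff_card.mp hpg
    have hcardL : Nat.card L = 60 * 2 ^ k := by
      have h1 := Subgroup.card_eq_card_quotient_mul_card_subgroup N₁
      rw [h1, hk, Nat.card_congr eA.toEquiv, nat_card_alternatingGroup]
      simp [Nat.factorial]
    rw [hcardL] at hN5 hmz
    refine arith_A5 (N := Nat.card G) (P := 2 ^ k) (k := k) (F := F) rfl hN5 ?_ hF0 hF23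
      (fun n h => Dat.two_central D (by norm_num) h) ?_ (card_mod9 D.S)
    · push_cast at hmz ⊢
      exact hmz
    · intro hk1
      rw [hk1] at hk
      have hk2 : Nat.card N₁ = 2 := by simpa using hk
      obtain ⟨n, hn, hu⟩ := (Nat.card_eq_two_iff' (1 : N₁)).mp hk2
      have hn' : (n : L) ≠ 1 := fun h => hn (Subtype.ext h)
      let c : N₁ := ⟨x₀ * n * x₀⁻¹, hN₁.conj_mem _ n.2 _⟩
      have hc1 : c ≠ 1 := by
        intro h
        have h3 : x₀ * n * x₀⁻¹ = 1 := congrArg Subtype.val h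
        apply hn'
        have : (n : L) = x₀⁻¹ * (x₀ * n * x₀⁻¹) * x₀ := by group
        rw [this, h3]
        group
      have hc2 : c = n := hu c hc1
      have hc3 : x₀ * n * x₀⁻¹ = n := congrArg Subtype.val hc2
      have hc4 : (n : L) * x₀ = x₀ * n := by
        rw [mul_inv_eq_iff_eq_mul] at hc3
        exact hc3.symm
      have h3 := hcube _ hc4
      have h4 := h2 _ n.2
      apply hn'
      have : (n : L) = (n : L) ^ 3 * ((n : L) ^ 2)⁻¹ := by group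
      rw [this, h3, h4]
      simp
  · -- the group `PSL(2,7)`
    have h1 : Nat.card L = 168 := by
      rw [Nat.card_congr eP.toEquiv, card_P7]
    rw [h1] at hN5
    omega

end Final

end Cfsg.Agent.Lib.Nine.S6BranchE
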