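import Mathlib
import Cfsg.Agent.Lib.Nine.S6BranchE
import Cfsg.Agent.Lib.Nine.FrobT

/-!
# The branch `α = 1`: the Sylow `3`-subgroup is normal
-/

set_option autoImplicit false
set_option linter.unusedSectionVars false
set_option linter.unusedVariables false
set_option linter.unusedSimpArgs false
set_option linter.style.haveILetI false
set_option maxRecDepth 100000

namespace Cfsg.Agent.Lib.Nine.S6BranchD

open Cfsg
open Cfsg.Agent.Lib.Nine.ModelD8 Cfsg.Agent.Lib.Nine.Fuse Cfsg.Agent.Lib.Nine.Basic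
open Cfsg.Agent.Lib.Nine.D8Coh Cfsg.Agent.Lib.Nine.D8Char Cfsg.Agent.Lib.Nine.D8Alg
open Cfsg.Agent.Lib.Nine.D8Form Cfsg.Agent.Lib.Nine.D8Main Cfsg.Agent.Lib.Nine.S6Coh
open Cfsg.Agent.Lib.Nine.S6Data Cfsg.Agent.Lib.Nine.S6Local Cfsg.Agent.Lib.Nine.S6Sum
open Cfsg.Agent.Lib.Nine.S6BranchE
open Cfsg.Agent.Lib.Blocks.Third
open DihedralGroup

universe u

theorem norm_word : ∀ c : Gam, ∃ t : Gam, t.π = 1 ∧ t * c = ⟨0, c.π⟩ := by decide +kernel

theorem pi_cases : ∀ π : D4, π ≠ 1 → (⟨0, π⟩ : Gam) = z ∨ (⟨0, π⟩ : Gam) ^ 2 = z ∨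
    (∃ d : Gam, d * ⟨0, π⟩ * d⁻¹ = e1) ∨ (∃ d : Gam, d * ⟨0, π⟩ * d⁻¹ = σ) := by decide +kernel

variable {G : Type u} [Group G] [Fintype G] {ι : Gam →* G}
variable [Fintype (IrrCharacter G)] {χ : Fin 9 → IrrCharacter G} {s : Fin 9 → ℤ}

/-- **The branch `α = 1`**: `T` is normal. -/
theorem Dat.branchD (D : Dat ι χ s 1 1 2) : (TT ι).Normal := by
  classical
  have hinj := D.S.model.inj
  obtain ⟨a, p, ha, hp, hz1, hz2⟩ := Dat.z_data D
  obtain ⟨hs4, hd4⟩ := sgn_of_pos D.C 4 (d := 2) D.hΨ (by norm_num)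
  have hp' : (χ 4 : G → ℂ) (ι z) = p := by
    rw [sv, hs4] at hp
    simpa using hp
  obtain ⟨b1, b2⟩ := int_abs_le 4 (ι z) hp' hd4
  have ha1 : a = 1 := by linarith
  subst ha1
  have hmz0 : (0 : ℤ) < Nat.card (Subgroup.centralizer ({ι z} : Set G)) := by exact_mod_cast Nat.card_pos
  have hm0 : (0 : ℤ) < Nat.card (Subgroup.centralizer ({ι e1} : Set G)) := by exact_mod_cast Nat.card_pos
  have hp2 : p < 2 := by
    by_contra hcon
    have h1 : 3 * 1 - 1 - p ≤ 0 := by omega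
    nlinarith
  -- the sum over the four-group
  have he1 : (ι e1) ^ 2 = 1 := by rw [← map_pow, show e1 ^ 2 = 1 by decide, map_one]
  have he2 : (ι e2) ^ 2 = 1 := by rw [← map_pow, show e2 ^ 2 = 1 by decide, map_one]
  have hc12 : ι e1 * ι e2 = ι e2 * ι e1 := by
    rw [← map_mul, ← map_mul, show e1 * e2 = e2 * e1 by decide]
  have hcomm : ∀ v, zh (ι e1) he1 v * ι e2 = ι e2 * zh (ι e1) he1 v := by
    intro v
    change ι e1 ^ _ * ι e2 = ι e2 * ι e1 ^ _
    exact (Commute.pow_left (show Commute (ι e1) (ι e2) from hc12) _).eq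
  obtain ⟨n, hn⟩ := sum_pm (zh (ι e1) he1) he2 hcomm
    (Cfsg.Agent.Lib.Char.Basic.isCharacter_of_isIrrCharacter (χ 4).2)
  have e3 : (Finset.univ : Finset (ZMod 2)) = {0, 1} := by decide
  rw [e3, Finset.sum_pair (by decide), zh_apply, zh_apply, show (1 : ZMod 2).val = 1 from rfl,
    show (0 : ZMod 2).val = 0 from rfl, pow_one, pow_zero, one_mul, ZMod.card] at hn
  have e4 : ι e1 * ι e2 = ι z := by
    rw [← map_mul, show e1 * e2 = z by decide]
  have hχe1 : (χ 4 : G → ℂ) (ι e1) = 0 := by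
    have := D.hp
    rw [sv, hs4] at this
    simpa using this
  have hχe2 : (χ 4 : G → ℂ) (ι e2) = 0 := by
    rw [← hχe1]
    exact isClass (χ 4) (isConj_map ι (isConj_iff.mpr ⟨⟨0, r 1⟩, by decide⟩))
  rw [e4, hd4, hχe1, hχe2, hp'] at hn
  have hmod : 2 + p = 4 * (n : ℤ) := by
    have : ((2 + p : ℤ) : ℂ) = ((4 * (n : ℤ) : ℤ) : ℂ) := by
      push_cast at hn ⊢
      linear_combination hn
    exact_mod_cast this
  have hpm2 : p = -2 := by omega
  subst hpm2
  -- the kernel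
  have hch := Cfsg.Agent.Lib.Char.Basic.isCharacter_of_isIrrCharacter (χ 4).2
  set L := Cfsg.Agent.Lib.Char.Degree.charKer hch with hL
  haveI hLn : L.Normal := Cfsg.Agent.Lib.Char.Degree.charKer_normal hch
  have hLmem : ∀ g, g ∈ L ↔ (χ 4 : G → ℂ) g = 2 := by
    intro g
    rw [hL, Cfsg.Agent.Lib.Char.Degree.mem_charKer, hd4]
    simp
  have hTL : TT ι ≤ L := by
    rintro _ ⟨x, hx, rfl⟩
    rw [hLmem]
    by_cases hx1 : x = 1
    · rw [hx1, map_one, hd4]
      simp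
    · rcases T_class x hx hx1 with ⟨c, hc⟩ | ⟨c, hc⟩
      · have e5 : (χ 4 : G → ℂ) (ι x) = (χ 4 : G → ℂ) (ι wA) := by
          rw [← hc]
          exact isClass (χ 4) (isConj_map ι (isConj_iff.mpr ⟨c, rfl⟩))
        rw [e5, D.C.vA 4, hs4]
        simp [φA]
      · have e5 : (χ 4 : G → ℂ) (ι x) = (χ 4 : G → ℂ) (ι wC) := by
          rw [← hc]
          exact isClass (χ 4) (isConj_map ι (isConj_iff.mpr ⟨c, rfl⟩))
        rw [e5, D.C.vC 4, hs4]
        simp [φC]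
  have hz' : ι z ∉ L := by
    rw [hLmem, hp']
    norm_num
  have hLpi : ∀ c : Gam, ι c ∈ L → c.π = 1 := by
    intro c hc
    by_contra hne
    obtain ⟨t, ht, ht'⟩ := norm_word c
    have h1 : ι (⟨0, c.π⟩ : Gam) ∈ L := by
      rw [← ht', map_mul]
      exact L.mul_mem (hTL ⟨t, ht, rfl⟩) hc
    rcases pi_cases c.π hne with h2 | h2 | ⟨d, h2⟩ | ⟨d, h2⟩
    · rw [h2] at h1
      exact hz' h1
    · apply hz'
      rw [← h2, map_pow]
      exact L.pow_mem h1 2
    · have h3 : ι e1 ∈ L := by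
        rw [← h2, map_mul, map_mul, map_inv]
        exact hLn.conj_mem _ h1 _
      rw [hLmem, hχe1] at h3
      norm_num at h3
    · have h3 : ι σ ∈ L := by
        rw [← h2, map_mul, map_mul, map_inv]
        exact hLn.conj_mem _ h1 _
      have hs2 : (ι σ) ^ 2 = 1 := by rw [← map_pow, show σ ^ 2 = 1 by decide, map_one]
      obtain ⟨-, -, -, e4', -⟩ := sv_vals D.C D.h3 D.hs3 (g := ι σ)
        (not_conj_of_sq hinj hs2 w2A) (not_conj_of_sq hinj hs2 w2C)
        (not_conj_of_sq hinj hs2 w2A') (not_conj_of_sq hinj hs2 w2C')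
      rw [D.ε_σ, sv, hs4] at e4'
      rw [hLmem] at h3
      rw [h3] at e4'
      norm_num at e4'
  have ht11 : ι t1 ≠ 1 := fun h => absurd (hinj (by rw [h, map_one]) : t1 = 1) (by decide)
  have hN : ∀ n ∈ L, (∀ q ∈ TT ι, n * q * n⁻¹ ∈ TT ι) → n ∈ TT ι := by
    intro n hnL hn'
    have ht1 : ι t1 ∈ TT ι := ⟨t1, rfl, rfl⟩
    obtain ⟨c, rfl⟩ := range_of_conj D.S ht1 ht11 (hn' _ ht1) rfl
    exact ⟨c, hLpi c hnL, rfl⟩
  obtain ⟨T₁, hT₁, hfac, hint, h3, h3', hnorm⟩ :=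
    Cfsg.Agent.Lib.Nine.FrobT.exists_complement L (TT ι) hTL TT_isP TT_comm hN
  have hT₁n : T₁.Normal := by
    constructor
    intro u hu g
    apply h3'
    · exact hLn.conj_mem _ (hT₁ hu) _
    · intro h
      apply h3
      have h1 : orderOf (g * u * g⁻¹) = orderOf u := by
        have : g * u * g⁻¹ = (MulAut.conj g) u := rfl
        rw [this, MulEquiv.orderOf_eq]
      rw [h1] at h
      have h2 : orderOf u = orderOf (⟨u, hu⟩ : T₁) := by
        rw [Subgroup.orderOf_mk]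
      rw [h2] at h
      exact h.trans (orderOf_dvd_natCard _)
  have hT₁b := ker_trivial D.S D.syl hT₁n (fun t ht htT => hint t htT ht)
  have hLT : L = TT ι := by
    apply le_antisymm _ hTL
    intro x hx
    obtain ⟨u, hu, q, hq, rfl⟩ := hfac x hx
    rw [hT₁b, Subgroup.mem_bot] at hu
    rw [hu, one_mul]
    exact hq
  rw [← hLT]
  exact hLn

end Cfsg.Agent.Lib.Nine.S6BranchD
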