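import Mathlib
import Cfsg.Agent.Lib.Nine.S6BranchD
import Cfsg.Agent.Lib.Nine.S6Iso

/-!
# The branch `α = -2`: the group is `S₆`
-/

set_option autoImplicit false
set_option linter.unusedSectionVars false
set_option linter.unusedVariables false
set_option linter.unusedSimpArgs false
set_option linter.style.haveILetI false
set_option maxRecDepth 100000

namespace Cfsg.Agent.Lib.Nine.S6BranchF

open Cfsg
open Cfsg.Agent.Lib.Nine.ModelD8 Cfsg.Agent.Lib.Nine.Fuse Cfsg.Agent.Lib.Nine.Basic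
open Cfsg.Agent.Lib.Nine.D8Coh Cfsg.Agent.Lib.Nine.D8Char Cfsg.Agent.Lib.Nine.D8Alg
open Cfsg.Agent.Lib.Nine.D8Form Cfsg.Agent.Lib.Nine.D8Main Cfsg.Agent.Lib.Nine.S6Coh
open Cfsg.Agent.Lib.Nine.S6Data Cfsg.Agent.Lib.Nine.S6Local Cfsg.Agent.Lib.Nine.S6Sum
open Cfsg.Agent.Lib.Nine.S6BranchE Cfsg.Agent.Lib.Nine.S6BranchD
open Cfsg.Agent.Lib.Blocks.Third
open DihedralGroup
open scoped commutatorElement

universe u

/-- The element of order four. -/
def ρ : Gam := ⟨0, r 1⟩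

theorem pi_table : ∀ π : D4, (∃ i : Fin 4, π = (r 1 : D4) ^ (i : ℕ)) ∨ (∃ d : Gam, d * ⟨0, π⟩ * d⁻¹ = e1) ∨
    (∃ d : Gam, d * ⟨0, π⟩ * d⁻¹ = σ) := by decide +kernel

theorem ρ_pow : ∀ i : Fin 4, ρ ^ (i : ℕ) = ⟨0, (r 1 : D4) ^ (i : ℕ)⟩ := by decide +kernel

theorem irr_table : ∀ x : Gam, x.π = 1 → x ≠ 1 → ∀ y : Gam, y.π = 1 → ∃ i j : Fin 3,
    y = x ^ (i : ℕ) * (ρ * x * ρ⁻¹) ^ (j : ℕ) := by decide +kernel

theorem comm_T : ∀ t : Gam, t.π = 1 → ∃ w : Gam, w.π = 1 ∧ t = w * ρ * w⁻¹ * ρ⁻¹ := by decide +kernel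

theorem comm_Gam : ∀ a b : Gam, (a * b * a⁻¹ * b⁻¹).π = 1 ∨
    ∃ t : Gam, t.π = 1 ∧ a * b * a⁻¹ * b⁻¹ = t * z := by decide +kernel

theorem ρ_z : ρ * z⁻¹ = ρ⁻¹ := by decide +kernel

theorem ρ_eq : ∃ d : Gam, ρ = e2 * (d * σ * d⁻¹) := by decide +kernel

theorem e2_conj : ∃ d : Gam, d * e2 * d⁻¹ = e1 := by decide +kernel

theorem T_ρ : ∀ x : Gam, x.π = 1 → x * ρ = ρ * x → x = 1 := by decide +kernel

theorem arith_720 {N m mz F : ℕ} (hm0 : m ≠ 0) (hprime : ∀ q : ℕ, q.Prime → q ∣ m → q = 2 ∨ q = 3)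
    (h16 : 16 * N = 5 * m ^ 2) (h9 : 9 ∣ N) (h27 : ¬ 27 ∣ N) (h8 : 8 ∣ N) (hmz : 12 * mz = m * F)
    (hF : F = 2 ∨ F = 4 ∨ F = 6) (h2 : ∀ n, 2 ^ n ∣ N → 2 ^ n ∣ mz) : N = 720 := by
  obtain ⟨a, w, hw, rfl⟩ := Nat.exists_eq_two_pow_mul_odd hm0
  have hw0 : w ≠ 0 := by
    rintro rfl
    simp at hw
  obtain ⟨b, w', hw', rfl⟩ := Nat.exists_eq_pow_mul_and_not_dvd hw0 3 (by norm_num)
  have hw1 : w' = 1 := by
    by_contra hne
    obtain ⟨q, hq, hqd⟩ := Nat.exists_prime_and_dvd hne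
    rcases hprime q hq (Dvd.dvd.mul_left (Dvd.dvd.mul_left hqd _) _) with rfl | rfl
    · have h1 : 2 ∣ 3 ^ b * w' := Dvd.dvd.mul_left hqd _
      exact (Nat.not_even_iff_odd.mpr hw) (even_iff_two_dvd.mpr h1)
    · exact hw' hqd
  subst hw1
  rw [mul_one] at h16 hmz
  have hb : b = 1 := by
    rcases b with _ | _ | b
    · exfalso
      have h3 : 3 ∣ 16 * N := Dvd.dvd.mul_left ((by norm_num : 3 ∣ 9).trans h9) _
      rw [h16] at h3
      simp only [pow_zero, mul_one] at h3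
      have h4 := (Nat.Prime.dvd_mul Nat.prime_three).mp h3
      rcases h4 with h4 | h4
      · omega
      · have h5 := Nat.prime_three.dvd_of_dvd_pow (Nat.prime_three.dvd_of_dvd_pow h4)
        omega
    · rfl
    · exfalso
      apply h27
      have h3 : 81 ∣ 16 * N := by
        rw [h16, pow_succ 3 (b + 1), pow_succ 3 b]
        exact ⟨5 * (2 ^ a * 3 ^ b) ^ 2, by ring⟩
      have h4 : 81 ∣ N := (Nat.Coprime.dvd_of_dvd_mul_left (by norm_num) h3)
      exact (by norm_num : 27 ∣ 81).trans h4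
  subst hb
  have hA : 16 * N = 45 * (2 ^ a) ^ 2 := by
    rw [h16]
    ring
  have ha4 : 4 ≤ a := by
    by_contra hcon
    obtain ⟨k, hk⟩ := h8
    have h1 : a ≤ 3 := by omega
    interval_cases a <;> omega
  have ha5 : a ≤ 4 := by
    by_contra hcon
    obtain ⟨c, rfl⟩ : ∃ c, a = c + 2 := ⟨a - 2, by omega⟩
    have hc3 : 3 ≤ c := by omega
    have e1 : (2 : ℕ) ^ (c + 2) = 4 * 2 ^ c := by
      rw [pow_add]
      ring
    rw [e1] at hA hmz
    have hN : N = 45 * (2 ^ c) ^ 2 := by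
      have : 16 * N = 16 * (45 * (2 ^ c) ^ 2) := by
        rw [hA]
        ring
      exact Nat.eq_of_mul_eq_mul_left (by norm_num) this
    have hd : 2 ^ (c + c) ∣ N := by
      rw [hN, pow_add]
      exact ⟨45, by ring⟩
    have h3 := h2 _ hd
    have hmz' : mz = 2 ^ c * F := by
      have : 12 * mz = 12 * (2 ^ c * F) := by
        rw [hmz]
        ring
      exact Nat.eq_of_mul_eq_mul_left (by norm_num) this
    rw [hmz', pow_add] at h3
    have h4 : 0 < 2 ^ c := by positivity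
    have h5 := Nat.dvd_of_mul_dvd_mul_left h4 h3
    have h6 : 0 < F := by omega
    have h7 := Nat.le_of_dvd h6 h5
    have h8' : 2 ^ 3 ≤ 2 ^ c := Nat.pow_le_pow_right (by norm_num) hc3
    omega
  have ha : a = 4 := by omega
  subst ha
  omega

variable {G : Type u} [Group G] [Fintype G] {ι : Gam →* G}
variable [Fintype (IrrCharacter G)] {χ : Fin 9 → IrrCharacter G} {s : Fin 9 → ℤ} {α A Ψ : ℤ}

/-- The index of the kernel of the linear character. -/
theorem Dat.index_K3 (D : Dat ι χ s α A Ψ) : (K3 χ).index = 2 := by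
  classical
  have hinj := D.S.model.inj
  rw [Subgroup.index_eq_two_iff]
  refine ⟨ι e1, fun b => ?_⟩
  rw [mem_K3 D, mem_K3 D, lin_mul D.h3, D.ε_e]
  rcases lin_cases D.C hinj D.h3 b with h | h
  · rw [h]
    right
    norm_num
  · rw [h]
    left
    norm_num

theorem Dat.T_K3 (D : Dat ι χ s α A Ψ) : TT ι ≤ K3 χ := by
  rintro _ ⟨x, hx, rfl⟩
  rw [mem_K3 D]
  apply lin_odd D.C D.S.model.inj D.h3 (k := 1)
  rw [← map_pow, show 2 * 1 + 1 = 3 from rfl, TG_pow3 x hx, map_one]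

theorem Dat.χ_e2 (D : Dat ι χ s α A Ψ) : (χ 3 : G → ℂ) (ι e2) = -1 := by
  obtain ⟨d, hd⟩ := e2_conj
  rw [← D.ε_e, ← hd]
  exact isClass (χ 3) (isConj_map ι (isConj_iff.mpr ⟨d, rfl⟩))

theorem Dat.ρ_K3 (D : Dat ι χ s α A Ψ) : ι ρ ∈ K3 χ := by
  rw [mem_K3 D]
  obtain ⟨d, hd⟩ := ρ_eq
  rw [hd, map_mul, lin_mul D.h3, Dat.χ_e2 D]
  have h1 : (χ 3 : G → ℂ) (ι (d * σ * d⁻¹)) = -1 := by
    rw [← D.ε_σ]
    exact isClass (χ 3) (isConj_map ι (isConj_iff.mpr ⟨d⁻¹, by group⟩))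
  rw [h1]
  norm_num

/-- Elements of the model in the kernel of the linear character. -/
theorem Dat.rot (D : Dat ι χ s α A Ψ) {c : Gam} (h : (χ 3 : G → ℂ) (ι c) = 1) :
    ∃ (t : Gam) (i : Fin 4), t.π = 1 ∧ ι c = ι t * (ι ρ) ^ (i : ℕ) := by
  obtain ⟨t, ht, he⟩ := norm_word c
  have ht' : (χ 3 : G → ℂ) (ι t) = 1 := (mem_K3 D).mp (Dat.T_K3 D ⟨t, ht, rfl⟩)
  have hc₀ : (χ 3 : G → ℂ) (ι (⟨0, c.π⟩ : Gam)) = 1 := by
    rw [← he, map_mul, lin_mul D.h3, ht', h, one_mul]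
  rcases pi_table c.π with ⟨i, hi⟩ | ⟨d, hd⟩ | ⟨d, hd⟩
  · refine ⟨t⁻¹, i, by simp [ht], ?_⟩
    rw [← map_pow, ρ_pow, ← hi, ← he, ← map_mul]
    congr 1
    group
  · exfalso
    have h1 : (χ 3 : G → ℂ) (ι (⟨0, c.π⟩ : Gam)) = -1 := by
      rw [← D.ε_e, ← hd]
      exact isClass (χ 3) (isConj_map ι (isConj_iff.mpr ⟨d, rfl⟩))
    rw [hc₀] at h1
    norm_num at h1
  · exfalso
    have h1 : (χ 3 : G → ℂ) (ι (⟨0, c.π⟩ : Gam)) = -1 := by
      rw [← D.ε_σ, ← hd]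
      exact isClass (χ 3) (isConj_map ι (isConj_iff.mpr ⟨d, rfl⟩))
    rw [hc₀] at h1
    norm_num at h1

/-- **The Frattini argument.** -/
theorem Dat.frat (D : Dat ι χ s α A Ψ) {K : Subgroup G} (hTK : TT ι ≤ K) {g : G} (hg : ∀ k ∈ K, g * k * g⁻¹ ∈ K) :
    ∃ h ∈ K, ∃ c : Gam, h * g = ι c := by
  classical
  haveI : Fact (Nat.Prime 3) := ⟨Nat.prime_three⟩
  obtain ⟨P, hP⟩ := D.syl
  have h1 : (P : Subgroup G) ≤ K := by
    rw [hP]
    exact hTK
  have h2 : ((g • P : Sylow 3 G) : Subgroup G) ≤ K := by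
    intro x hx
    rw [Sylow.smul_def, Sylow.pointwise_smul_def] at hx
    obtain ⟨p, hp, rfl⟩ := hx
    exact hg p (h1 hp)
  obtain ⟨h, hh⟩ := MulAction.exists_smul_eq K ((g • P).subtype h2) (P.subtype h1)
  simp_rw [Sylow.smul_subtype, Subgroup.smul_def, smul_smul] at hh
  have h3 := Sylow.smul_eq_iff_mem_normalizer.mp (Sylow.subtype_injective hh)
  refine ⟨h, h.2, ?_⟩
  have h3' : (h : G) * g ∈ Subgroup.normalizer (((P : Subgroup G)) : Set G) := h3
  rw [Subgroup.mem_normalizer_iff] at h3'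
  have ht1 : ι t1 ∈ TT ι := ⟨t1, rfl, rfl⟩
  have ht11 : ι t1 ≠ 1 := fun h => absurd (D.S.model.inj (by rw [h, map_one]) : t1 = 1) (by decide)
  have ht1P : ι t1 ∈ (P : Subgroup G) := by
    rw [hP]
    exact ht1
  have h4 : (h : G) * g * ι t1 * ((h : G) * g)⁻¹ ∈ (P : Subgroup G) := (h3' _).mp ht1P
  rw [hP] at h4
  obtain ⟨c, hc⟩ := range_of_conj D.S ht1 ht11 h4 rfl
  exact ⟨c, hc.symm⟩

/-- The decomposition of the kernel. -/
theorem Dat.decomp (D : Dat ι χ s α A Ψ) {K : Subgroup G} (hTK : TT ι ≤ K) (hKK : K ≤ K3 χ)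
    (hN : ∀ g ∈ K3 χ, ∀ k ∈ K, g * k * g⁻¹ ∈ K) {g : G} (hg : g ∈ K3 χ) :
    ∃ k ∈ K, ∃ i : Fin 4, g = k * (ι ρ) ^ (i : ℕ) := by
  obtain ⟨h, hh, c, hc⟩ := Dat.frat D hTK (hN g hg)
  have h1 : (χ 3 : G → ℂ) (ι c) = 1 := by
    rw [← hc, lin_mul D.h3, (mem_K3 D).mp (hKK hh), (mem_K3 D).mp hg, one_mul]
  obtain ⟨t, i, ht, he⟩ := Dat.rot D h1
  refine ⟨h⁻¹ * ι t, K.mul_mem (K.inv_mem hh) (hTK ⟨t, ht, rfl⟩), i, ?_⟩
  rw [mul_assoc, ← he, ← hc]
  group

/-- A subgroup containing `T`, normalized by the kernel, contains its commutator subgroup. -/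
theorem Dat.comm_le (D : Dat ι χ s α A Ψ) {K : Subgroup G} (hTK : TT ι ≤ K) (hKK : K ≤ K3 χ)
    (hN : ∀ g ∈ K3 χ, ∀ k ∈ K, g * k * g⁻¹ ∈ K) : ⁅K3 χ, K3 χ⁆ ≤ K := by
  rw [Subgroup.commutator_le]
  intro g₁ h₁ g₂ h₂
  obtain ⟨k₁, hk₁, i, rfl⟩ := Dat.decomp D hTK hKK hN h₁
  obtain ⟨k₂, hk₂, j, rfl⟩ := Dat.decomp D hTK hKK hN h₂
  obtain ⟨a, ha⟩ : ∃ a, a = (ι ρ) ^ (i : ℕ) := ⟨_, rfl⟩
  obtain ⟨b, hb⟩ : ∃ b, b = (ι ρ) ^ (j : ℕ) := ⟨_, rfl⟩
  rw [← ha, ← hb]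
  have haK : a ∈ K3 χ := by
    rw [ha]
    exact (K3 χ).pow_mem (Dat.ρ_K3 D) _
  have hbK : b ∈ K3 χ := by
    rw [hb]
    exact (K3 χ).pow_mem (Dat.ρ_K3 D) _
  have hab : a * b * a⁻¹ = b := by
    have : Commute a b := by
      rw [ha, hb]
      exact Commute.pow_pow_self _ _ _
    rw [this.eq]
    group
  have e : ⁅k₁ * a, k₂ * b⁆ = k₁ * (a * k₂ * a⁻¹) * (b * k₁⁻¹ * b⁻¹) * k₂⁻¹ := by
    rw [commutatorElement_def]
    calc k₁ * a * (k₂ * b) * (k₁ * a)⁻¹ * (k₂ * b)⁻¹ =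
        k₁ * (a * k₂ * a⁻¹) * (a * b * a⁻¹) * k₁⁻¹ * b⁻¹ * k₂⁻¹ := by group
      _ = _ := by
        rw [hab]
        group
  rw [e]
  exact K.mul_mem (K.mul_mem (K.mul_mem hk₁ (hN a haK k₂ hk₂)) (hN b hbK _ (K.inv_mem hk₁))) (K.inv_mem hk₂)

/-- The commutator subgroup lies in the kernel. -/
theorem Dat.comm_K3 (D : Dat ι χ s α A Ψ) : commutator G ≤ K3 χ := by
  rw [commutator_def, Subgroup.commutator_le]
  intro a _ b _
  rw [mem_K3 D, commutatorElement_def, lin_mul D.h3, lin_mul D.h3, lin_mul D.h3, inv_eq D.C D.S.model.inj,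
    inv_eq D.C D.S.model.inj]
  linear_combination ((χ 3 : G → ℂ) b * (χ 3 : G → ℂ) b) * lin_sq D.C D.S.model.inj D.h3 a +
    lin_sq D.C D.S.model.inj D.h3 b

section Top

theorem Dat.dl_list (D : Dat ι χ s (-2) 10 (-16)) {l : Fin 9} (h : (χ l : G → ℂ) 1 = 1) : l = 0 ∨ l = 3 := by
  obtain ⟨d0, d2, d3, d5, d6, d7, d8⟩ := dl_vals D.C D.h3 D.hs3 D.S.model.inj
  rw [D.hA, D.hΨ] at d5 d6 d7 d8
  rw [D.hA] at d2
  have hs := sgn_sq D.C l
  have hd : dl χ s l = (s l : ℂ) := by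
    rw [dl, h, mul_one]
  have key : ∀ x : ℂ, dl χ s l = x → x * x = 1 := by
    intro x hx
    rw [← hx, hd]
    exact hs
  have hA := D.hA
  have hΨ := D.hΨ
  fin_cases l
  · left; rfl
  · exfalso
    have := key _ hA
    norm_num at this
  · exfalso
    have := key _ d2
    norm_num at this
  · right; rfl
  · exfalso
    have := key _ hΨ
    norm_num at this
  · exfalso
    have := key _ d5
    norm_num at this
  · exfalso
    have := key _ d6
    norm_num at this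
  · exfalso
    have := key _ d7
    norm_num at this
  · exfalso
    have := key _ d8
    norm_num at this

/-- The kernel is the commutator subgroup. -/
theorem Dat.K3_le_comm (D : Dat ι χ s (-2) 10 (-16)) : K3 χ ≤ commutator G := by
  classical
  have hle := Dat.comm_K3 D
  have h1 : (commutator G).index ≤ 2 := by
    rw [← Cfsg.Agent.Lib.Char.Linear.card_linear_eq_index]
    have : Nat.card {χ' : IrrCharacter G // (χ' : G → ℂ) 1 = 1} ≤ Nat.card Bool := by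
      refine Nat.card_le_card_of_injective (fun x => decide (x.1 = χ 0)) ?_
      have key : ∀ x : {χ' : IrrCharacter G // (χ' : G → ℂ) 1 = 1}, x.1 = χ 0 ∨ x.1 = χ 3 := by
        rintro ⟨x, hx⟩
        have hch := Cfsg.Agent.Lib.Char.Basic.isCharacter_of_isIrrCharacter x.2
        have hm := Cfsg.Agent.Lib.Char.Linear.deg_one_mul hch hx
        have hr : x ∈ Set.range χ := by
          by_contra hr
          have h0 := (D.C.zero x hr).1
          have h2 := hm (ι wA) (ι wA)⁻¹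
          rw [mul_inv_cancel, hx, h0, zero_mul] at h2
          norm_num at h2
        obtain ⟨l, rfl⟩ := hr
        rcases Dat.dl_list D hx with rfl | rfl
        · left; rfl
        · right; rfl
      intro x y hxy
      have h2 : (x.1 = χ 0) ↔ (y.1 = χ 0) := by simpa using hxy
      apply Subtype.ext
      by_cases h3 : x.1 = χ 0
      · rw [h3, h2.mp h3]
      · have h4 : y.1 ≠ χ 0 := fun h => h3 (h2.mpr h)
        rw [(key x).resolve_left h3, (key y).resolve_left h4]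
    simpa using this
  have h2 := Subgroup.index_dvd_of_le hle
  rw [Dat.index_K3 D] at h2
  have h3 : (commutator G).index ≠ 0 := Subgroup.index_ne_zero_of_finite
  have h4 : (commutator G).index = 2 := by
    have := Nat.le_of_dvd (Nat.pos_of_ne_zero h3) h2
    omega
  have h5 := Subgroup.card_mul_index (commutator G)
  have h6 := Subgroup.card_mul_index (K3 χ)
  rw [h4] at h5
  rw [Dat.index_K3 D] at h6
  have h7 : Nat.card (K3 χ) = Nat.card (commutator G) := by omega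
  exact (Subgroup.eq_of_le_of_card_ge hle h7.le).symm.le

/-- The kernel is perfect. -/
theorem Dat.perfect (D : Dat ι χ s (-2) 10 (-16)) : K3 χ ≤ ⁅K3 χ, K3 χ⁆ := by
  classical
  have hinj := D.S.model.inj
  haveI hKn : (K3 χ).Normal := K3_normal
  haveI hHn : (⁅K3 χ, K3 χ⁆ : Subgroup G).Normal := Subgroup.commutator_normal _ _
  obtain ⟨H, hH⟩ : ∃ H : Subgroup G, H = ⁅K3 χ, K3 χ⁆ := ⟨_, rfl⟩
  rw [← hH] at hHn ⊢
  have hHK : H ≤ K3 χ := by
    rw [hH]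
    exact Subgroup.commutator_le_left _ _
  have hTH : TT ι ≤ H := by
    rintro _ ⟨x, hx, rfl⟩
    obtain ⟨w, hw, he⟩ := comm_T x hx
    rw [hH]
    have h1 : ι x = ⁅ι w, ι ρ⁆ := by
      rw [commutatorElement_def, he]
      simp
    rw [h1]
    exact Subgroup.commutator_mem_commutator (Dat.T_K3 D ⟨w, hw, rfl⟩) (Dat.ρ_K3 D)
  have hN : ∀ g ∈ K3 χ, ∀ k ∈ H, g * k * g⁻¹ ∈ H := fun g _ k hk => hHn.conj_mem k hk g
  -- modulo `H`, commutators lie in `⟨z⟩`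
  have hQ : commutator G ≤ H ⊔ Subgroup.zpowers (ι z) := by
    rw [commutator_def, Subgroup.commutator_le]
    intro a _ b _
    obtain ⟨h₁, hh₁, c₁, hc₁⟩ := Dat.frat D hTH (g := a) (fun k hk => hHn.conj_mem k hk a)
    obtain ⟨h₂, hh₂, c₂, hc₂⟩ := Dat.frat D hTH (g := b) (fun k hk => hHn.conj_mem k hk b)
    have e0 : ∀ h ∈ H, (QuotientGroup.mk' H) h = 1 := fun h hh => (QuotientGroup.eq_one_iff h).mpr hh
    have e1 : (QuotientGroup.mk' H) a = (QuotientGroup.mk' H) (ι c₁) := by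
      rw [← hc₁, map_mul, e0 _ hh₁, one_mul]
    have e2 : (QuotientGroup.mk' H) b = (QuotientGroup.mk' H) (ι c₂) := by
      rw [← hc₂, map_mul, e0 _ hh₂, one_mul]
    have e3 : (QuotientGroup.mk' H) ⁅a, b⁆ = (QuotientGroup.mk' H) (ι (c₁ * c₂ * c₁⁻¹ * c₂⁻¹)) := by
      rw [commutatorElement_def]
      simp only [map_mul, map_inv, e1, e2]
    have e4 : ⁅a, b⁆⁻¹ * ι (c₁ * c₂ * c₁⁻¹ * c₂⁻¹) ∈ H := by
      exact QuotientGroup.eq.mp e3
    have e5 : ι (c₁ * c₂ * c₁⁻¹ * c₂⁻¹) ∈ H ⊔ Subgroup.zpowers (ι z) := by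
      rcases comm_Gam c₁ c₂ with h | ⟨t, ht, h⟩
      · exact (le_sup_left : H ≤ _) (hTH ⟨_, h, rfl⟩)
      · rw [h, map_mul]
        exact Subgroup.mul_mem _ ((le_sup_left : H ≤ _) (hTH ⟨t, ht, rfl⟩))
          ((le_sup_right : Subgroup.zpowers (ι z) ≤ _) (Subgroup.mem_zpowers _))
    have e6 : ⁅a, b⁆ = ι (c₁ * c₂ * c₁⁻¹ * c₂⁻¹) * (⁅a, b⁆⁻¹ * ι (c₁ * c₂ * c₁⁻¹ * c₂⁻¹))⁻¹ := by
      group
    rw [e6]
    exact Subgroup.mul_mem _ e5 ((le_sup_left : H ≤ _) (H.inv_mem e4))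
  -- the element `ρ`
  have hρQ : ι ρ ∈ H ⊔ Subgroup.zpowers (ι z) := hQ (Dat.K3_le_comm D (Dat.ρ_K3 D))
  have hρH : ι ρ ∈ H := by
    have h1 : ι ρ ∈ ((H ⊔ Subgroup.zpowers (ι z) : Subgroup G) : Set G) := hρQ
    rw [Subgroup.normal_mul] at h1
    obtain ⟨h, hh, w, hw, he⟩ := h1
    obtain ⟨n, rfl⟩ := Subgroup.mem_zpowers_iff.mp hw
    have hz2 : (ι z) ^ 2 = 1 := by rw [← map_pow, show z ^ 2 = 1 by decide, map_one]
    have he' : h * (ι z) ^ n = ι ρ := he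
    rcases Int.even_or_odd' n with ⟨m, rfl | rfl⟩
    · rw [zpow_mul, zpow_ofNat, hz2, one_zpow, mul_one] at he'
      rw [← he']
      exact hh
    · rw [zpow_add, zpow_mul, zpow_ofNat, hz2, one_zpow, one_mul, zpow_one] at he'
      have h2 : ι ρ⁻¹ = h := by
        rw [← ρ_z, map_mul, map_inv, ← he']
        group
      rw [← inv_inv (ι ρ), ← map_inv, h2]
      exact H.inv_mem hh
  intro g hg
  obtain ⟨k, hk, i, rfl⟩ := Dat.decomp D hTH hHK hN hg
  exact H.mul_mem hk (H.pow_mem hρH _)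

/-- **The kernel is simple.** -/
theorem Dat.simple (D : Dat ι χ s (-2) 10 (-16)) : IsSimpleGroup (K3 χ) := by
  classical
  have hinj := D.S.model.inj
  haveI hKn : (K3 χ).Normal := K3_normal
  have hρK := Dat.ρ_K3 D
  have ht1K : ι t1 ∈ K3 χ := Dat.T_K3 D ⟨t1, rfl, rfl⟩
  have ht11 : ι t1 ≠ 1 := fun h => absurd (hinj (by rw [h, map_one]) : t1 = 1) (by decide)
  haveI : Nontrivial (K3 χ) := ⟨⟨⟨ι t1, ht1K⟩, 1, fun h => ht11 (congrArg Subtype.val h)⟩⟩
  refine ⟨fun N hN => ?_⟩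
  obtain ⟨K, hK⟩ : ∃ K : Subgroup G, K = N.map (K3 χ).subtype := ⟨_, rfl⟩
  have hKK : K ≤ K3 χ := by
    rw [hK]
    exact Subgroup.map_subtype_le N
  have hNorm : ∀ g ∈ K3 χ, ∀ k ∈ K, g * k * g⁻¹ ∈ K := by
    intro g hg k hk
    rw [hK] at hk ⊢
    obtain ⟨n, hn, rfl⟩ := hk
    exact ⟨⟨g, hg⟩ * n * ⟨g, hg⟩⁻¹, hN.conj_mem n hn _, rfl⟩
  by_cases hT : ∀ t ∈ TT ι, t ∈ K → t = 1
  · left
    have h3 : ¬ 3 ∣ Nat.card K := by
      intro h
      haveI : Fact (Nat.Prime 3) := ⟨Nat.prime_three⟩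
      obtain ⟨x, hx⟩ := exists_prime_orderOf_dvd_card' 3 h
      have hx' : orderOf (x : G) = 3 := by
        rw [← hx]
        exact Subgroup.orderOf_coe x
      have hPG : IsPGroup 3 (Subgroup.zpowers (x : G)) := by
        refine IsPGroup.of_card (n := 1) ?_
        rw [Nat.card_zpowers, pow_one, hx']
      obtain ⟨R, hR⟩ := hPG.exists_le_sylow
      obtain ⟨P, hP⟩ := D.syl
      obtain ⟨c, hc⟩ := MulAction.exists_smul_eq G R P
      have hmem : c * (x : G) * c⁻¹ ∈ TT ι := by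
        rw [← hP, ← hc, Sylow.smul_def, Sylow.pointwise_smul_def]
        exact ⟨x, hR (Subgroup.mem_zpowers _), rfl⟩
      -- a conjugating element in the kernel
      obtain ⟨c', hc', hmem'⟩ : ∃ c' ∈ K3 χ, c' * (x : G) * c'⁻¹ ∈ TT ι := by
        by_cases hcK : c ∈ K3 χ
        · exact ⟨c, hcK, hmem⟩
        · refine ⟨ι e1 * c, ?_, ?_⟩
          · rw [mem_K3 D, lin_mul D.h3, D.ε_e]
            rcases lin_cases D.C hinj D.h3 c with h1 | h1
            · exact absurd ((mem_K3 D).mpr h1) hcK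
            · rw [h1]
              norm_num
          · have h1 : ι e1 * c * (x : G) * (ι e1 * c)⁻¹ = ι e1 * (c * (x : G) * c⁻¹) * (ι e1)⁻¹ := by group
            rw [h1]
            obtain ⟨y, hy, hy'⟩ := hmem
            refine ⟨e1 * y * e1⁻¹, TG_conj y e1 hy, ?_⟩
            simp only [map_mul, map_inv]
            rw [← hy']
      have h1 := hT _ hmem' (hNorm c' hc' x x.2)
      have h2 : (x : G) = 1 := by
        have : (x : G) = c'⁻¹ * (c' * (x : G) * c'⁻¹) * c' := by group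
        rw [this, h1]
        group
      rw [h2, orderOf_one] at hx'
      omega
    have hbot : K = ⊥ := by
      refine coprime_trivial D.S h3 (fun t ht k hk => hNorm t (Dat.T_K3 D ht) k hk) ?_ hT
      intro k hk t ht
      have : k * t * k⁻¹ * t⁻¹ = k * (t * k⁻¹ * t⁻¹) := by group
      rw [this]
      exact K.mul_mem hk (hNorm t (Dat.T_K3 D ht) _ (K.inv_mem hk))
    rw [hK] at hbot
    exact (Subgroup.map_eq_bot_iff_of_injective N Subtype.val_injective).mp hbot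
  · right
    push Not at hT
    obtain ⟨t, ht, htK, ht1⟩ := hT
    have hTK : TT ι ≤ K := by
      obtain ⟨x, hx, rfl⟩ := ht
      have hx1 : x ≠ 1 := by
        rintro rfl
        exact ht1 (map_one ι)
      rintro _ ⟨y, hy, rfl⟩
      obtain ⟨i, j, he⟩ := irr_table x hx hx1 y hy
      rw [he, map_mul, map_pow, map_pow, map_mul, map_mul, map_inv]
      exact K.mul_mem (K.pow_mem htK _) (K.pow_mem (hNorm _ hρK _ htK) _)
    have hcomm := Dat.comm_le D hTK hKK hNorm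
    rw [eq_top_iff]
    intro x _
    have h1 : (x : G) ∈ K := hcomm (Dat.perfect D x.2)
    rw [hK] at h1
    obtain ⟨n, hn, he⟩ := h1
    have h2 : n = x := Subtype.ext he
    rwa [← h2]

end Top

/-- **The branch `α = -2`**: the group is the symmetric group of degree six. -/
theorem Dat.branchF (D : Dat ι χ s (-2) 10 (-16)) : Nonempty (G ≃* Equiv.Perm (Fin 6)) := by
  classical
  have hinj := D.S.model.inj
  haveI hKn : (K3 χ).Normal := K3_normal
  -- the order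
  have h72 := dvd_card hinj
  have hN16 : 16 * Nat.card G = 5 * (Nat.card (Subgroup.centralizer ({ι e1} : Set G))) ^ 2 := by
    have h := D.eN
    push_cast at h
    have h' : (16 : ℤ) * (Nat.card G : ℤ) = 5 * (Nat.card (Subgroup.centralizer ({ι e1} : Set G)) : ℤ) ^ 2 := by
      linarith
    exact_mod_cast h'
  have hprime : ∀ q : ℕ, q.Prime → q ∣ Nat.card (Subgroup.centralizer ({ι e1} : Set G)) → q = 2 ∨ q = 3 := by
    intro q hq hd
    by_contra hne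
    push Not at hne
    have hq5 : 5 ≤ q := by
      have := hq.two_le
      by_contra hlt
      have h4 : q = 4 := by omega
      rw [h4] at hq
      exact absurd hq (by norm_num)
    haveI : Fact q.Prime := ⟨hq⟩
    obtain ⟨y, hy⟩ := exists_prime_orderOf_dvd_card' q hd
    have hy' : orderOf (y : G) = q := by
      rw [← hy]
      exact Subgroup.orderOf_coe y
    refine Dat.no_prime D hq hq5 (y := (y : G)) ?_ ?_ ?_
    · rw [← hy']
      exact pow_orderOf_eq_one _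
    · intro h
      rw [h, orderOf_one] at hy'
      exact hq.one_lt.ne hy'
    · exact Subgroup.mem_centralizer_singleton_iff.mp y.2
  obtain ⟨a, p, ha, hp, hz1, hz2⟩ := Dat.z_data D
  obtain ⟨hs1, hd1⟩ := sgn_of_pos D.C 1 (d := 10) D.hA (by norm_num)
  obtain ⟨n₁, hn₁⟩ := int_val D.C hinj 1 (ι z)
  obtain ⟨b1, b2⟩ := int_abs_le 1 (ι z) hn₁ hd1
  have ha' : a = n₁ := by
    rw [sv, hs1, hn₁] at ha
    have : ((n₁ : ℤ) : ℂ) = (a : ℂ) := by
      push_cast at ha ⊢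
      linear_combination ha
    exact_mod_cast this.symm
  have hmz0 : (0 : ℤ) < Nat.card (Subgroup.centralizer ({ι z} : Set G)) := by exact_mod_cast Nat.card_pos
  have hm0 : (0 : ℤ) < Nat.card (Subgroup.centralizer ({ι e1} : Set G)) := by exact_mod_cast Nat.card_pos
  obtain ⟨F, hF⟩ : ∃ F, F = 6 + a + p := ⟨_, rfl⟩
  have hmz : 12 * (Nat.card (Subgroup.centralizer ({ι z} : Set G)) : ℤ) =
      (Nat.card (Subgroup.centralizer ({ι e1} : Set G)) : ℤ) * F := by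
    rw [hF]
    push_cast at hz1
    linarith
  have haF : a = 10 - 3 * F := by
    rw [hF]
    linarith
  have hF0 : 0 < F := by
    by_contra hcon
    have h1 : F ≤ 0 := by omega
    nlinarith
  have hF6 : F ≤ 6 := by omega
  -- parity
  have hz2' : (ι z) ^ 2 = 1 := by rw [← map_pow, show z ^ 2 = 1 by decide, map_one]
  obtain ⟨hs5, hd5⟩ := Dat.s5_neg D (by norm_num)
  obtain ⟨n₅, hn₅⟩ := int_val D.C hinj 5 (ι z)
  have hpar := int_two_congr (Cfsg.Agent.Lib.Char.Basic.isCharacter_of_isIrrCharacter (χ 5).2) (ι z) hn₅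
    (b := (-(1 + 3 * (-2)) : ℤ)) (by rw [hz2']; exact hd5)
  have hz1' : (ι z) ^ 2 = 1 := hz2'
  obtain ⟨-, -, -, -, e5, -⟩ := sv_vals D.C D.h3 D.hs3 (g := ι z)
    (not_conj_of_sq hinj hz2' w2A) (not_conj_of_sq hinj hz2' w2C)
    (not_conj_of_sq hinj hz2' w2A') (not_conj_of_sq hinj hz2' w2C')
  rw [sv, hs5, hn₅, ha, hp] at e5
  have e5' : -n₅ = 1 + a + p := by
    have : ((-n₅ : ℤ) : ℂ) = ((1 + a + p : ℤ) : ℂ) := by
      push_cast at e5 ⊢
      linear_combination e5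
    exact_mod_cast this
  obtain ⟨f, rfl⟩ := Int.eq_ofNat_of_zero_le hF0.le
  have hF' : f = 2 ∨ f = 4 ∨ f = 6 := by omega
  have hmz' : 12 * Nat.card (Subgroup.centralizer ({ι z} : Set G)) =
      Nat.card (Subgroup.centralizer ({ι e1} : Set G)) * f := by
    exact_mod_cast hmz
  have hN := arith_720 (Nat.card_pos.ne') hprime hN16 ((by norm_num : 9 ∣ 72).trans h72) D.S.h27
    ((by norm_num : 8 ∣ 72).trans h72) hmz' hF' (fun n h => Dat.two_central D (by norm_num) h)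
  -- the kernel
  have hidx := Dat.index_K3 D
  have h360 : Nat.card (K3 χ) = 360 := by
    have := Subgroup.card_mul_index (K3 χ)
    rw [hidx, hN] at this
    omega
  have ht2 : ι t2 ∈ TT ι := ⟨t2, rfl, rfl⟩
  have ht21 : ι t2 ≠ 1 := fun h => absurd (hinj (by rw [h, map_one]) : t2 = 1) (by decide)
  refine Cfsg.Agent.Lib.Nine.S6Iso.iso_of_simple (K3 χ) hidx (Dat.simple D) h360 (t := ι e1) (c := ι t2) ?_
    (Dat.T_K3 D ht2) ?_ ?_ ?_
  · intro h
    have := (mem_K3 D).mp h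
    rw [D.ε_e] at this
    norm_num at this
  · refine orderOf_eq_prime ?_ ht21
    rw [← map_pow, show t2 ^ 3 = 1 by decide, map_one]
  · rw [← map_mul, ← map_mul, show e1 * t2 = t2 * e1 by decide]
  · intro g hg
    have hgT : g ∈ TT ι := by
      apply D.S.cent_T
      rw [Subgroup.mem_centralizer_iff]
      intro t ht
      exact (hg t (Dat.T_K3 D ht)).symm
    obtain ⟨x, hx, rfl⟩ := hgT
    have h1 := hg _ (Dat.ρ_K3 D)
    have h2 : x * ρ = ρ * x := by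
      apply hinj
      simpa using h1
    rw [T_ρ x hx h2, map_one]

end Cfsg.Agent.Lib.Nine.S6BranchF
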