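import Mathlib
import Cfsg.Agent.Lib.Nine.S6BranchF
import Cfsg.Agent.Lib.Nine.D8Local

/-!
# Recognition of `S₆`: a group with a TI Sylow `3`-subgroup of order `9` with normalizer `3² : D₈`
-/

set_option autoImplicit false
set_option linter.unusedSectionVars false
set_option linter.unusedVariables false
set_option linter.unusedSimpArgs false
set_option linter.style.haveILetI false
set_option maxRecDepth 100000

namespace Cfsg.Agent.Lib.Nine.S6Main

open Cfsg
open Cfsg.Agent.Lib.Nine.ModelD8 Cfsg.Agent.Lib.Nine.Fuse Cfsg.Agent.Lib.Nine.Basic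
open Cfsg.Agent.Lib.Nine.D8Coh Cfsg.Agent.Lib.Nine.D8Char Cfsg.Agent.Lib.Nine.D8Alg
open Cfsg.Agent.Lib.Nine.D8Form Cfsg.Agent.Lib.Nine.D8Main Cfsg.Agent.Lib.Nine.S6Coh
open Cfsg.Agent.Lib.Nine.S6Data Cfsg.Agent.Lib.Nine.S6Local Cfsg.Agent.Lib.Nine.S6Sum
open Cfsg.Agent.Lib.Nine.S6BranchE Cfsg.Agent.Lib.Nine.S6BranchD Cfsg.Agent.Lib.Nine.S6BranchF
open Cfsg.Agent.Lib.Nine.D8Local
open Cfsg.Agent.Lib.Blocks.Third
open DihedralGroup

universe u

/-- The main dichotomy for the setup. -/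
theorem main_of_setup {G : Type u} [Group G] [Fintype G] [Fintype (IrrCharacter G)] {ι : Gam →* G}
    (S : Setup ι) (hsyl : ∃ P : Sylow 3 G, (P : Subgroup G) = TT ι) :
    (TT ι).Normal ∨ Nonempty (G ≃* Equiv.Perm (Fin 6)) := by
  classical
  obtain ⟨χ, s, C⟩ := S.coherence
  obtain ⟨α, A, Ψ, D⟩ := exists_dat S hsyl C
  obtain ⟨n, hn, h9⟩ := dl_int C 4
  have hnΨ : n = Ψ := by
    have : (n : ℂ) = (Ψ : ℂ) := by rw [← hn, D.hΨ]
    exact_mod_cast this
  subst hnΨ
  have h9' : (9 : ℤ) ∣ n + 16 := by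
    have h1 : n + 4 * φA 4 + 4 * φC 4 = n + 16 := by
      simp [φA, φC]
      ring
    rw [h1] at h9
    exact h9
  rcases branches D.eA D.eΨ D.ne h9' with ⟨rfl, rfl, rfl⟩ | ⟨rfl, rfl, rfl⟩ | ⟨rfl, rfl, rfl⟩ | ⟨rfl, rfl, rfl⟩
  · exact Or.inl (Dat.branchD D)
  · exact Or.inr (Dat.branchF D)
  · exact (Dat.branchE D).elim
  · exfalso
    obtain ⟨hs4, hd4⟩ := sgn_of_pos D.C 4 (d := 11) D.hΨ (by norm_num)
    have h1 : (χ 4 : G → ℂ) (ι e1) = ((0 : ℤ) : ℂ) := by
      have := D.hp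
      rw [sv, hs4] at this
      simpa using this
    have h2 : (χ 4 : G → ℂ) ((ι e1) ^ 2) = ((11 : ℤ) : ℂ) := by
      rw [← map_pow, show e1 ^ 2 = 1 by decide, map_one]
      exact hd4
    have h3 := int_two_congr (Cfsg.Agent.Lib.Char.Basic.isCharacter_of_isIrrCharacter (χ 4).2) (ι e1) h1 h2
    omega

/-- The local hypotheses give the model. -/
theorem main {G : Type u} [Group G] [Finite G]
    (P : Sylow 3 G) (S : Subgroup G) (hSP : S = P) (hcard : Nat.card S = 9)
    (hC : Subgroup.centralizer (S : Set G) = S)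
    (eN : Subgroup.normalizer (S : Set G) ⧸ S.subgroupOf (Subgroup.normalizer (S : Set G)) ≃* DihedralGroup 4)
    (hcent : ∀ x ∈ S, x ≠ 1 → Subgroup.centralizer ({x} : Set G) ≤ Subgroup.normalizer (S : Set G)) :
    S.Normal ∨ Nonempty (G ≃* Equiv.Perm (Fin 6)) := by
  classical
  letI : Fintype G := Fintype.ofFinite G
  haveI := Cfsg.Agent.Lib.Char.Ortho.finite_irrCharacter (G := G)
  letI : Fintype (IrrCharacter G) := Fintype.ofFinite _
  haveI : Fact (Nat.Prime 2) := ⟨Nat.prime_two⟩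
  set N := Subgroup.normalizer (S : Set G) with hN
  have hSN : S ≤ N := Subgroup.le_normalizer
  have hq8 : Nat.card (N ⧸ S.subgroupOf N) = 8 := by
    rw [Nat.card_congr eN.toEquiv, DihedralGroup.nat_card]
  have hSsub : Nat.card (S.subgroupOf N) = 9 := by
    rw [← hcard]
    exact Nat.card_congr (Subgroup.subgroupOfEquivOfLe hSN).toEquiv
  have h72 : Nat.card N = 72 := by
    rw [Subgroup.card_eq_card_quotient_mul_card_subgroup (S.subgroupOf N), hq8, hSsub]
  obtain ⟨Q⟩ : Nonempty (Sylow 2 N) := inferInstance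
  have hQ8 : Nat.card Q = 8 := by
    obtain ⟨k, hk⟩ := IsPGroup.iff_card.mp Q.isPGroup'
    have h1 : 2 ^ 3 ∣ Nat.card Q := Sylow.pow_dvd_card_of_pow_dvd_card Q (by rw [h72]; norm_num)
    have h2 : Nat.card Q ∣ 72 := by
      rw [← h72]
      exact Subgroup.card_subgroup_dvd_card _
    rw [hk] at h1 h2 ⊢
    have h3 : 3 ≤ k := (Nat.pow_dvd_pow_iff_le_right (by norm_num)).mp h1
    have h4 : k ≤ 3 := by
      by_contra hcon
      have h5 : 2 ^ 4 ∣ 2 ^ k := pow_dvd_pow 2 (by omega)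
      have h6 := h5.trans h2
      norm_num at h6
    have : k = 3 := by omega
    rw [this]
    norm_num
  have hS9 : ∀ x ∈ S, x ^ 9 = 1 := by
    intro x hx
    have h1 := pow_card_eq_one' (x := (⟨x, hx⟩ : S))
    rw [hcard] at h1
    exact congrArg Subtype.val h1
  let π : (Q : Subgroup N) →* (N ⧸ S.subgroupOf N) :=
    (QuotientGroup.mk' (S.subgroupOf N)).comp (Q : Subgroup N).subtype
  have hπinj : Function.Injective π := by
    rw [injective_iff_map_eq_one]
    intro x hx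
    have h1 : ((x : N) : G) ∈ S := by
      have h2 : (x : N) ∈ S.subgroupOf N := (QuotientGroup.eq_one_iff (x : N)).mp hx
      exact Subgroup.mem_subgroupOf.mp h2
    have h2 := hS9 _ h1
    have h3 : x ^ 8 = 1 := by
      have := pow_card_eq_one' (x := x)
      rwa [hQ8] at this
    have h4 : ((x : N) : G) ^ 8 = 1 := by
      have := congrArg (fun a : (Q : Subgroup N) => ((a : N) : G)) h3
      simpa using this
    have h5 : ((x : N) : G) = 1 := by
      have : ((x : N) : G) = ((x : N) : G) ^ 9 * (((x : N) : G) ^ 8)⁻¹ := by group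
      rw [this, h2, h4]
      group
    exact Subtype.ext (Subtype.ext h5)
  have hπbij : Function.Bijective π := by
    rw [Nat.bijective_iff_injective_and_card]
    exact ⟨hπinj, by rw [hQ8, hq8]⟩
  let e : (Q : Subgroup N) ≃* DihedralGroup 4 := (MulEquiv.ofBijective π hπbij).trans eN
  let f : D4 →* G := N.subtype.comp ((Q : Subgroup N).subtype.comp e.symm.toMonoidHom)
  have hfinj : Function.Injective f := by
    intro a b hab
    apply e.symm.injective
    apply Subtype.ext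
    apply Subtype.ext
    exact hab
  have hfN : ∀ (π' : D4) (t : G), t ∈ S → f π' * t * (f π')⁻¹ ∈ S := by
    intro π' t ht
    have h1 : f π' ∈ Subgroup.normalizer (S : Set G) := Subtype.property _
    rw [Subgroup.mem_normalizer_iff] at h1
    exact (h1 t).mp ht
  have hT : S ≤ Subgroup.centralizer (S : Set G) := hC.ge
  have hab : ∀ a ∈ S, ∀ b ∈ S, a * b = b * a := by
    intro a ha b hb
    have := hT ha
    rw [Subgroup.mem_centralizer_iff] at this
    exact (this b hb).symm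
  -- the exponent
  have hMel : ∀ t ∈ S, t ^ 3 = 1 := by
    by_contra hcon
    push Not at hcon
    obtain ⟨t, ht, ht3⟩ := hcon
    have ho : orderOf t ∣ 3 ^ 2 := orderOf_dvd_of_pow_eq_one (hS9 t ht)
    obtain ⟨k, hk, hk'⟩ := (Nat.dvd_prime_pow Nat.prime_three).mp ho
    have hk2 : k = 2 := by
      by_contra hne
      apply ht3
      have h1 : orderOf t ∣ 3 := by
        rw [hk']
        interval_cases k
        · norm_num
        · norm_num
        · exact absurd rfl hne
      exact orderOf_dvd_iff_pow_eq_one.mp h1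
    subst hk2
    have hSz : Subgroup.zpowers t = S := by
      refine Subgroup.eq_of_le_of_card_ge ((Subgroup.zpowers_le).mpr ht) ?_
      rw [hcard, Nat.card_zpowers, hk']
      norm_num
    have hx : ∀ π' : D4, ∃ i : ℤ, f π' * t * (f π')⁻¹ = t ^ i := by
      intro π'
      have h1 := hfN π' t ht
      rw [← hSz] at h1
      obtain ⟨i, hi⟩ := Subgroup.mem_zpowers_iff.mp h1
      exact ⟨i, hi.symm⟩
    obtain ⟨i, hi⟩ := hx (r 1)
    obtain ⟨j, hj⟩ := hx (sr 0)
    have e1 : (f (r 1) * f (sr 0)) * t * (f (r 1) * f (sr 0))⁻¹ = t ^ (i * j) := by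
      calc (f (r 1) * f (sr 0)) * t * (f (r 1) * f (sr 0))⁻¹
          = f (r 1) * (f (sr 0) * t * (f (sr 0))⁻¹) * (f (r 1))⁻¹ := by group
        _ = f (r 1) * t ^ j * (f (r 1))⁻¹ := by rw [hj]
        _ = (f (r 1) * t * (f (r 1))⁻¹) ^ j := (conj_zpow).symm
        _ = t ^ (i * j) := by rw [hi, zpow_mul]
    have e2 : (f (sr 0) * f (r 1)) * t * (f (sr 0) * f (r 1))⁻¹ = t ^ (i * j) := by
      calc (f (sr 0) * f (r 1)) * t * (f (sr 0) * f (r 1))⁻¹
          = f (sr 0) * (f (r 1) * t * (f (r 1))⁻¹) * (f (sr 0))⁻¹ := by group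
        _ = f (sr 0) * t ^ i * (f (sr 0))⁻¹ := by rw [hi]
        _ = (f (sr 0) * t * (f (sr 0))⁻¹) ^ i := (conj_zpow).symm
        _ = t ^ (i * j) := by rw [hj, ← zpow_mul, mul_comm]
    have e3 : f (r 2) * t * (f (r 2))⁻¹ = t := by
      have e4 : r 2 = (sr 0 * r 1 : D4)⁻¹ * (r 1 * sr 0) := by decide
      rw [e4, map_mul, map_inv, map_mul, map_mul]
      have e5 := e1.trans e2.symm
      calc (f (sr 0) * f (r 1))⁻¹ * (f (r 1) * f (sr 0)) * t *
            ((f (sr 0) * f (r 1))⁻¹ * (f (r 1) * f (sr 0)))⁻¹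
          = (f (sr 0) * f (r 1))⁻¹ * ((f (r 1) * f (sr 0)) * t * (f (r 1) * f (sr 0))⁻¹) *
            (f (sr 0) * f (r 1)) := by group
        _ = t := by rw [e5]; group
    have hzS : f (r 2) ∈ S := by
      rw [← hC, Subgroup.mem_centralizer_iff]
      intro s hs
      rw [← hSz] at hs
      obtain ⟨n, rfl⟩ := Subgroup.mem_zpowers_iff.mp hs
      have e6 : f (r 2) * t = t * f (r 2) := by
        rw [mul_inv_eq_iff_eq_mul] at e3
        exact e3
      exact ((show Commute (f (r 2)) t from e6).zpow_right n).eq.symm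
    have h9' := hS9 _ hzS
    have h2 : (f (r 2)) ^ 2 = 1 := by
      rw [← map_pow, show (r 2 : D4) ^ 2 = 1 by decide, map_one]
    have h1 : f (r 2) = 1 := by
      have : f (r 2) = (f (r 2)) ^ 9 * (((f (r 2)) ^ 2) ^ 4)⁻¹ := by group
      rw [this, h9', h2]
      simp
    have h0 : (r 2 : D4) = 1 := hfinj (by rw [h1, map_one])
    exact absurd h0 (by decide)
  have hL : Loc S f := ⟨hMel, hcard, hab, hC.le, hfinj, hfN⟩
  obtain ⟨ι, hSet, hsyl, hTT, -, -⟩ := hL.exists_setup rfl hcent h72 ⟨P, hSP.symm⟩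
  rcases main_of_setup hSet hsyl with h | h
  · left
    rw [hTT] at h
    exact h
  · exact Or.inr h

end Cfsg.Agent.Lib.Nine.S6Main
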