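import Mathlib.Tactic

/-!
# A linear system over the natural numbers for the lattice of `3² : 2²`
-/

set_option autoImplicit false

namespace Cfsg.Agent.Lib.Nine.V4Solve

theorem solve (n0 n1 n2 n3 n4 n5 n6 n7 n8 n9 n10 n11 n12 n13 n14 n15 n16 n17 n18 n19 n20 n21 n22 n23 n24 n25 n26 n27 n28 n29 n30 n31 n32 n33 n34 n35 n36 n37 n38 n39 n40 n41 n42 n43 n44 : ℕ)
    (h0 : (n0 + n3 + n6 + n18 + n19 + n20 + n21 + n22 + n23 + n24 + n25 + n26 + n27 + n28 + n29 + n30 + n31 + n32 + n33 + n34 + n35 + n36 + n37 + n38 + n39 + n40 + n41 + n42 + n43 + n44 = 3))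
    (h1 : (n36 + n37 + n38 + n39 + n40 + n41 + n42 + n43 + n44 = n18 + n19 + n20 + n21 + n22 + n23 + n24 + n25 + n26 + n27 + n28 + n29 + 0))
    (h2 : (n24 + n25 + n26 + n27 + n28 + n29 + n39 + n40 + n41 + n42 + n43 + n44 = n18 + n19 + n20 + n21 + n22 + n23 + n30 + n31 + n32 + 0))
    (h3 : (n0 + n21 + n22 + n23 + n29 + n31 + n32 + n34 + n35 + n37 + n38 + n42 + n43 + n44 = n18 + n24 + n25 + n26 + n33 + n39 + 1))
    (h4 : (n3 + n18 + n20 + n23 + n26 + n30 + n32 + n33 + n35 + n36 + n38 + n39 + n41 + n44 = n21 + n24 + n27 + n29 + n34 + n42 + 1))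
    (h5 : (n23 + n26 + n28 + n29 + n35 + n44 + 1 = n6 + n18 + n19 + n21 + n24 + n30 + n31 + n33 + n34 + n36 + n37 + n39 + n40 + n42))
    (h6 : (n1 + n4 + n7 + n12 + n13 + n14 + n15 + n16 + n17 + n18 + n19 + n20 + n21 + n22 + n23 + n24 + n25 + n26 + n27 + n28 + n29 + n36 + n37 + n38 + n39 + n40 + n41 + n42 + n43 + n44 = 3))
    (h7 : (n18 + n19 + n20 + n21 + n22 + n23 + n39 + n40 + n41 + n42 + n43 + n44 = n12 + n13 + n14 + n24 + n25 + n26 + n27 + n28 + n29 + 0))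
    (h8 : (n1 + n13 + n14 + n16 + n17 + n18 + n24 + n25 + n26 + n37 + n38 + n42 + n43 + n44 = n15 + n21 + n22 + n23 + n29 + n39 + 1))
    (h9 : (n4 + n12 + n14 + n15 + n17 + n21 + n24 + n27 + n29 + n36 + n38 + n39 + n41 + n44 = n16 + n18 + n20 + n23 + n26 + n42 + 1))
    (h10 : (n17 + n18 + n19 + n21 + n24 + n44 + 1 = n7 + n12 + n13 + n15 + n16 + n23 + n26 + n28 + n29 + n36 + n37 + n39 + n40 + n42))
    (h11 : (n2 + n5 + n8 + n9 + n10 + n11 + n12 + n13 + n14 + n18 + n19 + n20 + n21 + n22 + n23 + n24 + n25 + n26 + n27 + n28 + n29 + n30 + n31 + n32 + n39 + n40 + n41 + n42 + n43 + n44 = 3))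
    (h12 : (n11 + n18 + n29 + n42 + n43 + n44 + 1 = n2 + n9 + n10 + n13 + n14 + n21 + n22 + n23 + n24 + n25 + n26 + n31 + n32 + n39))
    (h13 : (n10 + n21 + n26 + n39 + n41 + n44 + 1 = n5 + n9 + n11 + n12 + n14 + n18 + n20 + n23 + n24 + n27 + n29 + n30 + n32 + n42))
    (h14 : (n8 + n10 + n11 + n12 + n13 + n18 + n19 + n21 + n26 + n28 + n29 + n30 + n31 + n44 = n9 + n23 + n24 + n39 + n40 + n42 + 1))
    (h15 : (n0 + n1 + n2 + n9 + n10 + n11 + n13 + n14 + n15 + n16 + n17 + n18 + n21 + n22 + n23 + n24 + n25 + n26 + n29 + n31 + n32 + n33 + n34 + n35 + n37 + n38 + n39 + n42 + n43 + n44 = 3))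
    (h16 : (n9 + n14 + n17 + n23 + n24 + n32 + n35 + n38 + n44 = n10 + n11 + n15 + n16 + n18 + n21 + n26 + n29 + n33 + n34 + n39 + n42 + 0))
    (h17 : (n9 + n11 + n15 + n17 + n18 + n23 + n24 + n29 + n33 + n35 + n39 + n44 = n10 + n13 + n16 + n21 + n26 + n31 + n34 + n37 + n42 + 0))
    (h18 : (n3 + n4 + n5 + n9 + n10 + n11 + n12 + n14 + n15 + n16 + n17 + n18 + n20 + n21 + n23 + n24 + n26 + n27 + n29 + n30 + n32 + n33 + n34 + n35 + n36 + n38 + n39 + n41 + n42 + n44 = 3))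
    (h19 : (n9 + n10 + n16 + n17 + n21 + n23 + n24 + n26 + n34 + n35 + n42 + n44 = n11 + n12 + n15 + n18 + n29 + n30 + n33 + n36 + n39 + 0))
    (h20 : (n6 + n7 + n8 + n9 + n10 + n11 + n12 + n13 + n15 + n16 + n17 + n18 + n19 + n21 + n23 + n24 + n26 + n28 + n29 + n30 + n31 + n33 + n34 + n35 + n36 + n37 + n39 + n40 + n42 + n44 = 3))
    : n0 = 1 ∧ n1 = 1 ∧ n2 = 1 ∧ n3 = 1 ∧ n4 = 1 ∧ n5 = 1 ∧ n6 = 1 ∧ n7 = 1 ∧ n8 = 1 ∧ n9 = 0 ∧ n10 = 0 ∧ n11 = 0 ∧ n12 = 0 ∧ n13 = 0 ∧ n14 = 0 ∧ n15 = 0 ∧ n16 = 0 ∧ n17 = 0 ∧ n18 = 0 ∧ n19 = 0 ∧ n20 = 0 ∧ n21 = 0 ∧ n22 = 0 ∧ n23 = 0 ∧ n24 = 0 ∧ n25 = 0 ∧ n26 = 0 ∧ n27 = 0 ∧ n28 = 0 ∧ n29 = 0 ∧ n30 = 0 ∧ n31 = 0 ∧ n32 = 0 ∧ n33 = 0 ∧ n34 = 0 ∧ n35 = 0 ∧ n36 = 0 ∧ n37 = 0 ∧ n38 = 0 ∧ n39 = 0 ∧ n40 = 0 ∧ n41 = 0 ∧ n42 = 0 ∧ n43 = 0 ∧ n44 = 0 := by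
  have e9 : n9 = 0 := by
    by_contra hne
    have : 1 ≤ n9 := Nat.one_le_iff_ne_zero.mpr hne
    linarith
  have e10 : n10 = 0 := by
    by_contra hne
    have : 1 ≤ n10 := Nat.one_le_iff_ne_zero.mpr hne
    linarith
  have e11 : n11 = 0 := by
    by_contra hne
    have : 1 ≤ n11 := Nat.one_le_iff_ne_zero.mpr hne
    linarith
  have e15 : n15 = 0 := by
    by_contra hne
    have : 1 ≤ n15 := Nat.one_le_iff_ne_zero.mpr hne
    linarith
  have e16 : n16 = 0 := by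
    by_contra hne
    have : 1 ≤ n16 := Nat.one_le_iff_ne_zero.mpr hne
    linarith
  have e17 : n17 = 0 := by
    by_contra hne
    have : 1 ≤ n17 := Nat.one_le_iff_ne_zero.mpr hne
    linarith
  have e18 : n18 = 0 := by
    by_contra hne
    have : 1 ≤ n18 := Nat.one_le_iff_ne_zero.mpr hne
    linarith
  have e19 : n19 = 0 := by
    by_contra hne
    have : 1 ≤ n19 := Nat.one_le_iff_ne_zero.mpr hne
    linarith
  have e20 : n20 = 0 := by
    by_contra hne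
    have : 1 ≤ n20 := Nat.one_le_iff_ne_zero.mpr hne
    linarith
  have e21 : n21 = 0 := by
    by_contra hne
    have : 1 ≤ n21 := Nat.one_le_iff_ne_zero.mpr hne
    linarith
  have e22 : n22 = 0 := by
    by_contra hne
    have : 1 ≤ n22 := Nat.one_le_iff_ne_zero.mpr hne
    linarith
  have e23 : n23 = 0 := by
    by_contra hne
    have : 1 ≤ n23 := Nat.one_le_iff_ne_zero.mpr hne
    linarith
  have e24 : n24 = 0 := by
    by_contra hne
    have : 1 ≤ n24 := Nat.one_le_iff_ne_zero.mpr hne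
    linarith
  have e25 : n25 = 0 := by
    by_contra hne
    have : 1 ≤ n25 := Nat.one_le_iff_ne_zero.mpr hne
    linarith
  have e26 : n26 = 0 := by
    by_contra hne
    have : 1 ≤ n26 := Nat.one_le_iff_ne_zero.mpr hne
    linarith
  have e27 : n27 = 0 := by
    by_contra hne
    have : 1 ≤ n27 := Nat.one_le_iff_ne_zero.mpr hne
    linarith
  have e28 : n28 = 0 := by
    by_contra hne
    have : 1 ≤ n28 := Nat.one_le_iff_ne_zero.mpr hne
    linarith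
  have e29 : n29 = 0 := by
    by_contra hne
    have : 1 ≤ n29 := Nat.one_le_iff_ne_zero.mpr hne
    linarith
  have e33 : n33 = 0 := by
    by_contra hne
    have : 1 ≤ n33 := Nat.one_le_iff_ne_zero.mpr hne
    linarith
  have e34 : n34 = 0 := by
    by_contra hne
    have : 1 ≤ n34 := Nat.one_le_iff_ne_zero.mpr hne
    linarith
  have e35 : n35 = 0 := by
    by_contra hne
    have : 1 ≤ n35 := Nat.one_le_iff_ne_zero.mpr hne
    linarith
  have e39 : n39 = 0 := by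
    by_contra hne
    have : 1 ≤ n39 := Nat.one_le_iff_ne_zero.mpr hne
    linarith
  have e40 : n40 = 0 := by
    by_contra hne
    have : 1 ≤ n40 := Nat.one_le_iff_ne_zero.mpr hne
    linarith
  have e41 : n41 = 0 := by
    by_contra hne
    have : 1 ≤ n41 := Nat.one_le_iff_ne_zero.mpr hne
    linarith
  have e42 : n42 = 0 := by
    by_contra hne
    have : 1 ≤ n42 := Nat.one_le_iff_ne_zero.mpr hne
    linarith
  have e43 : n43 = 0 := by
    by_contra hne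
    have : 1 ≤ n43 := Nat.one_le_iff_ne_zero.mpr hne
    linarith
  have e44 : n44 = 0 := by
    by_contra hne
    have : 1 ≤ n44 := Nat.one_le_iff_ne_zero.mpr hne
    linarith
  subst e9 e10 e11 e15 e16 e17 e18 e19 e20 e21 e22 e23 e24 e25 e26 e27 e28 e29 e33 e34 e35 e39 e40 e41 e42 e43 e44
  omega

end Cfsg.Agent.Lib.Nine.V4Solve
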