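import Mathlib
import Cfsg.Agent.Lib.Nine.V4Solve

/-!
# The lattice classification behind the `3² : 2²` coherence
-/

set_option autoImplicit false
set_option maxRecDepth 1000000
set_option maxHeartbeats 4000000
set_option synthInstance.maxHeartbeats 2000000
set_option synthInstance.maxSize 2000
set_option linter.unusedSectionVars false
set_option linter.unusedSimpArgs false

namespace Cfsg.Agent.Lib.Nine.V4Coh

def c0 : Fin 46 → ℤ := ![1, 0, 0, 1, 0, 0, -1, 0, 0, 0, 0, 0, 0, 0, 0, 0, 0, 0, 1, 1, 1, 1, 1, 1, 1, 1, 1, 1, 1, 1, 1, 1, 1, 1, 1, 1, 1, 1, 1, 1, 1, 1, 1, 1, 1, 0]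
def c1 : Fin 46 → ℤ := ![0, 1, 0, 0, 1, 0, 0, -1, 0, 0, 0, 0, 1, 1, 1, 1, 1, 1, -1, -1, -1, -1, -1, -1, -1, -1, -1, -1, -1, -1, 0, 0, 0, 0, 0, 0, 1, 1, 1, 1, 1, 1, 1, 1, 1, 0]
def c2 : Fin 46 → ℤ := ![0, 0, 1, 0, 0, 1, 0, 0, -1, 1, 1, 1, -1, -1, -1, 0, 0, 0, -1, -1, -1, -1, -1, -1, 1, 1, 1, 1, 1, 1, -1, -1, -1, 0, 0, 0, 0, 0, 0, 1, 1, 1, 1, 1, 1, 0]
def d0 : Fin 46 → ℤ := ![1, 1, -1, 0, 0, 0, 0, 0, 0, -1, -1, 1, 0, 1, 1, -1, 1, 1, -1, 0, 0, 1, 1, 1, -1, -1, -1, 0, 0, 1, 0, 1, 1, -1, 1, 1, 0, 1, 1, -1, 0, 0, 1, 1, 1, 0]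
def d1 : Fin 46 → ℤ := ![0, 0, 0, 1, 1, -1, 0, 0, 0, -1, 1, -1, 1, 0, 1, 1, -1, 1, 1, 0, 1, -1, 0, 1, -1, 0, 1, -1, 0, -1, 1, 0, 1, 1, -1, 1, 1, 0, 1, 1, 0, 1, -1, 0, 1, 0]
def d2 : Fin 46 → ℤ := ![0, 0, 0, 0, 0, 0, 1, 1, -1, -1, 1, 1, -1, -1, 0, -1, -1, 1, -1, -1, 0, -1, 0, 1, -1, 0, 1, 0, 1, 1, -1, -1, 0, -1, -1, 1, -1, -1, 0, -1, -1, 0, -1, 0, 1, 0]

def sgn : Bool → ℤ
  | true => 1
  | false => -1

def tbl : Fin 3 → ℤ := ![-1, 0, 1]

theorem exists_cls_fin : ∀ a b c d e f : Fin 3,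
    tbl a + tbl b - tbl c = tbl d + tbl e - tbl f →
    ((tbl a = 0 ∧ tbl b = 0 ∧ tbl c = 0 ∧ tbl d = 0 ∧ tbl e = 0 ∧ tbl f = 0) ∨
      (tbl a + tbl b + 2 * tbl c ≠ 0 ∧ tbl d + tbl e + 2 * tbl f ≠ 0 ∧ tbl a + tbl b - tbl c ≠ 0)) →
    ∃ (j : Fin 46) (s : Bool), tbl a = sgn s * c0 j ∧ tbl b = sgn s * c1 j ∧ tbl c = sgn s * c2 j ∧
      tbl d = sgn s * d0 j ∧ tbl e = sgn s * d1 j ∧ tbl f = sgn s * d2 j := by
  decide +kernel

theorem tbl_surj {a : ℤ} (h : a = -1 ∨ a = 0 ∨ a = 1) : ∃ i : Fin 3, tbl i = a := by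
  rcases h with rfl | rfl | rfl
  · exact ⟨0, rfl⟩
  · exact ⟨1, rfl⟩
  · exact ⟨2, rfl⟩

theorem exists_cls {a b c d e f : ℤ} (ha : a = -1 ∨ a = 0 ∨ a = 1) (hb : b = -1 ∨ b = 0 ∨ b = 1)
    (hc : c = -1 ∨ c = 0 ∨ c = 1) (hd : d = -1 ∨ d = 0 ∨ d = 1) (he : e = -1 ∨ e = 0 ∨ e = 1)
    (hf' : f = -1 ∨ f = 0 ∨ f = 1) (hrel : a + b - c = d + e - f)
    (hf : (a = 0 ∧ b = 0 ∧ c = 0 ∧ d = 0 ∧ e = 0 ∧ f = 0) ∨
      (a + b + 2 * c ≠ 0 ∧ d + e + 2 * f ≠ 0 ∧ a + b - c ≠ 0)) :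
    ∃ (j : Fin 46) (s : ℤ), (s = 1 ∨ s = -1) ∧ a = s * c0 j ∧ b = s * c1 j ∧ c = s * c2 j ∧
      d = s * d0 j ∧ e = s * d1 j ∧ f = s * d2 j := by
  obtain ⟨a', rfl⟩ := tbl_surj ha
  obtain ⟨b', rfl⟩ := tbl_surj hb
  obtain ⟨c', rfl⟩ := tbl_surj hc
  obtain ⟨d', rfl⟩ := tbl_surj hd
  obtain ⟨e', rfl⟩ := tbl_surj he
  obtain ⟨f', rfl⟩ := tbl_surj hf'
  obtain ⟨j, s, h⟩ := exists_cls_fin a' b' c' d' e' f' hrel hf
  refine ⟨j, sgn s, ?_, h⟩
  cases s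
  · right; rfl
  · left; rfl

variable {ι : Type*} [Fintype ι] [DecidableEq ι]

theorem entry_bound (a : ι → ℤ) (h1 : ∑ i, a i * a i = 3) (i : ι) : a i = -1 ∨ a i = 0 ∨ a i = 1 := by
  have h2 : a i * a i ≤ 3 := by
    rw [← h1]
    exact Finset.single_le_sum (f := fun i => a i * a i) (fun j _ => mul_self_nonneg _) (Finset.mem_univ i)
  have h3 : -1 ≤ a i := by nlinarith
  have h4 : a i ≤ 1 := by nlinarith
  omega

theorem sum_cls (cl : ι → Fin 46) (f : Fin 46 → ℤ) :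
    ∑ i, f (cl i) = ∑ j, ((Finset.univ.filter (fun i => cl i = j)).card : ℤ) * f j := by
  rw [← Finset.sum_fiberwise (s := Finset.univ) (g := cl)]
  refine Finset.sum_congr rfl fun j _ => ?_
  rw [Finset.sum_congr rfl (g := fun _ => f j) (fun i hi => by rw [(Finset.mem_filter.mp hi).2]),
    Finset.sum_const, nsmul_eq_mul]

/-- The classification of the vectors. -/
theorem classify_k (r0 r1 r2 s0 s1 s2 : ι → ℤ)
    (g00 : ∑ i, r0 i * r0 i = 3)
    (g01 : ∑ i, r0 i * r1 i = 0)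
    (g02 : ∑ i, r0 i * r2 i = 0)
    (g03 : ∑ i, r0 i * s0 i = 1)
    (g04 : ∑ i, r0 i * s1 i = 1)
    (g05 : ∑ i, r0 i * s2 i = -1)
    (g11 : ∑ i, r1 i * r1 i = 3)
    (g12 : ∑ i, r1 i * r2 i = 0)
    (g13 : ∑ i, r1 i * s0 i = 1)
    (g14 : ∑ i, r1 i * s1 i = 1)
    (g15 : ∑ i, r1 i * s2 i = -1)
    (g22 : ∑ i, r2 i * r2 i = 3)
    (g23 : ∑ i, r2 i * s0 i = -1)
    (g24 : ∑ i, r2 i * s1 i = -1)
    (g25 : ∑ i, r2 i * s2 i = 1)
    (g33 : ∑ i, s0 i * s0 i = 3)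
    (g34 : ∑ i, s0 i * s1 i = 0)
    (g35 : ∑ i, s0 i * s2 i = 0)
    (g44 : ∑ i, s1 i * s1 i = 3)
    (g45 : ∑ i, s1 i * s2 i = 0)
    (g55 : ∑ i, s2 i * s2 i = 3)
    (hrel : ∀ i, r0 i + r1 i - r2 i = s0 i + s1 i - s2 i)
    (hf : ∀ i, (r0 i = 0 ∧ r1 i = 0 ∧ r2 i = 0 ∧ s0 i = 0 ∧ s1 i = 0 ∧ s2 i = 0) ∨
      (r0 i + r1 i + 2 * r2 i ≠ 0 ∧ s0 i + s1 i + 2 * s2 i ≠ 0 ∧ r0 i + r1 i - r2 i ≠ 0)) :
    ∃ (x : Fin 9 → ι) (s : Fin 9 → ℤ), Function.Injective x ∧ (∀ l, s l = 1 ∨ s l = -1) ∧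
      (∀ l, r0 (x l) = s l * c0 (Fin.castLE (by norm_num) l) ∧
        r1 (x l) = s l * c1 (Fin.castLE (by norm_num) l) ∧
        r2 (x l) = s l * c2 (Fin.castLE (by norm_num) l) ∧
        s0 (x l) = s l * d0 (Fin.castLE (by norm_num) l) ∧
        s1 (x l) = s l * d1 (Fin.castLE (by norm_num) l) ∧
        s2 (x l) = s l * d2 (Fin.castLE (by norm_num) l)) ∧
      ∀ i, i ∉ Set.range x → r0 i = 0 ∧ r1 i = 0 ∧ r2 i = 0 ∧ s0 i = 0 ∧ s1 i = 0 ∧ s2 i = 0 := by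
  classical
  have b0 := entry_bound r0 g00
  have b1 := entry_bound r1 g11
  have b2 := entry_bound r2 g22
  have b3 := entry_bound s0 g33
  have b4 := entry_bound s1 g44
  have b5 := entry_bound s2 g55
  choose cl s hs h0 h1 h2 h3 h4 h5 using
    fun i => exists_cls (b0 i) (b1 i) (b2 i) (b3 i) (b4 i) (b5 i) (hrel i) (hf i)
  have hss : ∀ i, s i * s i = 1 := by
    intro i
    rcases hs i with h | h <;> rw [h] <;> norm_num
  set n : Fin 46 → ℕ := fun j => (Finset.univ.filter (fun i => cl i = j)).card with hn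
  have key : ∀ (a b : ι → ℤ) (ca cb : Fin 46 → ℤ), (∀ i, a i = s i * ca (cl i)) →
      (∀ i, b i = s i * cb (cl i)) →
      ∑ i, a i * b i = ∑ j, (n j : ℤ) * (ca j * cb j) := by
    intro a b ca cb ha hb
    rw [← sum_cls cl (fun j => ca j * cb j)]
    refine Finset.sum_congr rfl fun i _ => ?_
    rw [ha i, hb i]
    linear_combination (ca (cl i) * cb (cl i)) * hss i
  have e00 := key r0 r0 c0 c0 h0 h0
  rw [g00] at e00
  have e01 := key r0 r1 c0 c1 h0 h1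
  rw [g01] at e01
  have e02 := key r0 r2 c0 c2 h0 h2
  rw [g02] at e02
  have e03 := key r0 s0 c0 d0 h0 h3
  rw [g03] at e03
  have e04 := key r0 s1 c0 d1 h0 h4
  rw [g04] at e04
  have e05 := key r0 s2 c0 d2 h0 h5
  rw [g05] at e05
  have e11 := key r1 r1 c1 c1 h1 h1
  rw [g11] at e11
  have e12 := key r1 r2 c1 c2 h1 h2
  rw [g12] at e12
  have e13 := key r1 s0 c1 d0 h1 h3
  rw [g13] at e13
  have e14 := key r1 s1 c1 d1 h1 h4
  rw [g14] at e14
  have e15 := key r1 s2 c1 d2 h1 h5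
  rw [g15] at e15
  have e22 := key r2 r2 c2 c2 h2 h2
  rw [g22] at e22
  have e23 := key r2 s0 c2 d0 h2 h3
  rw [g23] at e23
  have e24 := key r2 s1 c2 d1 h2 h4
  rw [g24] at e24
  have e25 := key r2 s2 c2 d2 h2 h5
  rw [g25] at e25
  have e33 := key s0 s0 d0 d0 h3 h3
  rw [g33] at e33
  have e34 := key s0 s1 d0 d1 h3 h4
  rw [g34] at e34
  have e35 := key s0 s2 d0 d2 h3 h5
  rw [g35] at e35
  have e44 := key s1 s1 d1 d1 h4 h4
  rw [g44] at e44
  have e45 := key s1 s2 d1 d2 h4 h5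
  rw [g45] at e45
  have e55 := key s2 s2 d2 d2 h5 h5
  rw [g55] at e55
  simp [Fin.sum_univ_succ, c0, c1, c2, d0, d1, d2] at e00 e01 e02 e03 e04 e05 e11 e12 e13 e14 e15 e22 e23 e24 e25 e33 e34 e35 e44 e45 e55
  obtain ⟨z0, z1, z2, z3, z4, z5, z6, z7, z8, z9, z10, z11, z12, z13, z14, z15, z16, z17, z18, z19, z20, z21, z22, z23, z24, z25, z26, z27, z28, z29, z30, z31, z32, z33, z34, z35, z36, z37, z38, z39, z40, z41, z42, z43, z44⟩ := Cfsg.Agent.Lib.Nine.V4Solve.solve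
    (n 0) (n 1) (n 2) (n 3) (n 4) (n 5) (n 6) (n 7) (n 8) (n 9) (n 10) (n 11) (n 12) (n 13) (n 14) (n 15) (n 16) (n 17) (n 18) (n 19) (n 20) (n 21) (n 22) (n 23) (n 24) (n 25) (n 26) (n 27) (n 28) (n 29) (n 30) (n 31) (n 32) (n 33) (n 34) (n 35) (n 36) (n 37) (n 38) (n 39) (n 40) (n 41) (n 42) (n 43) (n 44)
    (by zify; linear_combination (-1 : ℤ) * e00)
    (by zify; linear_combination (-1 : ℤ) * e01)
    (by zify; linear_combination (-1 : ℤ) * e02)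
    (by zify; linear_combination (-1 : ℤ) * e03)
    (by zify; linear_combination (-1 : ℤ) * e04)
    (by zify; linear_combination (-1 : ℤ) * e05)
    (by zify; linear_combination (-1 : ℤ) * e11)
    (by zify; linear_combination (-1 : ℤ) * e12)
    (by zify; linear_combination (-1 : ℤ) * e13)
    (by zify; linear_combination (-1 : ℤ) * e14)
    (by zify; linear_combination (-1 : ℤ) * e15)
    (by zify; linear_combination (-1 : ℤ) * e22)
    (by zify; linear_combination (-1 : ℤ) * e23)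
    (by zify; linear_combination (-1 : ℤ) * e24)
    (by zify; linear_combination (-1 : ℤ) * e25)
    (by zify; linear_combination (-1 : ℤ) * e33)
    (by zify; linear_combination (-1 : ℤ) * e34)
    (by zify; linear_combination (-1 : ℤ) * e35)
    (by zify; linear_combination (-1 : ℤ) * e44)
    (by zify; linear_combination (-1 : ℤ) * e45)
    (by zify; linear_combination (-1 : ℤ) * e55)
  have hle : 9 ≤ 46 := by norm_num
  have hn1 : ∀ l : Fin 9, n (Fin.castLE hle l) = 1 := by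
    intro l
    fin_cases l
    · exact z0
    · exact z1
    · exact z2
    · exact z3
    · exact z4
    · exact z5
    · exact z6
    · exact z7
    · exact z8
  have hn0 : ∀ j : Fin 46, 9 ≤ j.val → j.val < 45 → n j = 0 := by
    intro j h h'
    obtain ⟨j, hj⟩ := j
    simp only at h h'
    interval_cases j
    · exact z9
    · exact z10
    · exact z11
    · exact z12
    · exact z13
    · exact z14
    · exact z15
    · exact z16
    · exact z17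
    · exact z18
    · exact z19
    · exact z20
    · exact z21
    · exact z22
    · exact z23
    · exact z24
    · exact z25
    · exact z26
    · exact z27
    · exact z28
    · exact z29
    · exact z30
    · exact z31
    · exact z32
    · exact z33
    · exact z34
    · exact z35
    · exact z36
    · exact z37
    · exact z38
    · exact z39
    · exact z40
    · exact z41
    · exact z42
    · exact z43
    · exact z44
  have hx : ∀ l : Fin 9, ∃ i, Finset.univ.filter (fun i => cl i = Fin.castLE hle l) = {i} :=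
    fun l => Finset.card_eq_one.mp (hn1 l)
  choose x hx using hx
  have hcl : ∀ l, cl (x l) = Fin.castLE hle l := by
    intro l
    have h5' : x l ∈ Finset.univ.filter (fun i => cl i = Fin.castLE hle l) := by
      rw [hx l]
      exact Finset.mem_singleton_self _
    exact (Finset.mem_filter.mp h5').2
  have huniq : ∀ l i, cl i = Fin.castLE hle l → i = x l := by
    intro l i h5'
    have h6 : i ∈ Finset.univ.filter (fun i => cl i = Fin.castLE hle l) :=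
      Finset.mem_filter.mpr ⟨Finset.mem_univ _, h5'⟩
    rw [hx l] at h6
    exact Finset.mem_singleton.mp h6
  refine ⟨x, fun l => s (x l), ?_, fun l => hs _, ?_, ?_⟩
  · intro l l' h5'
    have h6 := hcl l
    rw [h5', hcl l'] at h6
    exact Fin.castLE_injective hle h6.symm
  · intro l
    refine ⟨?_, ?_, ?_, ?_, ?_, ?_⟩
    · rw [h0, hcl]
    · rw [h1, hcl]
    · rw [h2, hcl]
    · rw [h3, hcl]
    · rw [h4, hcl]
    · rw [h5, hcl]
  · intro i hi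
    by_cases h5' : (cl i).val < 9
    · exfalso
      apply hi
      exact ⟨⟨(cl i).val, h5'⟩, (huniq _ i (Fin.ext rfl)).symm⟩
    · by_cases h6 : (cl i).val < 45
      · exfalso
        have h7 := hn0 (cl i) (by omega) h6
        have h8 : i ∈ Finset.univ.filter (fun i' => cl i' = cl i) :=
          Finset.mem_filter.mpr ⟨Finset.mem_univ _, rfl⟩
        rw [Finset.card_eq_zero.mp h7] at h8
        exact absurd h8 (Finset.notMem_empty _)
      · have h7 : cl i = 45 := by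
          apply Fin.ext
          have := (cl i).isLt
          change (cl i).val = 45
          omega
        rw [h0, h1, h2, h3, h4, h5, h7]
        simp [c0, c1, c2, d0, d1, d2]

def φP : Fin 9 → ℤ := ![1, 1, 2, 1, 1, 2, -1, -1, -2]
def φQ : Fin 9 → ℤ := ![1, 1, -1, 1, 1, -1, 2, 2, -2]
def φY : Fin 9 → ℤ := ![1, 1, -1, 1, 1, -1, -1, -1, 1]
def φP' : Fin 9 → ℤ := ![1, -1, 0, 1, -1, 0, -1, 1, 0]
def φQ' : Fin 9 → ℤ := ![1, 1, -1, -1, -1, 1, 0, 0, 0]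

theorem phi_P : ∀ l : Fin 9, c0 (Fin.castLE (by norm_num) l) + c1 (Fin.castLE (by norm_num) l) +
    2 * c2 (Fin.castLE (by norm_num) l) = φP l := by decide
theorem phi_Q : ∀ l : Fin 9, d0 (Fin.castLE (by norm_num) l) + d1 (Fin.castLE (by norm_num) l) +
    2 * d2 (Fin.castLE (by norm_num) l) = φQ l := by decide
theorem phi_Y : ∀ l : Fin 9, c0 (Fin.castLE (by norm_num) l) + c1 (Fin.castLE (by norm_num) l) -
    c2 (Fin.castLE (by norm_num) l) = φY l := by decide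
theorem phi_P' : ∀ l : Fin 9, c0 (Fin.castLE (by norm_num) l) - c1 (Fin.castLE (by norm_num) l) = φP' l := by
  decide
theorem phi_Q' : ∀ l : Fin 9, d0 (Fin.castLE (by norm_num) l) - d1 (Fin.castLE (by norm_num) l) = φQ' l := by
  decide

theorem bilin (p q y p' q' : ι → ℤ)
    (spp : ∑ i, p i * p i = 18) (sqq : ∑ i, q i * q i = 18) (syy : ∑ i, y i * y i = 9)
    (sp'p' : ∑ i, p' i * p' i = 6) (sq'q' : ∑ i, q' i * q' i = 6)
    (spq : ∑ i, p i * q i = 0) (spy : ∑ i, p i * y i = 0) (spp' : ∑ i, p i * p' i = 0)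
    (spq' : ∑ i, p i * q' i = 0) (sqy : ∑ i, q i * y i = 0) (sqp' : ∑ i, q i * p' i = 0)
    (sqq' : ∑ i, q i * q' i = 0) (syp' : ∑ i, y i * p' i = 0) (syq' : ∑ i, y i * q' i = 0)
    (sp'q' : ∑ i, p' i * q' i = 0) (a b c d e a' b' c' d' e' : ℤ) :
    ∑ i, (a * p i + b * q i + c * y i + d * p' i + e * q' i) *
        (a' * p i + b' * q i + c' * y i + d' * p' i + e' * q' i) =
      18 * a * a' + 18 * b * b' + 9 * c * c' + 6 * d * d' + 6 * e * e' := by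
  have E : ∀ i, (a * p i + b * q i + c * y i + d * p' i + e * q' i) *
        (a' * p i + b' * q i + c' * y i + d' * p' i + e' * q' i) =
      a * a' * (p i * p i) + b * b' * (q i * q i) + c * c' * (y i * y i) + d * d' * (p' i * p' i) +
      e * e' * (q' i * q' i) + (a * b' + b * a') * (p i * q i) + (a * c' + c * a') * (p i * y i) +
      (a * d' + d * a') * (p i * p' i) + (a * e' + e * a') * (p i * q' i) +
      (b * c' + c * b') * (q i * y i) + (b * d' + d * b') * (q i * p' i) + (b * e' + e * b') * (q i * q' i) +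
      (c * d' + d * c') * (y i * p' i) + (c * e' + e * c') * (y i * q' i) + (d * e' + e * d') * (p' i * q' i) := by
    intro i; ring
  simp only [E, Finset.sum_add_distrib, ← Finset.mul_sum, spp, sqq, syy, sp'p', sq'q', spq, spy, spp', spq', sqy,
    sqp', sqq', syp', syq', sp'q']
  ring

/-- **The classification.** -/
theorem coh (p q y p' q' : ι → ℤ)
    (c2p : ∀ i, (2 : ℤ) ∣ p i - p' i) (c2q : ∀ i, (2 : ℤ) ∣ q i - q' i) (c3p : ∀ i, (3 : ℤ) ∣ p i - y i)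
    (c3q : ∀ i, (3 : ℤ) ∣ q i - y i)
    (spp : ∑ i, p i * p i = 18) (sqq : ∑ i, q i * q i = 18) (syy : ∑ i, y i * y i = 9)
    (sp'p' : ∑ i, p' i * p' i = 6) (sq'q' : ∑ i, q' i * q' i = 6)
    (spq : ∑ i, p i * q i = 0) (spy : ∑ i, p i * y i = 0) (spp' : ∑ i, p i * p' i = 0)
    (spq' : ∑ i, p i * q' i = 0) (sqy : ∑ i, q i * y i = 0) (sqp' : ∑ i, q i * p' i = 0)
    (sqq' : ∑ i, q i * q' i = 0) (syp' : ∑ i, y i * p' i = 0) (syq' : ∑ i, y i * q' i = 0)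
    (sp'q' : ∑ i, p' i * q' i = 0)
    (hf : ∀ i, (p i = 0 ∧ q i = 0 ∧ y i = 0 ∧ p' i = 0 ∧ q' i = 0) ∨ (p i ≠ 0 ∧ q i ≠ 0 ∧ y i ≠ 0)) :
    ∃ (x : Fin 9 → ι) (s : Fin 9 → ℤ), Function.Injective x ∧ (∀ l, s l = 1 ∨ s l = -1) ∧
      (∀ l, p (x l) = s l * φP l ∧ q (x l) = s l * φQ l ∧ y (x l) = s l * φY l ∧ p' (x l) = s l * φP' l ∧
        q' (x l) = s l * φQ' l) ∧
      ∀ i, i ∉ Set.range x → p i = 0 ∧ q i = 0 ∧ y i = 0 ∧ p' i = 0 ∧ q' i = 0 := by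
  have exr0 : ∀ i, ∃ k : ℤ, 1 * p i + 0 * q i + 2 * y i + 3 * p' i + 0 * q' i = 6 * k := by
    intro i
    have hc2p := c2p i
    have hc3p := c3p i
    exact (by omega : (6 : ℤ) ∣ 1 * p i + 0 * q i + 2 * y i + 3 * p' i + 0 * q' i)
  choose r0 hr0 using exr0
  have exr1 : ∀ i, ∃ k : ℤ, 1 * p i + 0 * q i + 2 * y i + -3 * p' i + 0 * q' i = 6 * k := by
    intro i
    have hc2p := c2p i
    have hc3p := c3p i
    exact (by omega : (6 : ℤ) ∣ 1 * p i + 0 * q i + 2 * y i + -3 * p' i + 0 * q' i)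
  choose r1 hr1 using exr1
  have exr2 : ∀ i, ∃ k : ℤ, 2 * p i + 0 * q i + -2 * y i + 0 * p' i + 0 * q' i = 6 * k := by
    intro i
    have hc3p := c3p i
    exact (by omega : (6 : ℤ) ∣ 2 * p i + 0 * q i + -2 * y i + 0 * p' i + 0 * q' i)
  choose r2 hr2 using exr2
  have exs0 : ∀ i, ∃ k : ℤ, 0 * p i + 1 * q i + 2 * y i + 0 * p' i + 3 * q' i = 6 * k := by
    intro i
    have hc2q := c2q i
    have hc3q := c3q i
    exact (by omega : (6 : ℤ) ∣ 0 * p i + 1 * q i + 2 * y i + 0 * p' i + 3 * q' i)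
  choose s0 hs0 using exs0
  have exs1 : ∀ i, ∃ k : ℤ, 0 * p i + 1 * q i + 2 * y i + 0 * p' i + -3 * q' i = 6 * k := by
    intro i
    have hc2q := c2q i
    have hc3q := c3q i
    exact (by omega : (6 : ℤ) ∣ 0 * p i + 1 * q i + 2 * y i + 0 * p' i + -3 * q' i)
  choose s1 hs1 using exs1
  have exs2 : ∀ i, ∃ k : ℤ, 0 * p i + 2 * q i + -2 * y i + 0 * p' i + 0 * q' i = 6 * k := by
    intro i
    have hc3q := c3q i
    exact (by omega : (6 : ℤ) ∣ 0 * p i + 2 * q i + -2 * y i + 0 * p' i + 0 * q' i)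
  choose s2 hs2 using exs2
  have B := bilin p q y p' q' spp sqq syy sp'p' sq'q' spq spy spp' spq' sqy sqp' sqq' syp' syq' sp'q'
  have gram : ∀ (ka kb : ι → ℤ) (a b c d e a' b' c' d' e' g : ℤ),
      (∀ i, a * p i + b * q i + c * y i + d * p' i + e * q' i = 6 * ka i) →
      (∀ i, a' * p i + b' * q i + c' * y i + d' * p' i + e' * q' i = 6 * kb i) →
      18 * a * a' + 18 * b * b' + 9 * c * c' + 6 * d * d' + 6 * e * e' = 36 * g → ∑ i, ka i * kb i = g := by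
    intro ka kb a b c d e a' b' c' d' e' g ha hb hg
    have h5 := B a b c d e a' b' c' d' e'
    simp only [ha, hb] at h5
    have h6 : ∑ i, 6 * ka i * (6 * kb i) = 36 * ∑ i, ka i * kb i := by
      rw [Finset.mul_sum]
      exact Finset.sum_congr rfl fun i _ => by ring
    rw [h6, hg] at h5
    linarith
  have g00 := gram r0 r0 _ _ _ _ _ _ _ _ _ _ (3) hr0 hr0 (by norm_num)
  have g01 := gram r0 r1 _ _ _ _ _ _ _ _ _ _ (0) hr0 hr1 (by norm_num)
  have g02 := gram r0 r2 _ _ _ _ _ _ _ _ _ _ (0) hr0 hr2 (by norm_num)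
  have g03 := gram r0 s0 _ _ _ _ _ _ _ _ _ _ (1) hr0 hs0 (by norm_num)
  have g04 := gram r0 s1 _ _ _ _ _ _ _ _ _ _ (1) hr0 hs1 (by norm_num)
  have g05 := gram r0 s2 _ _ _ _ _ _ _ _ _ _ (-1) hr0 hs2 (by norm_num)
  have g11 := gram r1 r1 _ _ _ _ _ _ _ _ _ _ (3) hr1 hr1 (by norm_num)
  have g12 := gram r1 r2 _ _ _ _ _ _ _ _ _ _ (0) hr1 hr2 (by norm_num)
  have g13 := gram r1 s0 _ _ _ _ _ _ _ _ _ _ (1) hr1 hs0 (by norm_num)
  have g14 := gram r1 s1 _ _ _ _ _ _ _ _ _ _ (1) hr1 hs1 (by norm_num)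
  have g15 := gram r1 s2 _ _ _ _ _ _ _ _ _ _ (-1) hr1 hs2 (by norm_num)
  have g22 := gram r2 r2 _ _ _ _ _ _ _ _ _ _ (3) hr2 hr2 (by norm_num)
  have g23 := gram r2 s0 _ _ _ _ _ _ _ _ _ _ (-1) hr2 hs0 (by norm_num)
  have g24 := gram r2 s1 _ _ _ _ _ _ _ _ _ _ (-1) hr2 hs1 (by norm_num)
  have g25 := gram r2 s2 _ _ _ _ _ _ _ _ _ _ (1) hr2 hs2 (by norm_num)
  have g33 := gram s0 s0 _ _ _ _ _ _ _ _ _ _ (3) hs0 hs0 (by norm_num)
  have g34 := gram s0 s1 _ _ _ _ _ _ _ _ _ _ (0) hs0 hs1 (by norm_num)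
  have g35 := gram s0 s2 _ _ _ _ _ _ _ _ _ _ (0) hs0 hs2 (by norm_num)
  have g44 := gram s1 s1 _ _ _ _ _ _ _ _ _ _ (3) hs1 hs1 (by norm_num)
  have g45 := gram s1 s2 _ _ _ _ _ _ _ _ _ _ (0) hs1 hs2 (by norm_num)
  have g55 := gram s2 s2 _ _ _ _ _ _ _ _ _ _ (3) hs2 hs2 (by norm_num)
  have hp : ∀ i, p i = r0 i + r1 i + 2 * r2 i := by
    intro i; have := hr0 i; have := hr1 i; have := hr2 i; omega
  have hy : ∀ i, y i = r0 i + r1 i - r2 i := by
    intro i; have := hr0 i; have := hr1 i; have := hr2 i; omega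
  have hp' : ∀ i, p' i = r0 i - r1 i := by
    intro i; have := hr0 i; have := hr1 i; omega
  have hq : ∀ i, q i = s0 i + s1 i + 2 * s2 i := by
    intro i; have := hs0 i; have := hs1 i; have := hs2 i; omega
  have hy' : ∀ i, y i = s0 i + s1 i - s2 i := by
    intro i; have := hs0 i; have := hs1 i; have := hs2 i; omega
  have hq' : ∀ i, q' i = s0 i - s1 i := by
    intro i; have := hs0 i; have := hs1 i; omega
  obtain ⟨x, s, hinj, hs, hv, hz⟩ := classify_k r0 r1 r2 s0 s1 s2 g00 g01 g02 g03 g04 g05 g11 g12 g13 g14 g15 g22 g23 g24 g25 g33 g34 g35 g44 g45 g55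
    (fun i => by rw [← hy, hy']) (by
      intro i
      rcases hf i with ⟨a, b, c, d, e⟩ | ⟨a, b, c⟩
      · left
        have := hr0 i; have := hr1 i; have := hr2 i; have := hs0 i; have := hs1 i; have := hs2 i
        omega
      · right
        rw [← hp, ← hq, ← hy]
        exact ⟨a, b, c⟩)
  refine ⟨x, s, hinj, hs, ?_, ?_⟩
  · intro l
    obtain ⟨a, b, c, d, e, f⟩ := hv l
    refine ⟨?_, ?_, ?_, ?_, ?_⟩
    · rw [hp, a, b, c, ← phi_P l]; ring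
    · rw [hq, d, e, f, ← phi_Q l]; ring
    · rw [hy, a, b, c, ← phi_Y l]; ring
    · rw [hp', a, b, ← phi_P' l]; ring
    · rw [hq', d, e, ← phi_Q' l]; ring
  · intro i hi
    obtain ⟨a, b, c, d, e, f⟩ := hz i hi
    refine ⟨?_, ?_, ?_, ?_, ?_⟩
    · rw [hp, a, b, c]; norm_num
    · rw [hq, d, e, f]; norm_num
    · rw [hy, a, b, c]; norm_num
    · rw [hp', a, b]; norm_num
    · rw [hq', d, e]; norm_num

end Cfsg.Agent.Lib.Nine.V4Coh
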